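import Groth.Agent.Lib.HodgeIndex.IdealMul
import Groth.Agent.Lib.HodgeIndex.IdealLe
import Groth.Agent.Lib.K0Sub.Killed
import Groth.Agent.Lib.K0Sub.PushExact
import Groth.Agent.Lib.Snapper.Intersection
import Mathlib.CategoryTheory.Abelian.DiagramLemmas.KernelCokernelComp

/-!
# The sequence of a sum of two effective divisors
-/

set_option autoImplicit false
set_option backward.isDefEq.respectTransparency false
set_option linter.all false

universe u

open CategoryTheory CategoryTheory.Limits AlgebraicGeometry TopologicalSpace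

noncomputable section

namespace GrothLib.ArSurf29

open GrothLib.QCoh (stalkLin)
open GrothLib.OmegaBC (sval)

variable {X : Scheme.{u}}

/-- The direct image of the structure sheaf is the quotient by the ideal. -/
def pushUnitIsoQuot {Z : Scheme.{u}} (i : Z ⟶ X) [IsClosedImmersion i] :
    (Scheme.Modules.pushforward i).obj (Coh.structureModule Z) ≅ ClSub.quotMod i.ker :=
  haveI : IsIso (ClSub.unitToPush i.toImage) := Scheme.Modules.Hom.isIso_iff_isIso_app.2 fun U => by
    rw [ConcreteCategory.isIso_iff_bijective]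
    exact ConcreteCategory.bijective_of_isIso (i.toImage.app U)
  eqToIso (congrArg (fun j => (Scheme.Modules.pushforward j).obj (Coh.structureModule Z)) i.toImage_imageι.symm) ≪≫
    ((Scheme.Modules.pushforwardComp i.toImage i.imageι).app (Coh.structureModule Z)).symm ≪≫
      (Scheme.Modules.pushforward i.imageι).mapIso (asIso (ClSub.unitToPush i.toImage)).symm

/-- A monomorphism onto an ideal is the inclusion of that ideal. -/
theorem exists_iso_comp_idealModι {A : X.Modules} (f : A ⟶ Coh.structureModule X) (I : X.IdealSheafData)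
    (hinj : ∀ x, Function.Injective (stalkLin f x))
    (h : ∀ x, LinearMap.range (stalkLin f x) = LinearMap.range (stalkLin (ClSub.idealModι I) x)) :
    ∃ e : A ≅ ClSub.idealMod I, e.hom ≫ ClSub.idealModι I = f := by
  have hz : f ≫ ClSub.toSubscheme I = 0 := by
    refine Scheme.Modules.hom_ext _ _ fun U => AddCommGrpCat.ext fun s => ?_
    refine QCoh.section_eq_zero_of_germ (ClSub.quotMod I) _ fun x hx => ?_
    have e := QCoh.stalkLin_germ (f ≫ ClSub.toSubscheme I) hx s
    rw [HodgeIndex.stalkLin_comp_apply] at e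
    refine e.symm.trans ?_
    obtain ⟨w, hw⟩ : stalkLin f x (A.presheaf.germ U x hx s) ∈ LinearMap.range (stalkLin (ClSub.idealModι I) x) := by
      rw [← h x]; exact LinearMap.mem_range_self _ _
    rw [← hw, ← HodgeIndex.stalkLin_comp_apply,
      show ClSub.idealModι I ≫ ClSub.toSubscheme I = 0 from kernel.condition _, Kodaira.stalkLin_zero_apply]
  let l : A ⟶ ClSub.idealMod I := kernel.lift _ f hz
  have hl : l ≫ ClSub.idealModι I = f := kernel.lift_ι _ _ _
  haveI : Mono (ClSub.idealModι I) := inferInstanceAs (Mono (kernel.ι (ClSub.toSubscheme I)))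
  haveI : IsIso l := (OX.isIso_iff l).2 fun x =>
    (ConcreteCategory.isIso_iff_bijective _).2 ⟨fun a b hab => hinj x ?_, fun w => ?_⟩
  · exact ⟨asIso l, hl⟩
  · have hab' : stalkLin l x a = stalkLin l x b := hab
    rw [← hl, HodgeIndex.stalkLin_comp_apply, HodgeIndex.stalkLin_comp_apply, hab']
  · obtain ⟨v, hv⟩ : stalkLin (ClSub.idealModι I) x w ∈ LinearMap.range (stalkLin f x) := by
      rw [h x]; exact LinearMap.mem_range_self _ _
    refine ⟨v, QCoh.stalkLin_injective (ClSub.idealModι I) x ?_⟩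
    rw [← hv, ← hl, HodgeIndex.stalkLin_comp_apply]
    rfl

theorem shortExact_ideal (I : X.IdealSheafData) :
    (ShortComplex.mk (ClSub.idealModι I) (ClSub.toSubscheme I) (kernel.condition _)).ShortExact := by
  let S := ShortComplex.mk (ClSub.idealModι I) (ClSub.toSubscheme I) (kernel.condition _)
  haveI : Mono S.f := inferInstanceAs (Mono (kernel.ι (ClSub.toSubscheme I)))
  haveI : Epi S.g := Euler.epi_toSubscheme I
  exact { exact := ShortComplex.exact_of_f_is_kernel _ (kernelIsKernel _) }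

/-- The product of ideals as the image of the tensor product. -/
theorem exists_iso_mul (D K : X.IdealSheafData) (hD : PicF.IsInvertible (ClSub.idealMod D))
    (hK : PicF.IsInvertible (ClSub.idealMod K)) :
    ∃ e : CohB1.tensorMod (ClSub.idealMod D) (ClSub.idealMod K) ≅ ClSub.idealMod (D * K),
      e.hom ≫ ClSub.idealModι (D * K) =
        (((DCoh.tensorBi (X := X)).obj (ClSub.idealMod D)).map (ClSub.idealModι K) ≫
          (Euler.tFUnitIso (ClSub.idealMod D)).hom) ≫ ClSub.idealModι D := by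
  let g := ((DCoh.tensorBi (X := X)).obj (ClSub.idealMod D)).map (ClSub.idealModι K)
  let e := Euler.tFUnitIso (ClSub.idealMod D)
  let f : CohB1.tensorMod (ClSub.idealMod D) (ClSub.idealMod K) ⟶ Coh.structureModule X :=
    g ≫ e.hom ≫ ClSub.idealModι D
  have main : ∀ x : X, Function.Injective (stalkLin f x) ∧
      LinearMap.range (stalkLin f x) = LinearMap.range (stalkLin (ClSub.idealModι (D * K)) x) := by
    intro x
    obtain ⟨tD, htD⟩ := Ref1.exists_gen_of_isInvertible hD x
    obtain ⟨tK, htK⟩ := Ref1.exists_gen_of_isInvertible hK x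
    let b := sval K x tK
    let θ : (ClSub.idealMod D).presheaf.stalk x → (ClSub.idealMod D).presheaf.stalk x := fun v =>
      stalkLin e.hom x (Ref1.tmulStalk (ClSub.idealMod D) (Coh.structureModule X) x v (HomSh.unitStalk x 1))
    have hgen : ∀ v : (ClSub.idealMod D).presheaf.stalk x,
        stalkLin f x (Ref1.tmulStalk _ _ x v tK) = HomSh.unitStalk x (b * sval D x (θ v)) := fun v => by
      rw [show stalkLin f x (Ref1.tmulStalk _ _ x v tK) = _ from HodgeIndex.stalkLin_comp_apply g (e.hom ≫ ClSub.idealModι D) x _,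
        HodgeIndex.stalkLin_comp_apply, show stalkLin g x (Ref1.tmulStalk _ _ x v tK) = _ from Goodman.stalkLin_tensor_tmul _ _ x v tK,
        Goodman.stalkLin_idealModι K x tK, show HomSh.unitStalk x b = b • HomSh.unitStalk x 1 by
          rw [← map_smul, smul_eq_mul, mul_one], map_smul, map_smul, map_smul, Goodman.stalkLin_idealModι,
        ← map_smul, smul_eq_mul]
      rfl
    have hθ : Function.Bijective θ := by
      refine Function.Bijective.comp ?_ (TensorGen.bijective_tmulStalk _ _ (Ref1.gen_unitStalk x))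
      exact (ConcreteCategory.isIso_iff_bijective ((OX.stalk x).map e.hom)).1 inferInstance
    have hb0 : ∀ c : X.presheaf.stalk x, c * b = 0 → c = 0 := fun c hc => by
      have h' : c • tK = (0 : X.presheaf.stalk x) • tK := OmegaBC.sval_injective K x (by
        rw [zero_smul]
        exact ((sval K x).map_smul c tK).trans (hc.trans (map_zero _).symm))
      exact htK.1 h'
    constructor
    · intro p q hpq
      obtain ⟨v, rfl⟩ := (TensorGen.bijective_tmulStalk _ _ htK).2 p
      obtain ⟨v', rfl⟩ := (TensorGen.bijective_tmulStalk _ _ htK).2 q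
      dsimp only at hpq ⊢
      rw [hgen, hgen, (HomSh.unitStalk x).injective.eq_iff, ← sub_eq_zero, ← mul_sub, mul_comm] at hpq
      rw [hθ.1 (OmegaBC.sval_injective D x (sub_eq_zero.1 (hb0 _ hpq)))]
    · have hKx : Goodman.st K x = Ideal.span {b} := le_antisymm (by
        rintro _ ⟨w, rfl⟩
        obtain ⟨c, rfl⟩ := htK.2 w
        exact Ideal.mem_span_singleton'.2 ⟨c, ((sval K x).map_smul c tK).symm⟩)
        ((Ideal.span_singleton_le_iff_mem _).2 (LinearMap.mem_range_self _ tK))
      rw [HodgeIndex.range_idealModι, Goodman.st_mul, hKx]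
      ext w
      constructor
      · rintro ⟨p, rfl⟩
        obtain ⟨v, rfl⟩ := (TensorGen.bijective_tmulStalk _ _ htK).2 p
        dsimp only
        rw [hgen]
        exact ⟨_, Ideal.mul_mem_mul_rev (LinearMap.mem_range_self _ _) (Ideal.mem_span_singleton_self b), rfl⟩
      · rintro ⟨a, ha, rfl⟩
        obtain ⟨a', ⟨v', rfl⟩, rfl⟩ := Ideal.mem_mul_span_singleton.1 ha
        obtain ⟨v, rfl⟩ := hθ.2 v'
        refine ⟨Ref1.tmulStalk _ _ x v tK, ?_⟩
        rw [hgen, mul_comm]
        rfl
  obtain ⟨ε, hε⟩ := exists_iso_comp_idealModι f (D * K) (fun x => (main x).1) fun x => (main x).2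
  exact ⟨ε, hε.trans (Category.assoc _ _ _).symm⟩

/-- `0 ⟶ I(D) ⊗ O_K ⟶ O_{D+K} ⟶ O_D ⟶ 0`. -/
theorem exists_shortExact_mul' (D K : X.IdealSheafData) (hD : PicF.IsInvertible (ClSub.idealMod D))
    (hK : PicF.IsInvertible (ClSub.idealMod K)) :
    ∃ S : ShortComplex X.Modules, S.ShortExact ∧
      Nonempty (S.X₁ ≅ ((DCoh.tensorBi (X := X)).obj (ClSub.idealMod D)).obj (ClSub.quotMod K)) ∧
      ∃ (a₂ : S.X₂ ≅ ClSub.quotMod (D * K)) (a₃ : S.X₃ ≅ ClSub.quotMod D),
        ClSub.toSubscheme (D * K) ≫ a₂.inv ≫ S.g ≫ a₃.hom = ClSub.toSubscheme D := by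
  let F := (DCoh.tensorBi (X := X)).obj (ClSub.idealMod D)
  let SK := ShortComplex.mk (ClSub.idealModι K) (ClSub.toSubscheme K) (kernel.condition _)
  let Φ := (DCoh.tensorBi (X := X)).flip.obj (ClSub.idealMod D)
  have hflat := OX.flat_of_isFinLocFree (Euler.isFinLocFree_of_isInvertible hD)
  let ν : Φ ≅ F := (OX.tensorBraiding (X := X)).app (ClSub.idealMod D)
  haveI : Φ.PreservesZeroMorphisms := inferInstance
  haveI : F.PreservesZeroMorphisms := inferInstance
  have hT : (SK.map F).ShortExact :=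
    ShortComplex.shortExact_of_iso (SK.mapNatIso ν) (OX.tensor_map_shortExact hflat (shortExact_ideal K))
  let g := F.map (ClSub.idealModι K) ≫ (Euler.tFUnitIso (ClSub.idealMod D)).hom
  have hmono : Mono (F.map (ClSub.idealModι K)) := hT.mono_f
  haveI : Mono g := inferInstance
  let h := ClSub.idealModι D
  haveI : Mono h := inferInstanceAs (Mono (kernel.ι (ClSub.toSubscheme D)))
  let I := kernelCokernelCompSequence.snakeInput g h
  haveI : Mono I.L₃.f := by
    refine I.L₂'_exact.mono_g ?_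
    exact IsZero.eq_of_src (isZero_kernel_of_mono h) _ _
  haveI : Epi I.L₂.g := by
    dsimp only [I, kernelCokernelCompSequence.snakeInput]
    infer_instance
  haveI : Epi I.L₃.g := inferInstance
  obtain ⟨e, he⟩ := exists_iso_mul D K hD hK
  let a₂ : I.L₃.X₂ ≅ ClSub.quotMod (D * K) := (cokernel.mapIso (g ≫ h) (ClSub.idealModι (D * K)) e (Iso.refl _) (by
        rw [Iso.refl_hom, Category.comp_id]; exact he.symm)) ≪≫
      IsColimit.coconePointUniqueUpToIso (cokernelIsCokernel _) (shortExact_ideal (D * K)).gIsCokernel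
  let a₃ : I.L₃.X₃ ≅ ClSub.quotMod D :=
    IsColimit.coconePointUniqueUpToIso (cokernelIsCokernel _) (shortExact_ideal D).gIsCokernel
  have h2 : cokernel.π (g ≫ h) ≫ a₂.hom = ClSub.toSubscheme (D * K) := by
    simp only [a₂, Iso.trans_hom, cokernel.mapIso_hom]
    refine (cokernel.π_desc_assoc _ _ _ _).trans ?_
    rw [Iso.refl_hom, Category.id_comp]
    exact IsColimit.comp_coconePointUniqueUpToIso_hom (cokernelIsCokernel _) _ WalkingParallelPair.one
  have h3 : cokernel.π h ≫ a₃.hom = ClSub.toSubscheme D :=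
    IsColimit.comp_coconePointUniqueUpToIso_hom (cokernelIsCokernel _) _ WalkingParallelPair.one
  refine ⟨I.L₃, { exact := I.L₃_exact }, ⟨?_⟩, a₂, a₃, ?_⟩
  · exact cokernel.mapIso g (F.map (ClSub.idealModι K)) (Iso.refl _) (Euler.tFUnitIso (ClSub.idealMod D)).symm
      (by simp [g]) ≪≫
      IsColimit.coconePointUniqueUpToIso (cokernelIsCokernel _) hT.gIsCokernel
  · rw [← h2, Category.assoc, Iso.hom_inv_id_assoc]
    refine (cokernel.π_desc_assoc _ _ _ _).trans ?_
    rw [Category.id_comp]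
    exact h3

theorem exists_shortExact_mul (D K : X.IdealSheafData) (hD : PicF.IsInvertible (ClSub.idealMod D))
    (hK : PicF.IsInvertible (ClSub.idealMod K)) :
    ∃ S : ShortComplex X.Modules, S.ShortExact ∧
      Nonempty (S.X₁ ≅ ((DCoh.tensorBi (X := X)).obj (ClSub.idealMod D)).obj (ClSub.quotMod K)) ∧
      Nonempty (S.X₂ ≅ ClSub.quotMod (D * K)) ∧ Nonempty (S.X₃ ≅ ClSub.quotMod D) := by
  obtain ⟨S, hS, h₁, a₂, a₃, -⟩ := exists_shortExact_mul' D K hD hK
  exact ⟨S, hS, h₁, ⟨a₂⟩, ⟨a₃⟩⟩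

/-- Exact sequences of modules killed by the ideal of a closed subscheme live on it. -/
theorem shortExact_pullback_of_killed {Z : Scheme.{u}} (j : Z ⟶ X) [IsClosedImmersion j]
    {S : ShortComplex X.Modules} (hS : S.ShortExact) [S.X₁.IsQuasicoherent] [S.X₂.IsQuasicoherent]
    [S.X₃.IsQuasicoherent] (h₁ : ClSub.KilledByIdeal j.ker S.X₁) (h₂ : ClSub.KilledByIdeal j.ker S.X₂)
    (h₃ : ClSub.KilledByIdeal j.ker S.X₃) :
    ∃ T : ShortComplex Z.Modules, T.ShortExact ∧ T.X₁ = (Scheme.Modules.pullback j).obj S.X₁ ∧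
      T.X₂ = (Scheme.Modules.pullback j).obj S.X₂ ∧ T.X₃ = (Scheme.Modules.pullback j).obj S.X₃ := by
  obtain ⟨_, hl, hr⟩ := K0Sub.pushforward_exact j
  haveI := hl
  haveI := hr
  haveI := K0Sub.faithful_push j
  let adj := Scheme.Modules.pullbackPushforwardAdjunction j
  haveI : (Scheme.Modules.pullback j).IsLeftAdjoint := adj.isLeftAdjoint
  haveI : (Scheme.Modules.pullback j).Additive := adj.left_adjoint_additive
  haveI e1 : IsIso (adj.unit.app S.X₁) := QCoh.isIso_unit_of_killed j _ h₁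
  haveI e2 : IsIso (adj.unit.app S.X₂) := QCoh.isIso_unit_of_killed j _ h₂
  haveI e3 : IsIso (adj.unit.app S.X₃) := QCoh.isIso_unit_of_killed j _ h₃
  have hT : ((S.map (Scheme.Modules.pullback j)).map (Scheme.Modules.pushforward j)).ShortExact :=
    ShortComplex.shortExact_of_iso (ShortComplex.isoMk
      (@asIso _ _ _ _ _ e1)
      (@asIso _ _ _ _ _ e2)
      (@asIso _ _ _ _ _ e3)
      (adj.unit.naturality S.f).symm (adj.unit.naturality S.g).symm) hS
  haveI : Mono ((S.map (Scheme.Modules.pullback j)).f) :=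
    (Scheme.Modules.pushforward j).mono_of_mono_map hT.mono_f
  haveI : Epi ((S.map (Scheme.Modules.pullback j)).g) :=
    (Scheme.Modules.pushforward j).epi_of_epi_map hT.epi_g
  exact ⟨S.map (Scheme.Modules.pullback j),
    { exact := ((S.map (Scheme.Modules.pullback j)).exact_map_iff_of_faithful
        (Scheme.Modules.pushforward j)).mp hT.exact }, rfl, rfl, rfl⟩

/-- Killedness passes to subobjects. -/
theorem killedByIdeal_of_mono {I : X.IdealSheafData} {A B : X.Modules} (f : A ⟶ B) [Mono f]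
    (hB : ClSub.KilledByIdeal I B) : ClSub.KilledByIdeal I A := fun U a ha m => by
  refine Cohom.app_injective_of_mono f U.1 ?_
  exact ((QCoh.appLinear f U.1).map_smul a m).trans ((hB U a ha _).trans (map_zero _).symm)

theorem killedByIdeal_quotMod {I J : X.IdealSheafData} (h : I ≤ J) : ClSub.KilledByIdeal I (ClSub.quotMod J) :=
  fun U a ha m => QCoh.pushUnit_killedByIdeal J.subschemeι U a (by
    rw [Scheme.IdealSheafData.ker_subschemeι]; exact h U ha) m

theorem killedByIdeal_of_iso {I : X.IdealSheafData} {A B : X.Modules} (e : A ≅ B)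
    (hB : ClSub.KilledByIdeal I B) : ClSub.KilledByIdeal I A := killedByIdeal_of_mono e.hom hB

theorem mul_le_left' (D K : X.IdealSheafData) : D * K ≤ D := fun U => by
  show (D * K).ideal U ≤ D.ideal U
  rw [Scheme.IdealSheafData.ideal_mul, Pi.mul_apply]
  exact Ideal.mul_le_left

variable (k : Type u) [Field k] {Z W : Scheme.{u}} [Z.Over (Spec (CommRingCat.of k))]
  [W.Over (Spec (CommRingCat.of k))] [IsProper (Z ↘ Spec (CommRingCat.of k))]

/-- The Euler characteristics in the sequence of a sum of two divisors. -/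
theorem euler_mul_eq [IsLocallyNoetherian X] (D K : X.IdealSheafData) (hD : PicF.IsInvertible (ClSub.idealMod D))
    (hK : PicF.IsInvertible (ClSub.idealMod K)) (j : Z ⟶ X) [IsClosedImmersion j] (hj : j.ker = D * K)
    (i : W ⟶ Z) [IsClosedImmersion i] (hik : (i ≫ j).ker = K)
    (hi : i ≫ Z ↘ Spec (CommRingCat.of k) = W ↘ Spec (CommRingCat.of k))
    {V : Scheme.{u}} [V.Over (Spec (CommRingCat.of k))] (v : V ⟶ Z) [IsClosedImmersion v] (hvk : (v ≫ j).ker = D)
    (hv : v ≫ Z ↘ Spec (CommRingCat.of k) = V ↘ Spec (CommRingCat.of k)) :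
    Curv2.euler k Z (Coh.structureModule Z) =
      Curv2.euler k W ((Scheme.Modules.pullback (i ≫ j)).obj (ClSub.idealMod D)) +
        Curv2.euler k V (Coh.structureModule V) := by
  haveI := Euler.isNoetherian_of_proper (X := Z) k
  obtain ⟨S, hS, ⟨a₁⟩, ⟨a₂⟩, ⟨a₃⟩⟩ := exists_shortExact_mul D K hD hK
  have hlf := Euler.isFinLocFree_of_isInvertible hD
  -- the three terms as direct images from `Z`
  let E := (Scheme.Modules.pullback (i ≫ j)).obj (ClSub.idealMod D)
  haveI hE : E.IsQuasicoherent :=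
    Euler.isQuasicoherent_of_isFinLocFree (OX.isFinLocFree_pullback (i ≫ j) hlf)
  haveI hW := Cohom.isQuasicoherent_structureModule W
  have p : ∀ {Y : Scheme.{u}} (q : Y ⟶ Z) [IsClosedImmersion q] (M : Y.Modules),
      Nonempty ((Scheme.Modules.pushforward (q ≫ j)).obj M ≅ (Scheme.Modules.pushforward j).obj ((Scheme.Modules.pushforward q).obj M)) :=
    fun q _ M => ⟨((Scheme.Modules.pushforwardComp q j).app M).symm⟩
  -- quotient modules of kernels
  have pk : ∀ {Y : Scheme.{u}} (q : Y ⟶ X) [IsClosedImmersion q],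
      Nonempty (ClSub.quotMod q.ker ≅ (Scheme.Modules.pushforward q).obj (Coh.structureModule Y)) := fun q _ => by
    exact ⟨(pushUnitIsoQuot q).symm⟩
  obtain ⟨bK⟩ := pk (i ≫ j)
  rw [hik] at bK
  haveI := ProjFormula.isIso_projHom (i ≫ j) hlf (Coh.structureModule W)
  let c₁ : S.X₁ ≅ (Scheme.Modules.pushforward (i ≫ j)).obj E :=
    a₁ ≪≫ ((DCoh.tensorBi (X := X)).obj (ClSub.idealMod D)).mapIso bK ≪≫
      asIso (ProjFormula.projHom (i ≫ j) (ClSub.idealMod D) (Coh.structureModule W)) ≪≫
      (Scheme.Modules.pushforward (i ≫ j)).mapIso (Euler.tFUnitIso E)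
  obtain ⟨bZ⟩ := pk j
  rw [hj] at bZ
  obtain ⟨bV⟩ := pk (v ≫ j)
  rw [hvk] at bV
  obtain ⟨q₁⟩ := p i E
  obtain ⟨q₃⟩ := p v (Coh.structureModule V)
  let d₁ : S.X₁ ≅ (Scheme.Modules.pushforward j).obj ((Scheme.Modules.pushforward i).obj E) := c₁ ≪≫ q₁
  let d₂ : S.X₂ ≅ (Scheme.Modules.pushforward j).obj (Coh.structureModule Z) := a₂ ≪≫ bZ
  let d₃ : S.X₃ ≅ (Scheme.Modules.pushforward j).obj ((Scheme.Modules.pushforward v).obj (Coh.structureModule V)) :=
    a₃ ≪≫ bV ≪≫ q₃
  have hcZ : Coh.IsCoh (Coh.structureModule Z) := HomSh.isCoh_structureModule Z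
  have hc1 : Coh.IsCoh ((Scheme.Modules.pushforward i).obj E) :=
    K0Sub.isCoh_push i (Euler.isCoh_of_isInvertible (Kleiman.isInv_pullback (i ≫ j) hD))
  have hc3 : Coh.IsCoh ((Scheme.Modules.pushforward v).obj (Coh.structureModule V)) := QCoh.pushUnit_isCoh v
  have hq : ∀ {M : Z.Modules}, Coh.IsCoh M → Coh.IsCoh ((Scheme.Modules.pushforward j).obj M) :=
    fun hM => K0Sub.isCoh_push j hM
  haveI : S.X₁.IsQuasicoherent := (QCoh.isCoh_of_iso d₁.symm (hq hc1)).1
  haveI : S.X₂.IsQuasicoherent := (QCoh.isCoh_of_iso d₂.symm (hq hcZ)).1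
  haveI : S.X₃.IsQuasicoherent := (QCoh.isCoh_of_iso d₃.symm (hq hc3)).1
  obtain ⟨T, hT, hT₁, hT₂, hT₃⟩ := shortExact_pullback_of_killed j hS
    (killedByIdeal_of_iso d₁ (K0Sub.killedByIdeal_push j _)) (killedByIdeal_of_iso d₂ (K0Sub.killedByIdeal_push j _))
    (killedByIdeal_of_iso d₃ (K0Sub.killedByIdeal_push j _))
  let adj := Scheme.Modules.pullbackPushforwardAdjunction j
  have hcounit : ∀ {N : Z.Modules}, Coh.IsCoh N →
      Nonempty ((Scheme.Modules.pullback j).obj ((Scheme.Modules.pushforward j).obj N) ≅ N) := fun {N} hN => by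
    haveI := (hq hN).1
    haveI : IsIso (adj.unit.app ((Scheme.Modules.pushforward j).obj N)) :=
      QCoh.isIso_unit_of_killed j _ (K0Sub.killedByIdeal_push j N)
    haveI : IsIso ((Scheme.Modules.pushforward j).map (adj.counit.app N)) := by
      rw [show (Scheme.Modules.pushforward j).map (adj.counit.app N) =
        inv (adj.unit.app ((Scheme.Modules.pushforward j).obj N)) from
          IsIso.eq_inv_of_hom_inv_id (adj.right_triangle_components N)]
      infer_instance
    haveI := K0Sub.isIso_of_isIso_push j (adj.counit.app N)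
    exact ⟨asIso (adj.counit.app N)⟩
  obtain ⟨f₁⟩ := hcounit hc1
  obtain ⟨f₂⟩ := hcounit hcZ
  obtain ⟨f₃⟩ := hcounit hc3
  let P := Scheme.Modules.pullback j
  let t₁ : T.X₁ ≅ _ := eqToIso hT₁ ≪≫ P.mapIso d₁ ≪≫ f₁
  let t₂ : T.X₂ ≅ _ := eqToIso hT₂ ≪≫ P.mapIso d₂ ≪≫ f₂
  let t₃ : T.X₃ ≅ _ := eqToIso hT₃ ≪≫ P.mapIso d₃ ≪≫ f₃
  have h := Euler.euler_additive k hT (QCoh.isCoh_of_iso t₁.symm hc1) (QCoh.isCoh_of_iso t₂.symm hcZ)
    (QCoh.isCoh_of_iso t₃.symm hc3)
  rw [Euler.euler_of_iso k t₁, Euler.euler_of_iso k t₂, Euler.euler_of_iso k t₃] at h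
  haveI := Cohom.isQuasicoherent_structureModule V
  rw [h, Snapper.euler_pushforward i hi E, Snapper.euler_pushforward v hv (Coh.structureModule V)]

end GrothLib.ArSurf29
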