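import Groth.Agent.Lib.RedSmooth.Basic
import Groth.Prelude.Def_CurvBase
import Mathlib.RingTheory.MvPowerSeries.Order
import Mathlib.RingTheory.PowerSeries.NoZeroDivisors
import Mathlib.RingTheory.Filtration
import Mathlib.RingTheory.AdicCompletion.Noetherian
import Mathlib.AlgebraicGeometry.Morphisms.FiniteType

/-!
# Schemes with at most ordinary double points are reduced
-/

set_option autoImplicit false
set_option linter.all false
set_option backward.isDefEq.respectTransparency false

universe u

open CategoryTheory AlgebraicGeometry TopologicalSpace IsLocalRing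

noncomputable section

namespace GrothLib.ArSurf29

/-- A power series in two variables lies in `(xy)` when it vanishes on both axes. -/
theorem mem_span_X0X1_of_coeff {k : Type u} [CommRing k] {f : MvPowerSeries (Fin 2) k}
    (h : ∀ d : Fin 2 →₀ ℕ, d 0 = 0 ∨ d 1 = 0 → MvPowerSeries.coeff d f = 0) :
    f ∈ Ideal.span {(MvPowerSeries.X 0 * MvPowerSeries.X 1 : MvPowerSeries (Fin 2) k)} := by
  classical
  obtain ⟨g, rfl⟩ : (MvPowerSeries.X 0 : MvPowerSeries (Fin 2) k) ∣ f :=
    MvPowerSeries.X_dvd_iff.2 fun d hd => h d (.inl hd)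
  obtain ⟨g', rfl⟩ : (MvPowerSeries.X 1 : MvPowerSeries (Fin 2) k) ∣ g := by
    refine MvPowerSeries.X_dvd_iff.2 fun d hd => ?_
    have h1 := h (Finsupp.single 0 1 + d) (.inr (by simp [hd]))
    rw [MvPowerSeries.X_def, MvPowerSeries.coeff_add_monomial_mul, one_mul] at h1
    exact h1
  exact Ideal.mem_span_singleton'.2 ⟨g', by ring⟩

/-- The restriction of a power series to an axis. -/
theorem exists_axis_hom {k : Type u} [CommRing k] (s o : Fin 2) (hso : s ≠ o) :
    ∃ φ : MvPowerSeries (Fin 2) k →+* PowerSeries k, φ (MvPowerSeries.X o) = 0 ∧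
      ∀ f, φ f = 0 → ∀ d : Fin 2 →₀ ℕ, d o = 0 → MvPowerSeries.coeff d f = 0 := by
  classical
  refine ⟨{ toFun := fun f => PowerSeries.mk fun n => MvPowerSeries.coeff (Finsupp.single s n) f
            map_one' := PowerSeries.ext fun n => ?_
            map_mul' := fun f g => PowerSeries.ext fun n => ?_
            map_zero' := PowerSeries.ext fun n => ?_
            map_add' := fun f g => PowerSeries.ext fun n => ?_ }, ?_, ?_⟩
  · simp [PowerSeries.coeff_one, MvPowerSeries.coeff_one]
  · rw [PowerSeries.coeff_mk, PowerSeries.coeff_mul, MvPowerSeries.coeff_mul, Finsupp.antidiagonal_single, Finset.sum_map]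
    simp
  · simp
  · simp
  · refine PowerSeries.ext fun n => ?_
    show PowerSeries.coeff n (PowerSeries.mk fun n => MvPowerSeries.coeff (Finsupp.single s n) (MvPowerSeries.X o)) = 0
    rw [PowerSeries.coeff_mk, MvPowerSeries.coeff_X, if_neg]
    intro h
    have := congrArg (fun e : Fin 2 →₀ ℕ => e o) h
    simp [hso] at this
  · intro f hf d hd
    have h := congrArg (PowerSeries.coeff (d s)) hf
    have hd' : d = Finsupp.single s (d s) := by
      ext i
      by_cases hi : i = s
      · subst hi; simp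
      · have : i = o := by omega
        subst this; simp [hd, hso]
    rw [hd']
    simpa using h

/-- The completed local ring of an ordinary double point is reduced. -/
theorem isReduced_quot_X0X1 (k : Type u) [Field k] :
    _root_.IsReduced (MvPowerSeries (Fin 2) k ⧸
      Ideal.span {(MvPowerSeries.X 0 * MvPowerSeries.X 1 : MvPowerSeries (Fin 2) k)}) := by
  refine (Ideal.isRadical_iff_quotient_reduced _).1 fun f hf => ?_
  obtain ⟨n, hn⟩ := hf
  obtain ⟨φ, hφ, hφ'⟩ := exists_axis_hom (k := k) 1 0 (by decide)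
  obtain ⟨ψ, hψ, hψ'⟩ := exists_axis_hom (k := k) 0 1 (by decide)
  obtain ⟨c, hc⟩ := Ideal.mem_span_singleton'.1 hn
  have h1 : φ f = 0 := eq_zero_of_pow_eq_zero (n := n) (by rw [← map_pow, ← hc, map_mul, map_mul, hφ]; simp)
  have h2 : ψ f = 0 := eq_zero_of_pow_eq_zero (n := n) (by rw [← map_pow, ← hc, map_mul, map_mul, hψ]; simp)
  exact mem_span_X0X1_of_coeff fun d hd => hd.elim (hφ' f h1 d) (hψ' f h2 d)

/-- The local ring of an ordinary double point is reduced. -/
theorem isReduced_of_isOrdDoublePt {K : Type u} [Field K] {A : Type u} [CommRing A] [Algebra K A]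
    [IsLocalRing A] [IsNoetherianRing A] (h : Curv2.IsOrdDoublePt K A) : _root_.IsReduced A := by
  obtain ⟨e, -⟩ := h
  haveI := isReduced_quot_X0X1 K
  have hinj : Function.Injective (algebraMap A (AdicCompletion (maximalIdeal A) A)) := fun a b hab =>
    AdicCompletion.of_injective (maximalIdeal A) A hab
  exact isReduced_of_injective (e.toRingHom.comp (algebraMap A (AdicCompletion (maximalIdeal A) A)))
    (e.injective.comp hinj)

/-- A scheme locally of finite type over a field with reduced local rings at closed points is reduced. -/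
theorem isReduced_of_closedPoints {k : Type u} [Field k] {Y : Scheme.{u}} (g : Y ⟶ Spec (CommRingCat.of k))
    [LocallyOfFiniteType g] (h : ∀ y : Y, IsClosed ({y} : Set Y) → _root_.IsReduced (Y.presheaf.stalk y)) :
    IsReduced Y := by
  haveI : JacobsonSpace Y := LocallyOfFiniteType.jacobsonSpace g
  refine ⟨fun U => ⟨fun s hs => ?_⟩⟩
  refine TopCat.Presheaf.section_ext Y.sheaf U s 0 fun x hx => ?_
  let W : Set Y := {y | ∃ hy : y ∈ U, Y.presheaf.germ U y hy s = 0}
  have hW : IsOpen W := by
    rw [isOpen_iff_forall_mem_open]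
    rintro y ⟨hy, hy0⟩
    obtain ⟨V, hyV, i₁, i₂, heq⟩ := TopCat.Presheaf.germ_eq Y.presheaf y hy hy _ _ (hy0.trans (map_zero (Y.presheaf.germ U y hy).hom).symm)
    refine ⟨V, fun z hz => ⟨i₁.le hz, ?_⟩, V.2, hyV⟩
    rw [← TopCat.Presheaf.germ_res_apply Y.presheaf i₁ z hz s, heq, map_zero, map_zero]
  have hxW : x ∈ W := by
    by_contra hxW
    have hne : ((U : Set Y) ∩ Wᶜ).Nonempty := ⟨x, hx, hxW⟩
    obtain ⟨y, ⟨hyU, hyW⟩, hy⟩ := nonempty_inter_closedPoints hne (U.2.isLocallyClosed.inter hW.isClosed_compl.isLocallyClosed)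
    haveI := h y hy
    obtain ⟨n, hn⟩ := hs
    exact hyW ⟨hyU, IsReduced.eq_zero _ ⟨n, by rw [← map_pow, hn, map_zero]⟩⟩
  obtain ⟨hy, h0⟩ := hxW
  exact h0.trans (map_zero (Y.presheaf.germ U x hy).hom).symm

end GrothLib.ArSurf29
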