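import Groth.Agent.Lib.DivPart.Basic
import Groth.Agent.Lib.BlowUp.UFD
import Groth.Agent.Lib.NormalSerre.AssPrincipal
import Groth.Agent.Lib.RegLoc.Normal
import Groth.Agent.Lib.RegUFD.Basic
import Groth.Prelude.Def_Pi1
import Groth.Agent.Lib.CMFree.Regular
import Groth.Prelude.Def_Models

/-!
# Effective Cartier divisors on normal schemes are determined in codimension one
-/

set_option autoImplicit false
set_option linter.all false
set_option backward.isDefEq.respectTransparency false

universe u

open CategoryTheory AlgebraicGeometry TopologicalSpace IsLocalRing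

noncomputable section

namespace GrothLib.ArSurf29

open GrothLib.CartierDescent (stalkIdeal stalkIdeal_eq stalkIdeal_map_specializes exists_stalk_generator
  exists_of_mem_span_stalkSpecializes exists_specializes_eq)
open GrothLib.BlowUp (exists_affine_mem_le)

variable {X : Scheme.{u}}

theorem ringKrullDim_stalk_eq_height_of_specializes {x y : X} (h : y ⤳ x) :
    ringKrullDim (X.presheaf.stalk y) =
      ((maximalIdeal (X.presheaf.stalk y)).comap (X.presheaf.stalkSpecializes h).hom).height := by
  obtain ⟨V, hx, -⟩ := exists_affine_mem_le (W := (⊤ : X.Opens)) (x := x) trivial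
  have hy : y ∈ V.1 := h.mem_open V.1.2 hx
  let _ := TopCat.Presheaf.algebra_section_stalk X.presheaf (⟨x, hx⟩ : V.1)
  haveI := V.2.isLocalization_stalk ⟨x, hx⟩
  rw [GrothLib.BlowUp.ringKrullDim_stalk_eq_height V.2 hy]
  congr 1
  refine Eq.trans ?_ (IsLocalization.height_under (V.2.primeIdealOf ⟨x, hx⟩).asIdeal.primeCompl _)
  congr 1
  rw [Ideal.under, Ideal.comap_comap]
  refine congrArg (fun φ => Ideal.comap φ (maximalIdeal (X.presheaf.stalk y))) ?_
  exact (congrArg CommRingCat.Hom.hom (TopCat.Presheaf.germ_stalkSpecializes X.presheaf hx h)).symm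

theorem isNormalScheme_of_regular (hX : Models.IsRegularScheme X) : Pi1.IsNormalScheme X := fun x => by
  haveI := hX x
  exact ⟨CMFree.isDomain_of_isRegularLocalRing _, RegLoc.isIntegrallyClosed_of_isRegularLocalRing _⟩

variable [IsLocallyNoetherian X] (hX : Pi1.IsNormalScheme X)
include hX

theorem le_of_codim_one {D E : X.IdealSheafData} (hD : _root_.BlowUp.IsEffCartierIdeal D)
    (hE : _root_.BlowUp.IsEffCartierIdeal E)
    (h : ∀ y : X, ringKrullDim (X.presheaf.stalk y) = 1 → stalkIdeal D y ≤ stalkIdeal E y) : D ≤ E := by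
  refine GrothLib.DivPart.le_of_stalkIdeal fun x => ?_
  obtain ⟨_, _⟩ := hX x
  obtain ⟨γD, hγD, hD'⟩ := exists_stalk_generator hD x
  obtain ⟨γE, hγE, hE'⟩ := exists_stalk_generator hE x
  rw [hD', hE', Ideal.span_singleton_le_iff_mem]
  by_contra hne
  obtain ⟨P, hP, hPle⟩ := exists_le_isAssociatedPrime_of_isNoetherianRing (X.presheaf.stalk x)
    (Ideal.Quotient.mk (Ideal.span {γE}) γD) (fun h0 => hne (Ideal.Quotient.eq_zero_iff_mem.1 h0))
  haveI := hP.isPrime
  have hh1 : P.height = 1 := NormalSerre.height_eq_one_of_mem_associatedPrimes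
    (nonZeroDivisors.ne_zero hγE) hP
  obtain ⟨x', hx', hPeq, hx'eq⟩ := exists_specializes_eq x P
  have hdim : ringKrullDim (X.presheaf.stalk x') = 1 := by
    rw [ringKrullDim_stalk_eq_height_of_specializes hx', ← hPeq, hh1]
    rfl
  have hle := h x' hdim
  rw [← stalkIdeal_map_specializes D hx', hD', Ideal.map_span, Set.image_singleton,
    ← stalkIdeal_map_specializes E hx', hE', Ideal.map_span, Set.image_singleton,
    Ideal.span_singleton_le_iff_mem] at hle
  obtain ⟨u, hu, hub⟩ := exists_of_mem_span_stalkSpecializes hx' hle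
  refine hu (hPeq ▸ hPle ?_)
  rw [Submodule.mem_colon_singleton, Submodule.mem_bot]
  show u • Ideal.Quotient.mk _ γD = 0
  rw [Algebra.smul_def, Ideal.Quotient.algebraMap_eq, ← map_mul, Ideal.Quotient.eq_zero_iff_mem]
  exact hub

/-- Effective Cartier divisors with the same orders at all points of codimension one are equal. -/
theorem eq_of_codim_one {D E : X.IdealSheafData} (hD : _root_.BlowUp.IsEffCartierIdeal D)
    (hE : _root_.BlowUp.IsEffCartierIdeal E)
    (h : ∀ y : X, ringKrullDim (X.presheaf.stalk y) = 1 → stalkIdeal D y = stalkIdeal E y) : D = E :=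
  le_antisymm (le_of_codim_one hX hD hE fun y hy => (h y hy).le)
    (le_of_codim_one hX hE hD fun y hy => (h y hy).ge)

end GrothLib.ArSurf29
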