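import Groth.Agent.Lib.ArSurf29.Form

/-!
# The kernel of the intersection form of a connected closed fibre
-/

set_option autoImplicit false
set_option linter.all false
set_option backward.isDefEq.respectTransparency false

universe u

open CategoryTheory CategoryTheory.Limits AlgebraicGeometry TopologicalSpace IsLocalRing

noncomputable section

namespace GrothLib.ArSurf29

/-- The null vectors of a connected form are the multiples of the positive kernel vector. -/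
theorem quad_eq_zero_exists {n : ℕ} (A : Fin n → Fin n → ℤ) (m : Fin n → ℤ) (hm : ∀ i, 0 < m i)
    (hsymm : ∀ i j, A i j = A j i) (hoff : ∀ i j, i ≠ j → 0 ≤ A i j) (hAm : ∀ i, ∑ j, A i j * m j = 0)
    (hconn : ∀ I : Finset (Fin n), I.Nonempty → I ≠ Finset.univ → ∃ i ∈ I, ∃ j ∉ I, A i j ≠ 0)
    (a : Fin n → ℤ) (h0 : ∑ i, ∑ j, a i * a j * A i j = 0) : ∃ c : ℚ, ∀ i, (a i : ℚ) = c * m i := by
  classical
  rcases isEmpty_or_nonempty (Fin n) with hn | hn
  · exact ⟨0, fun i => (IsEmpty.false i).elim⟩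
  obtain ⟨i₀⟩ := hn
  let M : Matrix (Fin n) (Fin n) ℚ := fun i j => (A i j : ℚ)
  have hM : M.IsSymm := Matrix.IsSymm.ext fun i j => by show (A j i : ℚ) = A i j; rw [hsymm]
  have hmq : ∀ i, (0 : ℚ) < m i := fun i => by exact_mod_cast hm i
  let y : Fin n → ℚ := fun i => (a i : ℚ) / m i
  have hy : ∀ i, y i * (m i : ℚ) = a i := fun i => div_mul_cancel₀ _ (hmq i).ne'
  have h := NumType.quad_identity M hM (fun i => (m i : ℚ)) y
  simp only [hy] at h
  have h1 : ∀ i, ∑ j, M i j * (m j : ℚ) = 0 := fun i => by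
    show ∑ j, (A i j : ℚ) * m j = 0
    exact_mod_cast hAm i
  have hq : ∑ i, ∑ j, M i j * (a i : ℚ) * (a j : ℚ) = 0 := by
    have : ((∑ i, ∑ j, a i * a j * A i j : ℤ) : ℚ) = 0 := by rw [h0, Int.cast_zero]
    push_cast at this
    rw [← this]
    exact Finset.sum_congr rfl fun i _ => Finset.sum_congr rfl fun j _ => by
      show (A i j : ℚ) * a i * a j = _
      ring
  simp only [h1, mul_zero, Finset.sum_const_zero, zero_sub, hq] at h
  have hnn : ∀ i j, 0 ≤ M i j * (m i : ℚ) * (m j : ℚ) * (y i - y j) ^ 2 := fun i j => by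
    rcases eq_or_ne i j with rfl | hij
    · simp
    · exact mul_nonneg (mul_nonneg (mul_nonneg (by show (0 : ℚ) ≤ A i j; exact_mod_cast hoff i j hij)
        (hmq i).le) (hmq j).le) (sq_nonneg _)
  have hz : ∑ i, ∑ j, M i j * (m i : ℚ) * (m j : ℚ) * (y i - y j) ^ 2 = 0 := by linarith
  have hz' : ∀ i j, M i j * (m i : ℚ) * (m j : ℚ) * (y i - y j) ^ 2 = 0 := fun i j =>
    (Finset.sum_eq_zero_iff_of_nonneg fun j _ => hnn i j).1
      ((Finset.sum_eq_zero_iff_of_nonneg fun i _ => Finset.sum_nonneg fun j _ => hnn i j).1 hz i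
        (Finset.mem_univ i)) j (Finset.mem_univ j)
  refine ⟨y i₀, fun i => ?_⟩
  suffices hyi : y i = y i₀ by rw [← hyi, hy]
  by_contra hne
  obtain ⟨p, hp, q, hq', hpq⟩ := hconn (Finset.univ.filter fun k => y k = y i₀) ⟨i₀, by simp⟩
    (fun e => hne (by simpa using e.ge (Finset.mem_univ i)))
  rw [Finset.mem_filter] at hp hq'
  have hMpq : M p q ≠ 0 := by
    show (A p q : ℚ) ≠ 0
    exact_mod_cast hpq
  rcases mul_eq_zero.1 (hz' p q) with h2 | h2
  · exact mul_ne_zero (mul_ne_zero hMpq (hmq p).ne') (hmq q).ne' h2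
  · exact hq' ⟨Finset.mem_univ q, (sub_eq_zero.1 (sq_eq_zero_iff.1 h2)).symm.trans hp.2⟩

variable {R : Type u} [CommRing R] [IsDomain R] [IsDiscreteValuationRing R]
  {X : Over (Spec (CommRingCat.of R))} [IsProper X.hom] [Flat X.hom] [IsLocallyNoetherian X.left]
  (hX : Models.IsRegularScheme X.left)
  {n : ℕ} {Γ : Fin n → ArSurf.VertComp R X} (hΓ : Models.IsComponentList R X Γ)
  {L : Fin n → X.left.Modules} (hL : ∀ j, ClSub.IsInverseOf (L j) (ClSub.idealMod (Γ j).ι.ker))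
  (hconn : _root_.IsPreconnected (Models.specialFibreSet R X))
include hX hΓ hL hconn

/-- A connected closed fibre has no orthogonal splitting. -/
theorem exists_inter_ne_zero (I : Finset (Fin n)) (hI : I.Nonempty) (hI' : I ≠ Finset.univ) :
    ∃ i ∈ I, ∃ j ∉ I, ArSurf.inter R X (L j) (Γ i) ≠ 0 := by
  classical
  obtain ⟨j₀, hj₀⟩ : ∃ j, j ∉ I := by
    by_contra h
    push Not at h
    exact hI' (Finset.eq_univ_iff_forall.2 h)
  obtain ⟨i₀, hi₀⟩ := hI
  let S : Fin n → Set X.left := fun i => Set.range ((Γ i).ι.base : (Γ i).curve.left → X.left)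
  have hc : ∀ T : Set (Fin n), IsClosed (⋃ i ∈ T, S i) := fun T =>
    T.toFinite.isClosed_biUnion fun i _ => (Γ i).ι.isClosedEmbedding.isClosed_range
  obtain ⟨x, -, hxA, hxB⟩ := isPreconnected_closed_iff.1 hconn _ _ (hc (I : Set (Fin n))) (hc (I : Set (Fin n))ᶜ)
    (fun x hx => by
      obtain ⟨i, hi⟩ := exists_mem_range hΓ hx
      by_cases h : i ∈ I
      · exact Or.inl (Set.mem_biUnion (Finset.mem_coe.2 h) hi)
      · exact Or.inr (Set.mem_biUnion (x := i) (fun h' => h (Finset.mem_coe.1 h')) hi))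
    ⟨_, genPt_mem_fibre (Γ i₀), Set.mem_biUnion (Finset.mem_coe.2 hi₀) ⟨_, rfl⟩⟩
    ⟨_, genPt_mem_fibre (Γ j₀), Set.mem_biUnion (x := j₀) (fun h' => hj₀ (Finset.mem_coe.1 h')) ⟨_, rfl⟩⟩
  obtain ⟨i, hi, hxi⟩ := Set.mem_iUnion₂.1 hxA
  obtain ⟨j, hj, hxj⟩ := Set.mem_iUnion₂.1 hxB
  have hij : i ≠ j := fun e => hj (e ▸ hi)
  refine ⟨i, Finset.mem_coe.1 hi, j, fun h' => hj (Finset.mem_coe.2 h'), fun h0 => ?_⟩
  exact Set.disjoint_left.1 ((inter_nonneg_of_ne hX hΓ hL hij).2.1 h0) hxi hxj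

theorem form_eq_zero_iff (a : Fin n → ℤ) :
    ∑ i, ∑ j, a i * a j * ArSurf.inter R X (L j) (Γ i) = 0 ↔
      ∃ c : ℚ, ∀ i, (a i : ℚ) = c * (Models.mult R X (Γ i) : ℚ) := by
  refine ⟨fun h => ?_, fun ⟨c, hc⟩ => ?_⟩
  · obtain ⟨c, hc⟩ := quad_eq_zero_exists (fun i j => ArSurf.inter R X (L j) (Γ i))
      (fun i => (Models.mult R X (Γ i) : ℤ)) (fun i => by exact_mod_cast mult_pos (isMaxComp hΓ i) hX)
      (inter_symm hX hΓ hL) (fun i j h => (inter_nonneg_of_ne hX hΓ hL h).1)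
      (fun i => by rw [← sum_mult_inter hX hΓ hL i]; exact Finset.sum_congr rfl fun j _ => mul_comm _ _)
      (exists_inter_ne_zero hX hΓ hL hconn) a h
    exact ⟨c, fun i => by rw [hc i]; push_cast; rfl⟩
  · have h2 : ((∑ i, ∑ j, a i * a j * ArSurf.inter R X (L j) (Γ i) : ℤ) : ℚ) = 0 := by
      push_cast
      refine Finset.sum_eq_zero fun i _ => ?_
      have h3 := congrArg (fun z : ℤ => (z : ℚ)) (sum_mult_inter hX hΓ hL i)
      push_cast at h3
      calc ∑ j, (a i : ℚ) * a j * ArSurf.inter R X (L j) (Γ i)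
          = (a i : ℚ) * c * ∑ j, (Models.mult R X (Γ j) : ℚ) * ArSurf.inter R X (L j) (Γ i) := by
            rw [Finset.mul_sum]
            exact Finset.sum_congr rfl fun j _ => by rw [hc j]; ring
        _ = 0 := by rw [h3, mul_zero]
    exact_mod_cast h2

theorem kernel_iff (a : Fin n → ℤ) :
    (∀ i, ∑ j, a j * ArSurf.inter R X (L j) (Γ i) = 0) ↔
      ∃ c : ℚ, ∀ i, (a i : ℚ) = c * (Models.mult R X (Γ i) : ℚ) := by
  refine ⟨fun h => (form_eq_zero_iff hX hΓ hL hconn a).1 (Finset.sum_eq_zero fun i _ => ?_), fun ⟨c, hc⟩ i => ?_⟩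
  · rw [show ∑ j, a i * a j * ArSurf.inter R X (L j) (Γ i) = a i * ∑ j, a j * ArSurf.inter R X (L j) (Γ i) by
      rw [Finset.mul_sum]; exact Finset.sum_congr rfl fun j _ => mul_assoc _ _ _, h i, mul_zero]
  · have h2 : ((∑ j, a j * ArSurf.inter R X (L j) (Γ i) : ℤ) : ℚ) = 0 := by
      push_cast
      have h3 := congrArg (fun z : ℤ => (z : ℚ)) (sum_mult_inter hX hΓ hL i)
      push_cast at h3
      simp only [hc, mul_assoc, ← Finset.mul_sum, h3, mul_zero]
    exact_mod_cast h2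

end GrothLib.ArSurf29
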