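import Groth.Agent.Lib.ArSurf29.Inter
import Groth.Agent.Lib.GlobalConst.Scheme
import Groth.Prelude.Def_ModelsG

/-!
# The field of constants of a vertical prime divisor
-/

set_option autoImplicit false
set_option linter.all false
set_option backward.isDefEq.respectTransparency false

universe u

open CategoryTheory CategoryTheory.Limits AlgebraicGeometry TopologicalSpace IsLocalRing

noncomputable section

namespace GrothLib.ArSurf29

variable {R : Type u} [CommRing R] [IsDomain R] [IsDiscreteValuationRing R]
  {X : Over (Spec (CommRingCat.of R))} [IsProper X.hom] (Γ : ArSurf.VertComp R X)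

theorem isField_constants : IsField Γ(Γ.curve.left, ⊤) := by
  haveI := isProper_curve Γ
  letI := GlobalConst.algΓ (ResidueField R) (X := Γ.curve.left)
  haveI := GlobalConst.finite_algΓ (ResidueField R) (X := Γ.curve.left)
  haveI : Nonempty (⊤ : Γ.curve.left.Opens) := ⟨⟨genericPoint Γ.curve.left, trivial⟩⟩
  exact isField_of_isIntegral_of_isField' (R := ResidueField R) (Field.toIsField _)

theorem wdeg_eq : letI := GlobalConst.algΓ (ResidueField R) (X := Γ.curve.left);
    Models.wdeg R X Γ = Module.finrank (ResidueField R) Γ(Γ.curve.left, ⊤) :=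
  letI := GlobalConst.algΓ (ResidueField R) (X := Γ.curve.left)
  (GlobalConst.h0Equiv (ResidueField R) (X := Γ.curve.left)).finrank_eq

theorem wdeg_pos : 0 < Models.wdeg R X Γ := by
  haveI := isProper_curve Γ
  letI := GlobalConst.algΓ (ResidueField R) (X := Γ.curve.left)
  haveI := GlobalConst.finite_algΓ (ResidueField R) (X := Γ.curve.left)
  letI := (isField_constants Γ).toField
  rw [wdeg_eq]
  exact Module.finrank_pos

theorem wdeg_dvd_h1 : Models.wdeg R X Γ ∣ Models.h1 R X Γ := by
  haveI := isProper_curve Γ
  rw [wdeg_eq]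
  exact GlobalConst.dvd_finrank_HH (ResidueField R) (isField_constants Γ) _ 1

theorem wdeg_dvd_inter {L : X.left.Modules} (hL : PicF.IsInvertible L) :
    (Models.wdeg R X Γ : ℤ) ∣ ArSurf.inter R X L Γ := by
  haveI := isProper_curve Γ
  rw [inter_eq_deg Γ hL, wdeg_eq, Curv2.deg]
  exact dvd_sub (GlobalConst.dvd_euler (ResidueField R) (isField_constants Γ) _)
    (Dvd.dvd.mul_left (GlobalConst.dvd_euler (ResidueField R) (isField_constants Γ) _) _)

end GrothLib.ArSurf29
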