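import Groth.Agent.Lib.ArSurf29.FactorBlowUpScheme
import Groth.Agent.Lib.FBase7.Irred

/-!
# A birational morphism with irreducible exceptional fibre is a blow-up
-/

set_option autoImplicit false
set_option linter.all false
set_option backward.isDefEq.respectTransparency false

universe u

open CategoryTheory CategoryTheory.Limits AlgebraicGeometry TopologicalSpace IsLocalRing
open GrothLib.CartierDescent (stalkIdeal stalkIdeal_comap stalkIdeal_eq_top_iff exists_stalk_generator)

noncomputable section

namespace GrothLib.ArSurf29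

/-- A local ring with a curve over it is not a discrete valuation ring. -/
theorem maximalIdeal_ne_span_of_dominating {A B : Type u} [CommRing A] [IsDomain A] [IsNoetherianRing A]
    [IsLocalRing A] [CommRing B] [IsDomain B] [IsLocalRing B] (K : Type u) [Field K] [Algebra B K]
    [IsFractionRing B K] (φ : A →+* B) [IsLocalHom φ] (hφ : Function.Injective φ)
    (hK : ∀ z : K, ∃ u v : A, v ≠ 0 ∧ z * algebraMap B K (φ v) = algebraMap B K (φ u))
    (P' : Ideal B) [P'.IsPrime] (hP' : P' ≠ maximalIdeal B) (hP : P'.comap φ = maximalIdeal A)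
    (hA : maximalIdeal A ≠ ⊥) (a : A) : maximalIdeal A ≠ Ideal.span {a} := by
  intro hgen
  have ha : a ≠ 0 := fun h => hA (by rw [hgen, h, Ideal.span_singleton_eq_bot])
  have hprime : Prime a := (Ideal.span_singleton_prime ha).1 (hgen ▸ (maximalIdeal.isMaximal A).isPrime)
  have hunit : ∀ z : A, ¬ a ∣ z → IsUnit z := fun z hz => notMem_maximalIdeal.1
    fun h => hz (Ideal.mem_span_singleton.1 (hgen ▸ h))
  refine hP' (le_antisymm (le_maximalIdeal (Ideal.IsPrime.ne_top ‹_›)) fun z hz => ?_)
  by_cases hz0 : z = 0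
  · exact hz0 ▸ P'.zero_mem
  obtain ⟨u, v, hv, he⟩ := hK (algebraMap B K z)
  rw [← map_mul] at he
  have he' := IsFractionRing.injective B K he
  have hu : u ≠ 0 := fun h => by
    rw [h, map_zero, mul_eq_zero, map_eq_zero_iff φ hφ] at he'
    exact he'.elim hz0 hv
  obtain ⟨u', hu', hu''⟩ := (FiniteMultiplicity.of_prime_left hprime hu).exists_eq_pow_mul_and_not_dvd
  obtain ⟨v', hv', hv''⟩ := (FiniteMultiplicity.of_prime_left hprime hv).exists_eq_pow_mul_and_not_dvd
  set i := multiplicity a u
  set j := multiplicity a v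
  rw [hu', hv'] at he'
  simp only [map_mul, map_pow] at he'
  have hpa : φ a ≠ 0 := (map_ne_zero_iff φ hφ).2 ha
  rcases le_or_gt i j with hij | hij
  · obtain ⟨k, hk⟩ := Nat.exists_eq_add_of_le hij
    have h1 : φ a ^ i * (z * (φ a ^ k * φ v')) = φ a ^ i * φ u' := by
      rw [← he', hk, pow_add]; ring
    have h2 := mul_left_cancel₀ (pow_ne_zero i hpa) h1
    exact absurd (h2 ▸ (hunit u' hu'').map φ : IsUnit (z * (φ a ^ k * φ v')))
      fun h => (mem_maximalIdeal z).1 hz (isUnit_of_mul_isUnit_left h)
  · obtain ⟨k, hk⟩ := Nat.exists_eq_add_of_lt hij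
    have h1 : φ a ^ j * (z * φ v') = φ a ^ j * (φ a * (φ a ^ k * φ u')) := by
      rw [show φ a ^ j * (z * φ v') = z * (φ a ^ j * φ v') by ring, he', hk, pow_succ, pow_add]; ring
    have h2 := mul_left_cancel₀ (pow_ne_zero j hpa) h1
    have h3 : φ a ∈ P' := by
      rw [← Ideal.mem_comap, hP, hgen]
      exact Ideal.mem_span_singleton_self a
    exact (Ideal.mul_unit_mem_iff_mem _ ((hunit v' hv'').map φ)).1 (h2 ▸ Ideal.mul_mem_right _ _ h3)

theorem restrict_apply {X Y : Scheme.{u}} (f : X ⟶ Y) (U : Y.Opens) (z : X) (hz : f z ∈ U) :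
    U.ι ((f ∣_ U) (⟨z, hz⟩ : ↥(f ⁻¹ᵁ U))) = f z :=
  congrArg (fun k : (f ⁻¹ᵁ U).toScheme ⟶ Y => k (⟨z, hz⟩ : ↥(f ⁻¹ᵁ U))) (morphismRestrict_ι f U)

theorem injective_over_open {X Y : Scheme.{u}} (f : X ⟶ Y) (U : Y.Opens) [IsIso (f ∣_ U)] {x x' : X}
    (hx : f x ∈ U) (h : f x = f x') : x = x' := by
  have hx' : f x' ∈ U := h ▸ hx
  have h2 := restrict_apply f U
  exact congrArg Subtype.val ((f ∣_ U).homeomorph.injective (a₁ := (⟨x, hx⟩ : ↥(f ⁻¹ᵁ U))) (a₂ := ⟨x', hx'⟩)
    (Subtype.ext ((h2 x hx).trans (h.trans (h2 x' hx').symm))))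

/-- A morphism factoring a blow-up by an isomorphism is a blow-up. -/
theorem isBlowUp_iso_comp {X X' Y : Scheme.{u}} {I : Y.IdealSheafData} {π : X' ⟶ Y}
    (hπ : _root_.BlowUp.IsBlowUp π I) (g : X ⟶ X') [IsIso g] : _root_.BlowUp.IsBlowUp (g ≫ π) I := by
  refine ⟨?_, fun T t ht => ?_⟩
  · rw [Scheme.IdealSheafData.comap_comp]
    exact GrothLib.BlowUp.isEffCartierIdeal_comap_of_flat g hπ.1
  · obtain ⟨h, hh, huniq⟩ := hπ.2 T t ht
    refine ⟨h ≫ inv g, by simp [hh], fun k hk => ?_⟩
    rw [← huniq (k ≫ g) (show (k ≫ g) ≫ π = t by rw [Category.assoc]; exact hk)]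
    simp

theorem isBlowUp_of_irreducible_fibre {X Y : Scheme.{u}} [IsIntegral X] [IsIntegral Y] [IsLocallyNoetherian X]
    [CompactSpace X] [IsLocallyNoetherian Y] (f : X ⟶ Y) [IsProper f]
    (hX : ∀ x : X, IsRegularLocalRing (X.presheaf.stalk x)) (hdim : topologicalKrullDim X ≤ 2)
    (hY : ∀ z : Y, IsRegularLocalRing (Y.presheaf.stalk z))
    (y : Y) (hy : IsClosed ({y} : Set Y)) (hdimy : ringKrullDim (Y.presheaf.stalk y) ≤ 2)
    (hy0 : maximalIdeal (Y.presheaf.stalk y) ≠ ⊥)
    (hiso : IsIso (f ∣_ (⟨{y}ᶜ, hy.isOpen_compl⟩ : Y.Opens)))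
    (hirr : IsPreirreducible (f ⁻¹' {y}))
    (hbig : ∃ x x' : X, x ≠ x' ∧ f x = y ∧ f x' = y) :
    _root_.BlowUp.IsBlowUp f (Scheme.IdealSheafData.vanishingIdeal ⟨{y}, hy⟩) := by
  classical
  haveI : IsNoetherian X := {}
  haveI := hiso
  let U : Y.Opens := ⟨{y}ᶜ, hy.isOpen_compl⟩
  let I := Scheme.IdealSheafData.vanishingIdeal ⟨{y}, hy⟩
  haveI := hY y
  haveI : IsDomain (Y.presheaf.stalk y) := CMFree.isDomain_of_isRegularLocalRing _
  have hyη : genericPoint Y ≠ y := fun h => by
    haveI : Subsingleton Y := ⟨fun p q => by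
      have : ∀ r, r = y := fun r => ((h ▸ genericPoint_specializes r : y ⤳ r).mem_closed hy rfl)
      rw [this p, this q]⟩
    haveI : Subsingleton (PrimeSpectrum (Y.presheaf.stalk y)) :=
      ⟨fun p q => (Y.fromSpecStalk y).isEmbedding.injective (Subsingleton.elim _ _)⟩
    exact hy0 (congrArg PrimeSpectrum.asIdeal
      (Subsingleton.elim (closedPoint (Y.presheaf.stalk y)) (⟨⊥, Ideal.isPrime_bot⟩ : PrimeSpectrum (Y.presheaf.stalk y))))
  have hinjf : ∀ x x' : X, f x ≠ y → f x = f x' → x = x' := fun x x' hx h => injective_over_open f U hx h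
  obtain ⟨e, hb⟩ : f (genericPoint X) = genericPoint Y ∧ Function.Bijective (f.stalkMap (genericPoint X)).hom := by
    haveI : IsOpenImmersion ((f ⁻¹ᵁ U).ι ≫ f) := by rw [← morphismRestrict_ι]; infer_instance
    refine Birat.birational_of_openImmersion f ⟨f ⁻¹ᵁ U, ?_, ‹_›⟩
    exact ⟨_, ((f ∣_ U).homeomorph.symm ⟨genericPoint Y, hyη⟩).2⟩
  have hcart := isEffCartier_comap_point f e hb hX hdim hy hdimy hy0 hbig
  obtain ⟨Y', π, hπ⟩ := GrothLib.BlowUp.exists_isBlowUp Y I
  obtain ⟨g, hg, -⟩ := hπ.2 X f hcart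
  haveI : IsProper π := BlowUpProper.isProper_of_isBlowUp hπ
  haveI : IsProper (g ≫ π) := by rw [hg]; infer_instance
  haveI : IsProper g := IsProper.of_comp g π
  haveI : IsLocallyNoetherian Y' := LocallyOfFiniteType.isLocallyNoetherian π
  have hgπ : ∀ x, π (g x) = f x := fun x => by rw [← Scheme.Hom.comp_apply, hg]
  have hsupp : (I.support : Set Y) = {y} := Scheme.IdealSheafData.coe_support_vanishingIdeal _
  haveI hπU : IsIso (π ∣_ U) := by
    have h := GrothLib.BlowUp.isIso_off_center hπ
    rwa [show I.support.compl = U from Opens.ext (by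
      show (I.support : Set Y)ᶜ = {y}ᶜ
      rw [hsupp])] at h
  have hinjπ : ∀ p p' : Y', π p ≠ y → π p = π p' → p = p' := fun p p' hp h => injective_over_open π U hp h
  have hgenξ : π (g (genericPoint X)) = genericPoint Y := (hgπ _).trans e
  haveI : Nonempty Y' := ⟨g (genericPoint X)⟩
  haveI : IrreducibleSpace Y' := FBase7.isIrreducible_of_maximal_subset
    (S := {g (genericPoint X)}) isPreirreducible_singleton fun t ht => by
      have hty : π t ≠ y := fun h => GrothLib.BlowUp.notMem_support_of_maximal hπ.1 ht (by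
        rw [← SetLike.mem_coe, Scheme.IdealSheafData.support_comap]
        show π t ∈ (I.support : Set Y)
        rw [hsupp]; exact h)
      have hspec : (⟨g (genericPoint X), show π (g (genericPoint X)) ≠ y by rw [hgenξ]; exact hyη⟩ : ↥(π ⁻¹ᵁ U)) ⤳ ⟨t, hty⟩ := by
        refine ((π ∣_ U).isEmbedding.isInducing.specializes_iff).1 (Topology.IsInducing.subtypeVal.specializes_iff.1 ?_)
        show U.ι ((π ∣_ U) _) ⤳ U.ι ((π ∣_ U) _)
        rw [restrict_apply, restrict_apply]
        rw [hgenξ]
        exact genericPoint_specializes _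
      exact (ht _ (hspec.map continuous_subtype_val)).symm
  haveI : IsReduced Y' := GrothLib.BlowUp.isReduced_of_isBlowUp hπ
  haveI : IsIntegral Y' := isIntegral_of_irreducibleSpace_of_isReduced _
  have e' : g (genericPoint X) = genericPoint Y' := hinjπ _ _ (by rw [hgenξ]; exact hyη) (by
    rw [hgenξ]
    exact ((genericPoint_specializes (α := Y') (g (genericPoint X))).map π.continuous |> fun h =>
      (hgenξ ▸ h : π (genericPoint Y') ⤳ genericPoint Y).antisymm (genericPoint_specializes _)).eq.symm)
  have hstk : ∀ p : Y', π p ≠ y → IsIso (π.stalkMap p) := fun p hp => by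
    exact ((MorphismProperty.isomorphisms CommRingCat).arrow_mk_iso_iff (morphismRestrictStalkMap π U ⟨p, hp⟩)).1
      (show IsIso ((π ∣_ U).stalkMap ⟨p, hp⟩) from inferInstance)
  have hb' : Function.Bijective (g.stalkMap (genericPoint X)).hom := by
    haveI := hstk (g (genericPoint X)) (by rw [hgenξ]; exact hyη)
    have key : ∀ k : X ⟶ Y, k = g ≫ π → Function.Bijective (k.stalkMap (genericPoint X)).hom →
        Function.Bijective (g.stalkMap (genericPoint X)).hom := by
      rintro _ rfl h
      rw [Scheme.Hom.stalkMap_comp, CommRingCat.hom_comp, RingHom.coe_comp] at h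
      exact (Function.Bijective.of_comp_iff _ (ConcreteCategory.bijective_of_isIso (π.stalkMap (g (genericPoint X))))).1 h
    exact key f hg.symm hb
  have hsurj : Function.Surjective g := fun p => g.isClosedMap.isClosed_range.closure_subset_iff.2
    (Set.singleton_subset_iff.2 ⟨_, rfl⟩) (specializes_iff_mem_closure.1 (e'.symm ▸ genericPoint_specializes p :
      g (genericPoint X) ⤳ p))
  -- `Y'` is normal
  have hN : ∀ p : Y', IsIntegrallyClosed (Y'.presheaf.stalk p) := by
    intro p
    by_cases hp : π p = y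
    · haveI : Flat (Y.fromSpecStalk y) := GrothLib.FFDesc.flat_fromSpecStalk' Y y
      let q := pullback.fst (Y.fromSpecStalk y) π
      have hq : _root_.BlowUp.IsBlowUp q (GrothLib.BlowUp.idealSheaf (maximalIdeal (Y.presheaf.stalk y))) := by
        have h := GrothLib.BlowUp.isBlowUp_flat_baseChange (Y.fromSpecStalk y) hπ
        rw [GrothLib.BlowUp.eq_idealSheaf (I.comap (Y.fromSpecStalk y))] at h
        rw [← st_vanishingIdeal_point hy]
        exact h
      obtain ⟨-, hreg⟩ := BlowUpRegular.main (Y.presheaf.stalk y) hy0 _ q hq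
      haveI : IsPreimmersion (pullback.snd (Y.fromSpecStalk y) π) := inferInstance
      haveI : Flat (pullback.snd (Y.fromSpecStalk y) π) := MorphismProperty.pullback_snd _ _ inferInstance
      obtain ⟨w, -, hw⟩ := Scheme.Pullback.exists_preimage_pullback (f := Y.fromSpecStalk y) (g := π)
        (closedPoint (Y.presheaf.stalk y)) p (by rw [Scheme.fromSpecStalk_closedPoint]; exact hp.symm)
      subst hw
      haveI := isIso_stalkMap_of_flat_preimmersion (pullback.snd (Y.fromSpecStalk y) π) w
      haveI := hreg w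
      haveI := IsRegularLocalRing.of_ringEquiv (R := (pullback (Y.fromSpecStalk y) π).presheaf.stalk w)
        (asIso ((pullback.snd (Y.fromSpecStalk y) π).stalkMap w)).symm.commRingCatIsoToRingEquiv
      exact RegLoc.isIntegrallyClosed_of_isRegularLocalRing _
    · haveI := hstk p hp
      haveI := hY (π p)
      haveI := IsRegularLocalRing.of_ringEquiv (R := Y.presheaf.stalk (π p))
        (asIso (π.stalkMap p)).commRingCatIsoToRingEquiv
      exact RegLoc.isIntegrallyClosed_of_isRegularLocalRing _
  -- `g` is finite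
  let E : Set X := f ⁻¹' {y}
  have hEc : IsClosed E := hy.preimage f.continuous
  obtain ⟨x₁, x₂, hne, hx₁, hx₂⟩ := hbig
  obtain ⟨ζ, hζ⟩ := QuasiSober.sober (S := E) ⟨⟨x₁, hx₁⟩, hirr⟩ hEc
  have hclosed : ∀ v ∈ E, v ≠ ζ → IsClosed ({v} : Set X) := by
    intro v hv hvne
    by_contra hvc
    obtain ⟨c, hvc', hc⟩ := exists_isClosed_specialization v
    refine no_chain_four hdim (genericPoint_specializes ζ) (hζ.specializes hv) hvc' (fun h => ?_) (Ne.symm hvne)
      fun h => hvc (h ▸ hc)
    exact hyη (e ▸ (show f (genericPoint X) = y by rw [h]; exact hζ.mem))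
  -- the exceptional fibre of the blow-up is not a point
  have hexc : ¬ IsClosed ({g ζ} : Set Y') := by
    intro hgc
    have hfib : ∀ v ∈ E, g v = g ζ := fun v hv => ((hζ.specializes hv).map g.continuous).mem_closed hgc rfl
    have hinj : Function.Injective π := fun p p' h => by
      by_cases hp : π p = y
      · obtain ⟨v, rfl⟩ := hsurj p
        obtain ⟨v', rfl⟩ := hsurj p'
        rw [hfib v (show f v = y by rw [← hgπ]; exact hp), hfib v' (show f v' = y by rw [← hgπ, ← h]; exact hp)]
      · exact hinjπ p p' hp h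
    haveI : LocallyQuasiFinite π := LocallyQuasiFinite.of_finite_preimage_singleton _ fun z =>
      Set.Subsingleton.finite fun p hp p' hp' => hinj (hp.trans hp'.symm)
    haveI : IsFinite π := IsFinite.of_isProper_of_locallyQuasiFinite _
    have eπ : π (genericPoint Y') = genericPoint Y := e' ▸ hgenξ
    haveI : IsIso π := Birat.isIso_of_finite_birational π eπ (by
      haveI := hstk (genericPoint Y') (by rw [eπ]; exact hyη)
      exact ConcreteCategory.bijective_of_isIso _) fun z => by
        haveI := hY z; exact RegLoc.isIntegrallyClosed_of_isRegularLocalRing _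
    have hI : _root_.BlowUp.IsEffCartierIdeal I := by
      have h := GrothLib.BlowUp.isEffCartierIdeal_comap_of_flat (inv π) hπ.1
      rwa [← Scheme.IdealSheafData.comap_comp, IsIso.inv_hom_id, Scheme.IdealSheafData.comap_id] at h
    obtain ⟨a, -, ha⟩ := exists_stalk_generator hI y
    rw [st_vanishingIdeal_point hy] at ha
    obtain ⟨x, hx, hne'⟩ : ∃ x ∈ E, x ≠ ζ := by
      by_cases h : x₁ = ζ
      · exact ⟨x₂, hx₂, fun h' => hne (h.trans h'.symm)⟩
      · exact ⟨x₁, hx₁, h⟩
    obtain ⟨P, hP⟩ : ζ ∈ Set.range (X.fromSpecStalk x) := by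
      rw [Scheme.range_fromSpecStalk]; exact hζ.specializes hx
    obtain rfl : f x = y := hx
    haveI := hX x
    haveI := CMFree.isDomain_of_isRegularLocalRing (X.presheaf.stalk x)
    refine maximalIdeal_ne_span_of_dominating X.functionField (f.stalkMap x).hom (stalkMap_injective_birational f e hb x)
      (exists_fraction_birational f e hb x) P.asIdeal (fun h => hne' ?_) ?_ hy0 a ha
    · rw [← hP, show P = closedPoint _ from PrimeSpectrum.ext h, Scheme.fromSpecStalk_closedPoint]
    · have h1 : Y.fromSpecStalk (f x) (Spec.map (f.stalkMap x) P) = Y.fromSpecStalk (f x) (closedPoint _) := by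
        rw [Scheme.fromSpecStalk_closedPoint, ← Scheme.Hom.comp_apply, Scheme.SpecMap_stalkMap_fromSpecStalk,
          Scheme.Hom.comp_apply, hP]
        exact hζ.mem
      exact congrArg PrimeSpectrum.asIdeal ((Y.fromSpecStalk (f x)).isEmbedding.injective h1)
  haveI : LocallyQuasiFinite g := LocallyQuasiFinite.of_finite_preimage_singleton _ fun p => by
    by_cases hp : π p = y
    · by_cases hpζ : g ζ = p
      · refine (Set.finite_singleton ζ).subset fun v hv => ?_
        by_contra hvne
        refine hexc ?_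
        rw [hpζ, ← show g v = p from hv, ← Set.image_singleton]
        exact g.isClosedMap _ (hclosed v (show f v = y by rw [← hgπ, show g v = p from hv]; exact hp) hvne)
      · have hsub : g ⁻¹' {p} ⊆ E := fun v hv => show f v = y by rw [← hgπ, show g v = p from hv]; exact hp
        by_cases hne : (g ⁻¹' {p}).Nonempty
        · obtain ⟨v, hv⟩ := hne
          have hpc : IsClosed ({p} : Set Y') := by
            rw [← show g v = p from hv, ← Set.image_singleton]
            exact g.isClosedMap _ (hclosed v (hsub hv) fun h => hpζ (h ▸ hv))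
          haveI : DiscreteTopology ↥(g ⁻¹' {p}) := discreteTopology_iff_isOpen_singleton.2
            (isOpen_singleton_of_isClosed_points Topology.IsEmbedding.subtypeVal
              (by rw [Subtype.range_coe]; exact hpc.preimage g.continuous) (fun w hw => by
                rw [Subtype.range_coe] at hw
                exact hclosed w (hsub hw) fun h => hpζ (h ▸ hw)))
          haveI : CompactSpace ↥(g ⁻¹' {p}) := isCompact_iff_compactSpace.1
            (hpc.preimage g.continuous).isCompact
          exact Set.finite_coe_iff.1 finite_of_compact_of_discrete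
        · rw [Set.not_nonempty_iff_eq_empty.1 hne]; exact Set.finite_empty
    · exact Set.Subsingleton.finite fun v hv v' hv' => hinjf v v' (by rw [← hgπ, show g v = p from hv]; exact hp)
        (by rw [← hgπ, ← hgπ, show g v = p from hv, show g v' = p from hv'])
  haveI : IsFinite g := IsFinite.of_isProper_of_locallyQuasiFinite _
  haveI : IsIso g := Birat.isIso_of_finite_birational g e' hb' hN
  rw [← hg]
  exact isBlowUp_iso_comp hπ g

end GrothLib.ArSurf29
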