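import Groth.Agent.Lib.Birat.LqfSep
import Groth.Agent.Lib.CycP1.Graph
import Groth.Agent.Lib.ArSurf29.FactorBlowUpIso

/-!
# Contractions of normal proper schemes are determined by the contracted set
-/

universe u

set_option backward.isDefEq.respectTransparency false
set_option linter.all false

open AlgebraicGeometry CategoryTheory CategoryTheory.Limits TopologicalSpace Opposite

noncomputable section

namespace GrothLib.ArSurf29

variable {S X Y₁ Y₂ : Scheme.{u}} {p₁ : Y₁ ⟶ S} {p₂ : Y₂ ⟶ S} [IsProper p₁] [IsProper p₂]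

/-- Over two closed points with affine images there are only finitely many points of the product. -/
theorem finite_over_two [IsAffine S] {y₁ : Y₁} {y₂ : Y₂} (h₁ : IsClosed ({y₁} : Set Y₁))
    (h₂ : IsClosed ({y₂} : Set Y₂)) :
    (pullback.fst p₁ p₂ ⁻¹' {y₁} ∩ pullback.snd p₁ p₂ ⁻¹' {y₂}).Finite := by
  haveI : IsClosedImmersion (Y₁.fromSpecResidueField y₁) := .of_isPreimmersion _ (by
    rw [Scheme.range_fromSpecResidueField]; exact h₁)
  haveI : IsClosedImmersion (Y₂.fromSpecResidueField y₂) := .of_isPreimmersion _ (by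
    rw [Scheme.range_fromSpecResidueField]; exact h₂)
  let a := Y₁.fromSpecResidueField y₁ ≫ p₁
  let b := Y₂.fromSpecResidueField y₂ ≫ p₂
  haveI : IsFinite a := by
    haveI : IsProper a := inferInstanceAs (IsProper (Y₁.fromSpecResidueField y₁ ≫ p₁))
    exact IsFinite.iff_isProper_and_isAffineHom.2 ⟨inferInstance, inferInstance⟩
  let m : pullback a b ⟶ pullback p₁ p₂ :=
    pullback.map _ _ _ _ (Y₁.fromSpecResidueField y₁) (Y₂.fromSpecResidueField y₂) (𝟙 S) (by simp [a]) (by simp [b])
  have hfin : Finite ↥(pullback a b) := by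
    rw [← Set.finite_univ_iff]
    refine ((pullback.snd a b).finite_preimage_singleton default).subset fun z _ => ?_
    exact Subsingleton.elim _ _
  refine (Set.finite_range m).subset ?_
  rw [Scheme.Pullback.range_map, Scheme.range_fromSpecResidueField, Scheme.range_fromSpecResidueField]

variable [IsIntegral X] [IsIntegral Y₁] (f₁ : X ⟶ Y₁) (f₂ : X ⟶ Y₂) [IsProper f₁]
  (hcomm : f₁ ≫ p₁ = f₂ ≫ p₂) (hN : ∀ y, IsIntegrallyClosed (Y₁.presheaf.stalk y)) (C : Set X)
  (hC : f₁ ⁻¹' (f₁ '' C) = C) (hfin₁ : (f₁ '' C).Finite) (hcl₁ : ∀ y ∈ f₁ '' C, IsClosed ({y} : Set Y₁))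
  (hne : f₁ '' C ≠ Set.univ) (hiso : ∀ V : Y₁.Opens, (V : Set Y₁) ∩ f₁ '' C = ∅ → IsIso (f₁ ∣_ V))
  (hfin₂ : (f₂ '' C).Finite) (hcl₂ : ∀ y ∈ f₂ '' C, IsClosed ({y} : Set Y₂))

include hcomm hN hC hfin₁ hcl₁ hne hiso hfin₂ hcl₂ in
/-- A morphism contracting the contracted set of a contraction to a normal scheme factors through it. -/
theorem exists_factor_of_contracted [IsAffine S] : ∃ g : Y₁ ⟶ Y₂, f₁ ≫ g = f₂ := by
  let h : X ⟶ pullback p₁ p₂ := pullback.lift f₁ f₂ hcomm
  have hh₁ : h ≫ pullback.fst p₁ p₂ = f₁ := pullback.lift_fst _ _ _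
  have hh₂ : h ≫ pullback.snd p₁ p₂ = f₂ := pullback.lift_snd _ _ _
  haveI : IsProper (h ≫ pullback.fst p₁ p₂) := by rw [hh₁]; infer_instance
  haveI : IsProper h := IsProper.of_comp h (pullback.fst p₁ p₂)
  haveI : IsIntegral h.image := CycP1.isIntegral_image h
  haveI : IsProper (h.toImage ≫ h.imageι) := by rw [Scheme.Hom.toImage_imageι]; infer_instance
  haveI : IsProper h.toImage := IsProper.of_comp h.toImage h.imageι
  have hsurj : Function.Surjective h.toImage := fun w => by
    have h1 : closure (Set.range h.toImage) = Set.univ := h.toImage.denseRange.closure_range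
    rw [h.toImage.isClosedMap.isClosed_range.closure_eq] at h1
    exact h1.ge trivial
  let p : h.image ⟶ Y₁ := h.imageι ≫ pullback.fst p₁ p₂
  have hp : h.toImage ≫ p = f₁ := by rw [← Category.assoc, Scheme.Hom.toImage_imageι, hh₁]
  haveI : IsProper p := inferInstanceAs (IsProper (h.imageι ≫ pullback.fst p₁ p₂))
  let O : Y₁.Opens := ⟨(f₁ '' C)ᶜ, by
    rw [← Set.biUnion_of_singleton (f₁ '' C)]
    exact (hfin₁.isClosed_biUnion hcl₁).isOpen_compl⟩
  haveI : IsIso (f₁ ∣_ O) := hiso O (Set.compl_inter_self _)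
  have hOne : (O : Set Y₁).Nonempty := Set.nonempty_compl.2 hne
  -- generic points
  haveI : IsOpenImmersion ((f₁ ⁻¹ᵁ O).ι ≫ f₁) := by rw [← morphismRestrict_ι]; infer_instance
  obtain ⟨w, hw⟩ := hOne
  obtain ⟨e, hb⟩ := Birat.birational_of_openImmersion f₁
    ⟨f₁ ⁻¹ᵁ O, ⟨_, ((f₁ ∣_ O).homeomorph.symm ⟨w, hw⟩).2⟩, ‹_›⟩
  have hgen : h.toImage (genericPoint X) = genericPoint h.image := h.imageι.isEmbedding.injective (by
    rw [CycP1.genericPoint_image h, ← Scheme.Hom.comp_apply, Scheme.Hom.toImage_imageι])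
  have ep : p (genericPoint h.image) = genericPoint Y₁ := by
    rw [← hgen, ← Scheme.Hom.comp_apply, hp, e]
  have hbp : Function.Bijective (p.stalkMap (genericPoint h.image)).hom := by
    have key : ∀ z, h.toImage (genericPoint X) = z → Function.Bijective (p.stalkMap z).hom := by
      rintro z rfl
      have h1 : Function.Bijective ((h.toImage ≫ p).stalkMap (genericPoint X)).hom := by
        have key' : ∀ (g : X ⟶ Y₁), g = f₁ → Function.Bijective (g.stalkMap (genericPoint X)).hom := by
          rintro g rfl; exact hb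
        exact key' _ hp
      rw [Scheme.Hom.stalkMap_comp, CommRingCat.hom_comp, RingHom.coe_comp] at h1
      have hf : IsField (h.image.presheaf.stalk (h.toImage (genericPoint X))) := by
        rw [hgen]; exact (show Field h.image.functionField from inferInstance).toIsField
      letI := hf.toField
      exact ⟨h1.1.of_comp, h1.2.of_comp_left (h.toImage.stalkMap (genericPoint X)).hom.injective⟩
    exact key _ hgen
  haveI : LocallyQuasiFinite p := by
    refine locallyQuasiFinite_iff_finite_preimage_singleton.2 fun y => ?_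
    by_cases hy : y ∈ f₁ '' C
    · refine Set.Finite.subset ((hfin₂.biUnion fun y₂ hy₂ => finite_over_two (hcl₁ y hy) (hcl₂ y₂ hy₂)).preimage
        h.imageι.isEmbedding.injective.injOn) fun z hz => ?_
      obtain ⟨x, rfl⟩ := hsurj z
      have hx : f₁ x = y := by rw [← hp, Scheme.Hom.comp_apply]; exact hz
      have hxC : x ∈ C := hC.le (show f₁ x ∈ f₁ '' C from hx ▸ hy)
      refine Set.mem_biUnion (x := f₂ x) ⟨x, hxC, rfl⟩ ⟨?_, ?_⟩
      · show pullback.fst p₁ p₂ (h.imageι (h.toImage x)) = y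
        rw [← Scheme.Hom.comp_apply, ← Scheme.Hom.comp_apply, ← hx]
        congr 2
        rw [← Category.assoc, Scheme.Hom.toImage_imageι, hh₁]
      · show pullback.snd p₁ p₂ (h.imageι (h.toImage x)) = f₂ x
        rw [← Scheme.Hom.comp_apply, ← Scheme.Hom.comp_apply]
        congr 2
        rw [← Category.assoc, Scheme.Hom.toImage_imageι, hh₂]
    · refine Set.Subsingleton.finite fun a ha a' ha' => ?_
      obtain ⟨x, rfl⟩ := hsurj a
      obtain ⟨x', rfl⟩ := hsurj a'
      have hx : f₁ x = y := by rw [← hp, Scheme.Hom.comp_apply]; exact ha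
      have hx' : f₁ x' = y := by rw [← hp, Scheme.Hom.comp_apply]; exact ha'
      rw [injective_over_open f₁ O (show f₁ x ∈ O from hx ▸ hy) (hx.trans hx'.symm)]
  haveI : IsFinite p := IsFinite.of_isProper_of_locallyQuasiFinite _
  haveI : IsIso p := Birat.isIso_of_finite_birational p ep hbp hN
  refine ⟨inv p ≫ h.imageι ≫ pullback.snd p₁ p₂, ?_⟩
  rw [← hp, Category.assoc, IsIso.hom_inv_id_assoc, ← Category.assoc, Scheme.Hom.toImage_imageι, hh₂]

end GrothLib.ArSurf29
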