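import Groth.Agent.Lib.ArSurf29.Inter

/-!
# Invertible modules of degree zero on vertical divisors
-/

set_option autoImplicit false
set_option linter.all false
set_option backward.isDefEq.respectTransparency false

universe u

open CategoryTheory CategoryTheory.Limits AlgebraicGeometry TopologicalSpace IsLocalRing

noncomputable section

namespace GrothLib.ArSurf29

open GrothLib.Cube (Pic clsMod)

variable {R : Type u} [CommRing R] [IsDomain R] [IsDiscreteValuationRing R]
  {X : Over (Spec (CommRingCat.of R))} [IsProper X.hom] (Γ : ArSurf.VertComp R X)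

theorem inter_eq_zero_of_pull_eq_one {L : X.left.Modules} (hL : PicF.IsInvertible L)
    (h : Cube.pull Γ.ι (clsMod hL) = 1) : ArSurf.inter R X L Γ = 0 := by
  haveI := isProper_curve Γ
  rw [inter_eq_deg Γ hL]
  rw [← Cube.clsMod_pullback Γ.ι hL] at h
  obtain ⟨e⟩ := (Cube.clsMod_eq_one_iff _).1 h
  rw [Euler.deg_of_iso _ e 1, Euler.deg_structure]

theorem inter_pullback_of_contracted {Y : Scheme.{u}} (f : X.left ⟶ Y) {y : Y}
    (hy : Set.range (Γ.ι ≫ f).base = {y}) {M : Y.Modules} (hM : PicF.IsInvertible M) :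
    ArSurf.inter R X ((Scheme.Modules.pullback f).obj M) Γ = 0 := by
  have hfM := Kleiman.isInv_pullback f hM
  refine inter_eq_zero_of_pull_eq_one Γ hfM ?_
  rw [Cube.clsMod_pullback f hM, Cube.pull_comp]
  obtain ⟨U, hyU, ⟨φ⟩⟩ := hM y
  have hr : Set.range (Γ.ι ≫ f).base ⊆ Set.range U.ι.base := by
    rw [hy, Scheme.Opens.range_ι, Set.singleton_subset_iff]; exact hyU
  rw [← IsOpenImmersion.lift_fac U.ι (Γ.ι ≫ f) hr, ← Cube.pull_comp]
  have h1 : Cube.pull U.ι (clsMod hM) = 1 := by
    rw [← Cube.clsMod_pullback U.ι hM]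
    exact (Cube.clsMod_eq_one_iff _).2 ⟨((Scheme.Modules.restrictFunctorIsoPullback U.ι).app M).symm ≪≫ φ⟩
  rw [h1, map_one]

theorem inter_add_curveDeg_idealMod [IsLocallyNoetherian X.left] {D : X.left.IdealSheafData}
    (hD : _root_.BlowUp.IsEffCartierIdeal D) {L : X.left.Modules} (hL : ClSub.IsInverseOf L (ClSub.idealMod D)) :
    ArSurf.inter R X L Γ = -ArSurf.inter R X (ClSub.idealMod D) Γ := by
  have hI := IdealModSec.isInvertible_of_isEffCartier hD
  have hLi := isInvertible_of_isInverseOf hD hL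
  rw [inter_eq_icl Γ hLi, inter_eq_icl Γ hI, cls_of_isInverseOf hLi hI hL, icl_inv]

end GrothLib.ArSurf29
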