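import Groth.Agent.Lib.ArSurf29.Fibre
import Groth.Agent.Lib.Snapper.DimLT

/-!
# The closed fibre as a sum over its maximal points
-/

set_option autoImplicit false
set_option linter.all false
set_option backward.isDefEq.respectTransparency false

universe u

open CategoryTheory AlgebraicGeometry TopologicalSpace IsLocalRing

noncomputable section

namespace GrothLib.ArSurf29

open GrothLib.CartierDescent (stalkIdeal stalkIdeal_eq_top_iff stalkIdeal_map_specializes exists_stalk_generator)

variable {R : Type u} [CommRing R] [IsDomain R] [IsDiscreteValuationRing R]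
  {X : Over (Spec (CommRingCat.of R))}

/-- A maximal point of the closed fibre. -/
def IsMaxPt (z : X.left) : Prop :=
  z ∈ Models.specialFibreSet R X ∧ ∀ y ∈ Models.specialFibreSet R X, y ⤳ z → y = z

theorem isMaxPt_genPt {Γ : ArSurf.VertComp R X} (hΓ : IsMaxComp Γ) : IsMaxPt (Models.genPtOf R X Γ) :=
  ⟨genPt_mem_fibre Γ, fun _ hy h => eq_genPt hΓ hy h⟩

/-- The ideal of the reduced closure of a point. -/
def ptIdeal {Y : Scheme.{u}} (z : Y) : Y.IdealSheafData :=
  Scheme.IdealSheafData.vanishingIdeal (⟨closure {z}, isClosed_closure⟩ : Closeds Y)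

theorem ker_eq_ptIdeal (Γ : ArSurf.VertComp R X) : Γ.ι.ker = ptIdeal (Models.genPtOf R X Γ) := ker_eq Γ

theorem support_ptIdeal {Y : Scheme.{u}} (z : Y) : ((ptIdeal z).support : Set Y) = closure {z} := by
  rw [ptIdeal, Scheme.IdealSheafData.coe_support_vanishingIdeal]
  rfl

instance isIntegral_ptIdeal {Y : Scheme.{u}} (z : Y) : IsIntegral (ptIdeal z).subscheme := by
  let j := (ptIdeal z).subschemeι
  have hrange : Set.range j = closure {z} := by
    rw [Scheme.IdealSheafData.range_subschemeι, support_ptIdeal]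
  haveI : IrreducibleSpace (Set.range j) :=
    Subtype.irreducibleSpace (hrange.symm ▸ isIrreducible_singleton.closure)
  let e := j.isClosedEmbedding.isEmbedding.toHomeomorph.symm
  haveI : IrreducibleSpace (ptIdeal z).subscheme := by
    rw [irreducibleSpace_def, Set.top_eq_univ, ← e.surjective.range_eq, ← Set.image_univ]
    exact (IrreducibleSpace.isIrreducible_univ _).image e e.continuous.continuousOn
  haveI : IsReduced (ptIdeal z).subscheme := RedSub.isReduced_subscheme_vanishingIdeal _
  exact isIntegral_of_irreducibleSpace_of_isReduced _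

theorem gpt_ptIdeal {Y : Scheme.{u}} (z : Y) : DivPart.gpt (ptIdeal z) = z := by
  refine (inseparable_iff_closure_eq.2 ?_).eq
  exact (QCoh.closure_singleton_eq_range (ptIdeal z).subschemeι).trans
    ((ptIdeal z).range_subschemeι.trans (support_ptIdeal z))

theorem st_ptIdeal {Y : Scheme.{u}} (z : Y) : stalkIdeal (ptIdeal z) z = maximalIdeal (Y.presheaf.stalk z) := by
  have h := DivPart.stalkIdeal_gpt (D := ptIdeal z)
  revert h
  rw [gpt_ptIdeal z]
  exact id

theorem finite_isMaxPt [NoetherianSpace X.left] : {z : X.left | IsMaxPt z}.Finite :=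
  Snapper.finite_of_maximal (Models.isClosed_specialFibreSet R X) (fun _ h => h.1) fun _ h y hy hyx => h.2 y hy hyx

variable [IsLocallyNoetherian X.left] [Flat X.hom]

theorem dim_maxPt {z : X.left} (hz : IsMaxPt z) : ringKrullDim (X.left.presheaf.stalk z) = 1 := by
  obtain ⟨γ, hγ, hF⟩ := exists_stalk_generator (isEffCartier_fibre (X := X)) z
  have hne : Ideal.span {γ} ≠ ⊤ := by
    rw [← hF]
    exact fun h => (stalkIdeal_eq_top_iff _ _).1 h ((support_fibre (X := X)).ge hz.1)
  have hmin : maximalIdeal (X.left.presheaf.stalk z) ∈ (Ideal.span {γ}).minimalPrimes := by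
    refine ⟨⟨inferInstance, le_maximalIdeal hne⟩, fun P ⟨hP, hγP⟩ _ => ?_⟩
    haveI := hP
    obtain ⟨y, hy, hPy, -⟩ := CartierDescent.exists_specializes_eq z P
    have hyF : y ∈ Models.specialFibreSet R X := by
      rw [← support_fibre]
      by_contra hc
      have h2 := stalkIdeal_map_specializes (Models.specialFibreIdeal R X) hy
      rw [(stalkIdeal_eq_top_iff _ _).2 hc, hF] at h2
      have h3 : (Ideal.span {γ}).map (X.left.presheaf.stalkSpecializes hy).hom ≤
          maximalIdeal (X.left.presheaf.stalk y) := Ideal.map_le_iff_le_comap.2 (hγP.trans hPy.le)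
      rw [h2] at h3
      exact (maximalIdeal.isMaximal _).ne_top (top_le_iff.1 h3)
    obtain rfl := hz.2 y hyF hy
    rw [hPy]
    intro a ha
    simpa [TopCat.Presheaf.stalkSpecializes_refl] using ha
  have hle : (maximalIdeal (X.left.presheaf.stalk z)).height ≤ 1 :=
    Ideal.height_le_one_of_isPrincipal_of_mem_minimalPrimes _ _ hmin
  have hge : (maximalIdeal (X.left.presheaf.stalk z)).height ≠ 0 := fun h0 => by
    have hm := Ideal.height_eq_zero_iff.1 h0
    exact Set.disjoint_left.1 (Ideal.disjoint_nonZeroDivisors_of_mem_minimalPrimes hm)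
      (le_maximalIdeal hne (Ideal.mem_span_singleton_self γ)) hγ
  rw [← IsLocalRing.maximalIdeal_height_eq_ringKrullDim]
  exact_mod_cast le_antisymm hle (ENat.one_le_iff_ne_zero.2 hge)

variable (hX : Models.IsRegularScheme X.left)
include hX

theorem isEffCartier_ptIdeal {z : X.left} (hz : IsMaxPt z) : _root_.BlowUp.IsEffCartierIdeal (ptIdeal z) := by
  intro x
  haveI := hX x
  haveI := CMFree.isDomain_of_isRegularLocalRing (X.left.presheaf.stalk x)
  haveI : UniqueFactorizationMonoid (X.left.presheaf.stalk x) := RegUFD.ufd_of_isRegularLocalRing _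
  obtain ⟨U, hxU, hU⟩ := GrothLib.BlowUp.exists_cartierOn_of_ufd (ptIdeal z) (fun w hw => by
    rw [WeakAss.isWeakAssPoint_structure_iff] at hw
    obtain rfl : genericPoint (ptIdeal z).subscheme = w := hw _ (genericPoint_specializes w)
    rw [show (ptIdeal z).subschemeι (genericPoint (ptIdeal z).subscheme) = z from gpt_ptIdeal z]
    exact dim_maxPt hz) x
  exact ⟨U, hxU, hU⟩

theorem isEffCartier_prod_pts (T : Finset X.left) (hT : ∀ z ∈ T, IsMaxPt z) (a : X.left → ℕ) :
    _root_.BlowUp.IsEffCartierIdeal (∏ z ∈ T, ptIdeal z ^ a z) := by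
  refine Finset.prod_induction (M := X.left.IdealSheafData) _ (fun I => _root_.BlowUp.IsEffCartierIdeal I)
    (fun I J hI hJ => GrothLib.BlowUp.isEffCartierIdeal_mul hI hJ)
    GrothLib.BlowUp.isEffCartierIdeal_top fun z hz => ?_
  induction a z with
  | zero =>
    rw [pow_zero, Scheme.IdealSheafData.one_eq_top]
    exact GrothLib.BlowUp.isEffCartierIdeal_top
  | succ m ih =>
    rw [pow_succ]
    exact GrothLib.BlowUp.isEffCartierIdeal_mul ih (isEffCartier_ptIdeal hX (hT z hz))

omit hX [IsLocallyNoetherian X.left] [Flat X.hom] in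
theorem notMem_support_prod_pts {z : X.left} (hz : IsMaxPt z) (T : Finset X.left) (hT : ∀ w ∈ T, IsMaxPt w)
    (hzT : z ∉ T) (a : X.left → ℕ) : z ∉ (∏ w ∈ T, ptIdeal w ^ a w).support := by
  intro hm
  apply (stalkIdeal_eq_top_iff _ z).1 ?_ hm
  show DivPart.stalkHom z (∏ w ∈ T, ptIdeal w ^ a w) = ⊤
  rw [map_prod]
  refine (Finset.prod_eq_one fun w hw => ?_).trans Ideal.one_eq_top
  rw [map_pow, show DivPart.stalkHom z (ptIdeal w) = ⊤ from (stalkIdeal_eq_top_iff _ _).2 fun h => ?_,
    Ideal.top_pow, Ideal.one_eq_top]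
  rw [← SetLike.mem_coe, support_ptIdeal] at h
  exact hzT ((hz.2 w (hT w hw).1 (specializes_iff_mem_closure.2 h)) ▸ hw)

variable [CompactSpace X.left]

/-- The closed fibre is the sum of its maximal points with multiplicities. -/
theorem exists_fibre_eq_prod_pts :
    ∃ T : Finset X.left, (∀ z, z ∈ T ↔ IsMaxPt z) ∧
      Models.specialFibreIdeal R X = ∏ z ∈ T, ptIdeal z ^ oAt (Models.specialFibreIdeal R X) z := by
  classical
  haveI : IsNoetherian X.left := {}
  refine ⟨finite_isMaxPt.toFinset, fun z => (finite_isMaxPt (X := X)).mem_toFinset, ?_⟩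
  have hT : ∀ z ∈ (finite_isMaxPt (X := X)).toFinset, IsMaxPt z := fun z h => (finite_isMaxPt (X := X)).mem_toFinset.1 h
  refine eq_of_codim_one (isNormalScheme_of_regular hX) (isEffCartier_fibre (X := X))
    (isEffCartier_prod_pts hX _ hT _) fun y hy => ?_
  by_cases hyF : y ∈ Models.specialFibreSet R X
  · have hymax : IsMaxPt y := ⟨hyF, fun w hw hwy => by
      by_contra hne
      haveI := hX y
      haveI := CMFree.isDomain_of_isRegularLocalRing (X.left.presheaf.stalk y)
      obtain ⟨γ, hγ, hF⟩ := exists_stalk_generator (isEffCartier_fibre (X := X)) y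
      have hu := CartierDescent.isUnit_stalkSpecializes hy.le hwy hne (nonZeroDivisors.ne_zero hγ)
      have h2 := stalkIdeal_map_specializes (Models.specialFibreIdeal R X) hwy
      rw [hF, Ideal.map_span, Set.image_singleton, Ideal.span_singleton_eq_top.2 hu] at h2
      exact (stalkIdeal_eq_top_iff _ _).1 h2.symm ((support_fibre (X := X)).ge hw)⟩
    show _ = DivPart.stalkHom y (∏ z ∈ (finite_isMaxPt (X := X)).toFinset,
      ptIdeal z ^ oAt (Models.specialFibreIdeal R X) z)
    rw [map_prod, Finset.prod_eq_single y, map_pow,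
      show DivPart.stalkHom y (ptIdeal y) = maximalIdeal (X.left.presheaf.stalk y) from st_ptIdeal y]
    · haveI := hX y
      haveI := CMFree.isDomain_of_isRegularLocalRing (X.left.presheaf.stalk y)
      haveI := RegLoc.isIntegrallyClosed_of_isRegularLocalRing (X.left.presheaf.stalk y)
      haveI := isDVR_of_dim_one hy
      obtain ⟨γ, hγ, hF⟩ := exists_stalk_generator (isEffCartier_fibre (X := X)) y
      obtain ⟨ϖ, hϖ⟩ := IsDiscreteValuationRing.exists_irreducible (X.left.presheaf.stalk y)
      obtain ⟨m, hm⟩ := IsDiscreteValuationRing.ideal_eq_span_pow_irreducible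
        (show stalkIdeal (Models.specialFibreIdeal R X) y ≠ ⊥ by
          rw [hF, Ne, Ideal.span_singleton_eq_bot]; exact nonZeroDivisors.ne_zero hγ) hϖ
      rw [← Ideal.span_singleton_pow, ← hϖ.maximalIdeal_eq] at hm
      rw [hm, oAt_eq_of_st_eq_pow hm]
    · intro z hz hne
      rw [map_pow, show DivPart.stalkHom y (ptIdeal z) = ⊤ from (stalkIdeal_eq_top_iff _ _).2 fun h => by
        rw [← SetLike.mem_coe, support_ptIdeal] at h
        exact hne (hymax.2 z (hT z hz).1 (specializes_iff_mem_closure.2 h)), Ideal.top_pow, Ideal.one_eq_top]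
    · exact fun h => absurd ((finite_isMaxPt (X := X)).mem_toFinset.2 hymax) h
  · rw [(stalkIdeal_eq_top_iff _ _).2 fun h => hyF ((support_fibre (X := X)).le h)]
    show _ = DivPart.stalkHom y _
    rw [map_prod]
    refine ((Finset.prod_eq_one fun z hz => ?_).trans Ideal.one_eq_top).symm
    rw [map_pow, show DivPart.stalkHom y (ptIdeal z) = ⊤ from (stalkIdeal_eq_top_iff _ _).2 fun h => by
      rw [← SetLike.mem_coe, support_ptIdeal] at h
      exact hyF (closure_minimal (Set.singleton_subset_iff.2 (hT z hz).1)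
        (Models.isClosed_specialFibreSet R X) h), Ideal.top_pow, Ideal.one_eq_top]

end GrothLib.ArSurf29
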