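import Groth.Agent.Lib.ArSurf29.Fibre
import Groth.Agent.Lib.Chow.Prod
import Groth.Agent.Lib.Snapper.DimLT

/-!
# Arithmetic surfaces
-/

set_option autoImplicit false
set_option linter.all false
set_option backward.isDefEq.respectTransparency false

universe u

open CategoryTheory AlgebraicGeometry TopologicalSpace IsLocalRing

noncomputable section

namespace GrothLib.ArSurf29

variable {R : Type u} [CommRing R] [IsDomain R] [IsDiscreteValuationRing R]
  {X : Over (Spec (CommRingCat.of R))} (hX : ArSurf.IsArithSurface R X)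
include hX

theorem isProper_of_isArithSurface : IsProper X.hom := by
  obtain ⟨-, -, -, -, n, i, hi, hw⟩ := hX
  haveI := hi
  haveI := GrothLib.Chow.isProper_toBase n (Spec (CommRingCat.of R))
  rw [← hw]
  infer_instance

theorem isLocallyNoetherian_of_isArithSurface : IsLocallyNoetherian X.left :=
  haveI := isProper_of_isArithSurface hX
  LocallyOfFiniteType.isLocallyNoetherian X.hom

theorem genericPoint_notMem_fibre [IsIntegral X.left] :
    genericPoint X.left ∉ Models.specialFibreSet R X := by
  haveI : Flat X.hom := hX.2.2.2.1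
  rw [← support_fibre]
  intro h
  obtain ⟨γ, hγ, hF⟩ := CartierDescent.exists_stalk_generator (isEffCartier_fibre (X := X)) (genericPoint X.left)
  letI : Field (X.left.presheaf.stalk (genericPoint X.left)) := inferInstanceAs (Field X.left.functionField)
  exact (CartierDescent.stalkIdeal_eq_top_iff _ _).1
    (hF.trans (Ideal.span_singleton_eq_top.2 (isUnit_iff_ne_zero.2 (nonZeroDivisors.ne_zero hγ)))) h

theorem isMaxComp_of_isArithSurface (Γ : ArSurf.VertComp R X) : IsMaxComp Γ := by
  haveI := hX.2.1
  refine ⟨⟨(IrreducibleSpace.isIrreducible_univ _).image _ Γ.ι.continuous.continuousOn |> fun h => by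
    rwa [Set.image_univ] at h, range_subset_fibre Γ⟩, fun S ⟨hS, hSsub⟩ hle => ?_⟩
  obtain ⟨w, hw⟩ := QuasiSober.sober hS.closure isClosed_closure
  have hwF : w ∈ Models.specialFibreSet R X :=
    closure_minimal hSsub (Models.isClosed_specialFibreSet R X) hw.mem
  have hwξ : w ⤳ Models.genPtOf R X Γ := hw.specializes (subset_closure (hle ⟨_, rfl⟩))
  have hwη : w ≠ genericPoint X.left := fun e => genericPoint_notMem_fibre hX (e ▸ hwF)
  suffices w = Models.genPtOf R X Γ by
    rw [range_eq_closure, ← this]
    exact subset_closure.trans hw.def.ge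
  by_contra hne
  obtain ⟨z, hz⟩ : ∃ z : Γ.curve.left, z ≠ genericPoint Γ.curve.left := by
    by_contra h
    push Not at h
    haveI : Subsingleton Γ.curve.left := ⟨fun a b => (h a).trans (h b).symm⟩
    have h0 := topologicalKrullDim_zero_of_discreteTopology Γ.curve.left
    rw [Γ.dim_eq] at h0
    exact absurd h0 (by norm_num)
  have hzξ : Γ.ι z < Models.genPtOf R X Γ :=
    lt_of_le_not_ge ((mem_range_iff Γ).1 ⟨z, rfl⟩) fun h => hz (Γ.ι.isClosedEmbedding.injective
      (((mem_range_iff Γ).1 ⟨z, rfl⟩).antisymm (show Γ.ι z ⤳ Models.genPtOf R X Γ from h)).eq.symm)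
  have hξw : Models.genPtOf R X Γ < w := lt_of_le_not_ge hwξ fun h =>
    hne (hwξ.antisymm (show Models.genPtOf R X Γ ⤳ w from h)).eq
  have hwη' : w < genericPoint X.left := lt_of_le_not_ge (genericPoint_specializes w) fun h =>
    hwη (((show w ⤳ genericPoint X.left from h)).antisymm (genericPoint_specializes w)).eq
  let l : LTSeries X.left := (((RelSeries.singleton _ (Γ.ι z)).snoc _ hzξ).snoc w
    (by rw [RelSeries.last_snoc]; exact hξw)).snoc (genericPoint X.left) (by rw [RelSeries.last_snoc]; exact hwη')
  have hd : Snapper.DimLT (Set.univ : Set X.left) (2 + 1) := Snapper.dimLT_of_dim_le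
    ((IsHomeomorph.topologicalKrullDim_eq _ (Homeomorph.Set.univ X.left).isHomeomorph).le.trans hX.2.2.1.le)
  have := hd l fun _ => trivial
  simp [l] at this

end GrothLib.ArSurf29
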