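import Groth.Agent.Lib.ArSurf29.Constants
import Groth.Agent.Lib.ArSurf29.DivSum
import Groth.Agent.Lib.ArSurf29.Setup
import Groth.Agent.Lib.ArSurf29.Points
import Groth.Agent.Lib.CurveMult.GenusZero
import Groth.Agent.Lib.ProjCohom.Corollaries
import Groth.Agent.Lib.CMReg.StructureRegular

/-!
# Exceptional curves of the first kind among the vertical prime divisors
-/

set_option autoImplicit false
set_option linter.all false
set_option backward.isDefEq.respectTransparency false

universe u

open CategoryTheory CategoryTheory.Limits AlgebraicGeometry TopologicalSpace IsLocalRing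

noncomputable section

namespace GrothLib.ArSurf29

section Transport

variable (k : Type u) [Field k]

/-- Cohomology is unchanged by isomorphisms. -/
theorem nonempty_HH_pullback_iso {Z Y : Scheme.{u}} [Z.Over (Spec (CommRingCat.of k))]
    [Y.Over (Spec (CommRingCat.of k))] (e : Z ⟶ Y) [IsIso e]
    (he : e ≫ Y ↘ Spec (CommRingCat.of k) = Z ↘ Spec (CommRingCat.of k))
    {M : Y.Modules} (hM : PicF.IsInvertible M) (n : ℕ) :
    Nonempty (Coh.HH Z ((Scheme.Modules.pullback e).obj M) n ≃ₗ[k] Coh.HH Y M n) := by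
  have hlf := Euler.isFinLocFree_of_isInvertible hM
  haveI := ProjFormula.isIso_projHom e hlf (Coh.structureModule Z)
  haveI : IsIso (ClSub.unitToPush e) := Scheme.Modules.Hom.isIso_iff_isIso_app.2 fun U => by
    rw [ConcreteCategory.isIso_iff_bijective]
    exact ConcreteCategory.bijective_of_isIso (e.app U)
  let c : (Scheme.Modules.pushforward e).obj ((Scheme.Modules.pullback e).obj M) ≅ M :=
    (Scheme.Modules.pushforward e).mapIso (Euler.tFUnitIso _).symm ≪≫
      (asIso (ProjFormula.projHom e M (Coh.structureModule Z))).symm ≪≫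
      ((DCoh.tensorBi (X := Y)).obj M).mapIso (asIso (ClSub.unitToPush e)).symm ≪≫ Euler.tFUnitIso M
  haveI : ((Scheme.Modules.pullback e).obj M).IsQuasicoherent :=
    (Euler.isCoh_of_isInvertible (Kleiman.isInv_pullback e hM)).1
  obtain ⟨f⟩ := Snapper.nonempty_HH_linearEquiv_pushforward (A := k) (S := Y) e he ((Scheme.Modules.pullback e).obj M) n
  exact ⟨f.trans (Euler.hhEquiv (A := k) c n)⟩

theorem nonempty_HH_structure_iso {Z Y : Scheme.{u}} [Z.Over (Spec (CommRingCat.of k))]
    [Y.Over (Spec (CommRingCat.of k))] (e : Z ⟶ Y) [IsIso e]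
    (he : e ≫ Y ↘ Spec (CommRingCat.of k) = Z ↘ Spec (CommRingCat.of k)) (n : ℕ) :
    Nonempty (Coh.HH Z (Coh.structureModule Z) n ≃ₗ[k] Coh.HH Y (Coh.structureModule Y) n) := by
  obtain ⟨f⟩ := nonempty_HH_pullback_iso k e he (Euler.isInvertible_structure (X := Y)) n
  obtain ⟨t⟩ := (Cube.clsMod_eq_one_iff (Kleiman.isInv_pullback e (Euler.isInvertible_structure (X := Y)))).1 (by
    rw [Cube.clsMod_pullback e Euler.isInvertible_structure,
      show Cube.clsMod (Euler.isInvertible_structure (X := Y)) = 1 from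
        (Cube.clsMod_eq_one_iff _).2 ⟨Iso.refl _⟩, map_one])
  exact ⟨(Euler.hhEquiv (A := k) t n).symm.trans f⟩

/-- Dimensions over a subfield of the field of constants. -/
theorem finrank_HH_mul {k' : Type u} [Field k'] {Z : Scheme.{u}} (q : Z ⟶ Spec (CommRingCat.of k))
    (q' : Z ⟶ Spec (CommRingCat.of k')) (φ : k →+* k') (h : ∀ a, Coh.toGlobal q a = Coh.toGlobal q' (φ a))
    (F : Z.Modules) (i : ℕ) :
    (letI : Z.Over (Spec (CommRingCat.of k)) := ⟨q⟩; Module.finrank k (Coh.HH Z F i)) =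
      (letI := φ.toAlgebra; Module.finrank k k') *
        (letI : Z.Over (Spec (CommRingCat.of k')) := ⟨q'⟩; Module.finrank k' (Coh.HH Z F i)) := by
  letI : Z.Over (Spec (CommRingCat.of k)) := ⟨q⟩
  letI : Z.Over (Spec (CommRingCat.of k')) := ⟨q'⟩
  letI := φ.toAlgebra
  haveI : IsScalarTower k k' (Coh.HH Z F i) := IsScalarTower.of_algebraMap_smul fun a m => by
    show (Coh.toGlobal q' (φ a)) • m = (Coh.toGlobal q a) • m
    rw [h]
  exact (Module.finrank_mul_finrank k k' (Coh.HH Z F i)).symm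

end Transport

/-- On the projective line the twisting sheaf has degree one. -/
theorem deg_twist_one (k : Type u) [Field k] :
    Curv2.deg k (CohB1.ProjSpace 1 k) (Twist.twistProjSpace 1 k 1) 1 = 1 := by
  obtain ⟨e0⟩ := CMReg.nonempty_twist_zero (n := 1) (k := k)
  have h : ∀ d : ℕ, Curv2.euler k (CohB1.ProjSpace 1 k) (Twist.twistProjSpace 1 k d) = d + 1 := fun d => by
    rw [Euler.euler_eq_sum k _ (N := 1 + 1) fun m hm => ProjCohom.subsingleton_HH (fun h => by omega) (fun h => by omega),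
      ProjCohom.euler_twist k 1 one_pos (d : ℤ)]
    norm_num
  have h0 := h 0
  have h1 := h 1
  rw [Nat.cast_one] at h1
  rw [Nat.cast_zero, Euler.euler_of_iso k e0] at h0
  rw [Curv2.deg, h1, h0]
  norm_num

theorem finrank_H0_P1 (k : Type u) [Field k] :
    Module.finrank k (Coh.HH (CohB1.ProjSpace 1 k) (Coh.structureModule (CohB1.ProjSpace 1 k)) 0) = 1 := by
  obtain ⟨e0⟩ := CMReg.nonempty_twist_zero (n := 1) (k := k)
  obtain ⟨a0⟩ := ProjCohom.nonempty_HH_zero (n := 1) (R := k) 0
  rw [Nat.cast_zero] at a0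
  rw [← (Euler.hhEquiv (A := k) e0 0).finrank_eq, a0.finrank_eq, ProjCohom.finrank_forms]
  rfl

variable {R : Type u} [CommRing R] [IsDomain R] [IsDiscreteValuationRing R]
  {X : Over (Spec (CommRingCat.of R))} [IsProper X.hom] [IsLocallyNoetherian X.left]
  (Γ : ArSurf.VertComp R X) (hE : _root_.BlowUp.IsEffCartierIdeal Γ.ι.ker)
  {L : X.left.Modules} (hL : ClSub.IsInverseOf L (ClSub.idealMod Γ.ι.ker))
include hE hL

theorem deg_pullback_ideal :
    Curv2.deg (ResidueField R) Γ.curve.left ((Scheme.Modules.pullback Γ.ι).obj (ClSub.idealMod Γ.ι.ker)) 1 =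
      -ArSurf.inter R X L Γ := by
  haveI := isProper_curve Γ
  have hI := IdealModSec.isInvertible_of_isEffCartier hE
  have hLi := isInvertible_of_isInverseOf hE hL
  rw [← inter_eq_deg Γ hI, inter_eq_icl Γ hI, inter_eq_icl Γ hLi, cls_of_isInverseOf hLi hI hL, icl_inv, neg_neg]

/-- An exceptional curve of the first kind has genus zero and self-intersection `-w`. -/
theorem h1_inter_of_isExcCurve (h : Models.IsExcCurve Γ.ι) :
    Models.h1 R X Γ = 0 ∧ ArSurf.inter R X L Γ = -(Models.wdeg R X Γ : ℤ) := by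
  obtain ⟨-, κ, _, e, ⟨t⟩⟩ := h
  haveI := Γ.isClosedImmersion
  haveI := Γ.isIntegral
  haveI := isProper_curve Γ
  let P := CohB1.ProjSpace 1 κ
  let q : P ⟶ Spec (CommRingCat.of (ResidueField R)) := e.hom ≫ Γ.curve.hom
  let q' : P ⟶ Spec (CommRingCat.of κ) := CohB1.ProjSpace.toSpec 1 κ
  -- the constants of `P` are `κ`
  have hbij : Function.Bijective (Coh.toGlobal q') := by
    letI := GlobalConst.algΓ κ (X := P)
    have hfr : Module.finrank κ Γ(P, ⊤) = 1 :=
      ((GlobalConst.h0Equiv κ (X := P)).finrank_eq.symm).trans (finrank_H0_P1 κ)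
    haveI : Nontrivial Γ(P, ⊤) := Module.nontrivial_of_finrank_eq_succ (hfr.trans rfl)
    haveI : Nontrivial (Coh.Γtop P) := ‹Nontrivial Γ(P, ⊤)›
    refine ⟨(Coh.toGlobal q').injective, fun y => ?_⟩
    obtain ⟨c, hc⟩ := (finrank_eq_one_iff_of_nonzero' (1 : Γ(P, ⊤)) one_ne_zero).1 hfr y
    exact ⟨c, ((Algebra.algebraMap_eq_smul_one c).trans hc :)⟩
  let φ : ResidueField R →+* κ := (RingEquiv.ofBijective _ hbij).symm.toRingHom.comp (Coh.toGlobal q)
  have hφ : ∀ a, Coh.toGlobal q a = Coh.toGlobal q' (φ a) := fun a =>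
    ((RingEquiv.ofBijective _ hbij).apply_symm_apply _).symm
  letI : P.Over (Spec (CommRingCat.of (ResidueField R))) := ⟨q⟩
  let w := (letI := φ.toAlgebra; Module.finrank (ResidueField R) κ)
  have hscale : ∀ (F : P.Modules) (i : ℕ), Module.finrank (ResidueField R) (Coh.HH P F i) =
      w * Module.finrank κ (Coh.HH P F i) := fun F i => finrank_HH_mul (ResidueField R) q q' φ hφ F i
  have hstr : ∀ i, Module.finrank (ResidueField R) (Coh.HH Γ.curve.left (Coh.structureModule Γ.curve.left) i) =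
      w * Module.finrank κ (Coh.HH P (Coh.structureModule P) i) := fun i => by
    obtain ⟨f⟩ := nonempty_HH_structure_iso (ResidueField R) (Z := P) (Y := Γ.curve.left) e.hom rfl i
    rw [← f.finrank_eq, hscale]
  have hw : Models.wdeg R X Γ = w := by
    rw [Models.wdeg, hstr, finrank_H0_P1, mul_one]
  haveI : Subsingleton (Coh.HH P (Coh.structureModule P) 1) := ProjCohom.subsingleton_HH_structure one_pos
  refine ⟨by rw [Models.h1, hstr, Module.finrank_zero_of_subsingleton, mul_zero], ?_⟩
  -- the degree of the conormal bundle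
  have hI := IdealModSec.isInvertible_of_isEffCartier hE
  have hIY := Kleiman.isInv_pullback Γ.ι hI
  let t' : (Scheme.Modules.pullback e.hom).obj ((Scheme.Modules.pullback Γ.ι).obj (ClSub.idealMod Γ.ι.ker)) ≅
      Twist.twistProjSpace 1 κ 1 := (Scheme.Modules.pullbackComp e.hom Γ.ι).app _ ≪≫ t
  have heul : ∀ (M : Γ.curve.left.Modules) (hM : PicF.IsInvertible M) (N : P.Modules),
      ((Scheme.Modules.pullback e.hom).obj M ≅ N) →
      Curv2.euler (ResidueField R) Γ.curve.left M = (w : ℤ) * Curv2.euler κ P N := fun M hM N s => by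
    simp only [Curv2.euler]
    rw [mul_finsum' _ _ (by
      refine (Set.finite_Iio 2).subset fun m hm => ?_
      by_contra hc
      haveI := (Euler.isCoh_of_isInvertible hM).1
      have hN : Subsingleton (Coh.HH Γ.curve.left M m) :=
        Euler.subsingleton_HH_of_two_le (ResidueField R) Γ.dim_eq.le M m (by simp only [Set.mem_Iio, not_lt] at hc; omega)
      apply hm
      obtain ⟨f⟩ := nonempty_HH_pullback_iso (ResidueField R) (Z := P) (Y := Γ.curve.left) e.hom rfl hM m
      have h := hscale N m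
      rw [← (Euler.hhEquiv (A := ResidueField R) s m).finrank_eq, f.finrank_eq,
        Module.finrank_zero_of_subsingleton] at h
      have hw0 : w ≠ 0 := hw ▸ (wdeg_pos Γ).ne'
      simp [(mul_eq_zero.1 h.symm).resolve_left hw0])]
    refine finsum_congr fun i => ?_
    obtain ⟨f⟩ := nonempty_HH_pullback_iso (ResidueField R) (Z := P) (Y := Γ.curve.left) e.hom rfl hM i
    rw [← f.finrank_eq, (Euler.hhEquiv (A := ResidueField R) s i).finrank_eq, hscale]
    push_cast
    ring
  obtain ⟨s0⟩ := (Cube.clsMod_eq_one_iff (Kleiman.isInv_pullback e.hom (Euler.isInvertible_structure (X := Γ.curve.left)))).1 (by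
    rw [Cube.clsMod_pullback e.hom Euler.isInvertible_structure,
      show Cube.clsMod (Euler.isInvertible_structure (X := Γ.curve.left)) = 1 from
        (Cube.clsMod_eq_one_iff _).2 ⟨Iso.refl _⟩, map_one])
  have hdeg := deg_pullback_ideal Γ hE hL
  rw [Curv2.deg, heul _ hIY _ t', heul _ Euler.isInvertible_structure _ s0] at hdeg
  have h1 := deg_twist_one κ
  rw [Curv2.deg] at h1
  rw [hw]
  linear_combination hdeg - (w : ℤ) * h1

omit hE hL [IsLocallyNoetherian X.left] in
/-- The field of constants, as an abstract field. -/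
theorem exists_constants_field :
    ∃ (κ : Type u) (_ : Field κ) (q' : Γ.curve.left ⟶ Spec (CommRingCat.of κ)) (φ : ResidueField R →+* κ),
      IsProper q' ∧ (∀ a, Coh.toGlobal Γ.curve.hom a = Coh.toGlobal q' (φ a)) ∧
        Models.wdeg R X Γ = (letI := φ.toAlgebra; Module.finrank (ResidueField R) κ) := by
  haveI := Γ.isIntegral
  letI : Field Γ(Γ.curve.left, ⊤) := (isField_constants Γ).toField
  let E := Γ.curve.left
  let q : E ⟶ Spec (CommRingCat.of (ResidueField R)) := Γ.curve.hom
  let q' : E ⟶ Spec (CommRingCat.of Γ(Γ.curve.left, ⊤)) := E.toSpecΓ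
  have hid : ∀ a : Γ(E, ⊤), Coh.toGlobal q' a = a := fun a => by
    show q'.appTop ((Scheme.ΓSpecIso Γ(E, ⊤)).inv a) = a
    rw [show q'.appTop = (Scheme.ΓSpecIso Γ(E, ⊤)).hom from E.toSpecΓ_appTop]
    exact (Scheme.ΓSpecIso Γ(E, ⊤)).inv_hom_id_apply a
  let φ : ResidueField R →+* Γ(Γ.curve.left, ⊤) := Coh.toGlobal q
  have hφ : ∀ a, Coh.toGlobal q a = Coh.toGlobal q' (φ a) := fun a => (hid _).symm
  haveI : IsProper q' := by
    have hcomp : q' ≫ Spec.map (CommRingCat.ofHom φ) = q := by
      refine ext_of_isAffine ?_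
      rw [Scheme.Hom.comp_appTop, show q'.appTop = (Scheme.ΓSpecIso Γ(E, ⊤)).hom from E.toSpecΓ_appTop,
        Scheme.ΓSpecIso_naturality]
      refine CommRingCat.hom_ext (RingHom.ext fun a => ?_)
      show q.appTop ((Scheme.ΓSpecIso (CommRingCat.of (ResidueField R))).inv
        ((Scheme.ΓSpecIso (CommRingCat.of (ResidueField R))).hom a)) = q.appTop a
      rw [Iso.hom_inv_id_apply]
    haveI : IsProper (q' ≫ Spec.map (CommRingCat.ofHom φ)) := by rw [hcomp]; exact isProper_curve Γ
    exact IsProper.of_comp q' (Spec.map (CommRingCat.ofHom φ))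
  exact ⟨Γ(Γ.curve.left, ⊤), (isField_constants Γ).toField, q', φ, ‹IsProper q'›, hφ, wdeg_eq Γ⟩

/-- Genus zero and self-intersection `-w` make an exceptional curve of the first kind. -/
theorem isExcCurve_of_h1_inter (h1 : Models.h1 R X Γ = 0)
    (h2 : ArSurf.inter R X L Γ = -(Models.wdeg R X Γ : ℤ)) : Models.IsExcCurve Γ.ι := by
  haveI := Γ.isClosedImmersion
  haveI := Γ.isIntegral
  haveI := isProper_curve Γ
  obtain ⟨κ, _, q', φ, hq', hφ, hwd⟩ := exists_constants_field Γ
  let E := Γ.curve.left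
  let q : E ⟶ Spec (CommRingCat.of (ResidueField R)) := Γ.curve.hom
  letI : E.Over (Spec (CommRingCat.of κ)) := ⟨q'⟩
  haveI : IsProper (E ↘ Spec (CommRingCat.of κ)) := hq'
  let w := (letI := φ.toAlgebra; Module.finrank (ResidueField R) κ)
  have hscale : ∀ (F : E.Modules) (i : ℕ), Module.finrank (ResidueField R) (Coh.HH E F i) =
      w * Module.finrank κ (Coh.HH E F i) := fun F i =>
    finrank_HH_mul (ResidueField R) q q' φ hφ F i
  have hw : Models.wdeg R X Γ = w := hwd
  have hw0 : w ≠ 0 := hw ▸ (wdeg_pos Γ).ne'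
  haveI : Module.Finite κ (Coh.HH E (Coh.structureModule E) 1) := by
    haveI := Euler.isNoetherian_of_proper (X := E) κ
    exact Euler.finiteDimensional_HH _ (HomSh.isCoh_structureModule E) 1
  have hg : Subsingleton (Coh.HH E (Coh.structureModule E) 1) := by
    rw [← Module.finrank_zero_iff (R := κ)]
    have h := hscale (Coh.structureModule E) 1
    rw [show Module.finrank (ResidueField R) (Coh.HH E (Coh.structureModule E) 1) = 0 from h1] at h
    exact (mul_eq_zero.1 h.symm).resolve_left hw0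
  have hI := IdealModSec.isInvertible_of_isEffCartier hE
  have hN := Kleiman.isInv_pullback Γ.ι hI
  have heul : ∀ M : E.Modules, PicF.IsInvertible M →
      Curv2.euler (ResidueField R) E M = (w : ℤ) * Curv2.euler κ E M := fun M hM => by
    haveI := (Euler.isCoh_of_isInvertible hM).1
    rw [Euler.euler_eq_sum (ResidueField R) M (N := 2) fun m hm =>
        Euler.subsingleton_HH_of_two_le (ResidueField R) Γ.dim_eq.le M m hm,
      Euler.euler_eq_sum κ M (N := 2) fun m hm =>
        Euler.subsingleton_HH_of_two_le κ Γ.dim_eq.le M m hm, Finset.mul_sum]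
    refine Finset.sum_congr rfl fun i _ => ?_
    rw [hscale]
    push_cast
    ring
  have hdeg : Curv2.deg κ E ((Scheme.Modules.pullback Γ.ι).obj (ClSub.idealMod Γ.ι.ker)) 1 = ((1 : ℕ) : ℤ) := by
    have h := deg_pullback_ideal Γ hE hL
    rw [h2, neg_neg, hw, Curv2.deg, heul _ hN, heul _ Euler.isInvertible_structure] at h
    refine mul_left_cancel₀ (show (w : ℤ) ≠ 0 by exact_mod_cast hw0) ?_
    rw [Curv2.deg]
    push_cast at *
    linear_combination h
  have h0 : Module.finrank κ (Coh.HH E (Coh.structureModule E) 0) = 1 := by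
    have h := hscale (Coh.structureModule E) 0
    rw [show Module.finrank (ResidueField R) (Coh.HH E (Coh.structureModule E) 0) = w from hw] at h
    exact (Nat.eq_of_mul_eq_mul_left (Nat.pos_of_ne_zero hw0) (h.symm.trans (mul_one w).symm))
  obtain ⟨i, hi, hik, ⟨ti⟩⟩ :=
    CurveMult.exists_closedImmersion_of_genus_zero κ Γ.dim_eq h0 hg hN 1 one_pos hdeg
  haveI := hi
  haveI : IsIntegral (CohB1.ProjSpace 1 κ) := ProjDim.isIntegral_proj _ 1
  have hP : topologicalKrullDim ↥(CohB1.ProjSpace 1 κ) = 1 := by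
    exact_mod_cast Groth.Agent.S10829.result κ 1
  have hη : i (genericPoint E) = genericPoint (CohB1.ProjSpace 1 κ) := by
    by_contra hne
    have hcl := CurvePoints.isClosed_singleton hP.le hne
    refine CurvePoints.genericPoint_not_isClosed (X := E) Γ.dim_eq ?_
    rw [i.isClosedEmbedding.isClosed_iff_image_isClosed, Set.image_singleton]
    exact hcl
  haveI : Surjective i := ⟨fun y =>
    ((genericPoint_spec (CohB1.ProjSpace 1 κ)).specializes trivial).mem_closed
      i.isClosedMap.isClosed_range ⟨_, hη⟩⟩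
  haveI : IsIso i := isIso_of_isClosedImmersion_of_surjective i
  refine ⟨hE, κ, inferInstance, (asIso i).symm, ⟨?_⟩⟩
  exact ((Scheme.Modules.pullbackComp (inv i) Γ.ι).app (ClSub.idealMod Γ.ι.ker)).symm ≪≫
    (Scheme.Modules.pullback (inv i)).mapIso ti.symm ≪≫
    (Scheme.Modules.pullbackComp (inv i) i).app (Twist.twistProjSpace 1 κ 1) ≪≫
    eqToIso (by rw [IsIso.inv_hom_id]) ≪≫
    (Scheme.Modules.pullbackId _).app (Twist.twistProjSpace 1 κ 1)

end GrothLib.ArSurf29

namespace GrothLib.ArSurf29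

variable {R : Type u} [CommRing R] [IsDomain R] [IsDiscreteValuationRing R]
  {X : Over (Spec (CommRingCat.of R))} [IsProper X.hom] [IsLocallyNoetherian X.left]
  {n : ℕ} {Γ : Fin n → ArSurf.VertComp R X} (hΓ : Models.IsComponentList R X Γ)
include hΓ

/-- Every vertical prime divisor is one of the components. -/
theorem exists_genPt_eq (Γ' : ArSurf.VertComp R X) :
    ∃ i, Models.genPtOf R X (Γ i) = Models.genPtOf R X Γ' := by
  obtain ⟨i, z, hz⟩ := exists_mem_range hΓ (genPt_mem_fibre Γ')
  refine ⟨i, ?_⟩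
  haveI := (Γ i).isClosedImmersion
  haveI := (Γ i).isIntegral
  haveI := Γ'.isClosedImmersion
  haveI := Γ'.isIntegral
  by_contra hne
  have hzη : z ≠ genericPoint (Γ i).curve.left := fun e => hne (by rw [Models.genPtOf, ← e]; exact hz)
  have hcl : IsClosed ({Models.genPtOf R X Γ'} : Set X.left) := by
    have h := (Γ i).ι.isClosedEmbedding.isClosedMap _ (CurvePoints.isClosed_singleton (Γ i).dim_eq.le hzη)
    rw [Set.image_singleton] at h
    exact hz ▸ h
  refine CurvePoints.genericPoint_not_isClosed (X := Γ'.curve.left) Γ'.dim_eq ?_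
  rw [Γ'.ι.isClosedEmbedding.isClosed_iff_image_isClosed, Set.image_singleton]
  exact hcl

theorem exists_isExcCurve_of_isExcCurve (Γ' : ArSurf.VertComp R X) (h : Models.IsExcCurve Γ'.ι) :
    ∃ i, Models.IsExcCurve (Γ i).ι := by
  obtain ⟨i, hi⟩ := exists_genPt_eq hΓ Γ'
  haveI := (Γ i).isClosedImmersion
  haveI := (Γ i).isIntegral
  haveI := Γ'.isClosedImmersion
  haveI := Γ'.isIntegral
  have hker : (Γ i).ι.ker = Γ'.ι.ker := by rw [ker_eq_ptIdeal, ker_eq_ptIdeal, hi]
  obtain ⟨hE, κ, _, e, ⟨t⟩⟩ := h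
  let a := IsClosedImmersion.lift (Γ i).ι Γ'.ι hker.le
  let b := IsClosedImmersion.lift Γ'.ι (Γ i).ι hker.ge
  have ha : a ≫ (Γ i).ι = Γ'.ι := IsClosedImmersion.lift_fac _ _ _
  have hb : b ≫ Γ'.ι = (Γ i).ι := IsClosedImmersion.lift_fac _ _ _
  let ε : Γ'.curve.left ≅ (Γ i).curve.left :=
    ⟨a, b, by rw [← cancel_mono Γ'.ι, Category.assoc, hb, ha, Category.id_comp],
      by rw [← cancel_mono (Γ i).ι, Category.assoc, ha, hb, Category.id_comp]⟩
  refine ⟨i, hker ▸ hE, κ, inferInstance, e ≪≫ ε, ⟨?_⟩⟩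
  exact eqToIso (by rw [hker, Iso.trans_hom, Category.assoc, ha]) ≪≫ t

end GrothLib.ArSurf29
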