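import Groth.Agent.Lib.ArSurf29.Restrict
import Groth.Agent.Lib.ArSurf29.Connected
import Groth.Prelude.Def_ModelsG

/-!
# Classes killed on the generic fibre
-/

set_option autoImplicit false
set_option linter.all false
set_option backward.isDefEq.respectTransparency false

universe u

open CategoryTheory CategoryTheory.Limits AlgebraicGeometry TopologicalSpace IsLocalRing

noncomputable section

namespace GrothLib.ArSurf29

open GrothLib.Cube (Pic clsMod)

variable {R : Type u} [CommRing R] [IsDomain R] [IsDiscreteValuationRing R]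
  {X : Over (Spec (CommRingCat.of R))} [IsProper X.hom] [Flat X.hom] [IsLocallyNoetherian X.left]
  (hX : Models.IsRegularScheme X.left)
  {n : ℕ} {Γ : Fin n → ArSurf.VertComp R X} (hΓ : Models.IsComponentList R X Γ)
  {C : Scheme.{u}} {f : C ⟶ Spec (CommRingCat.of (FractionRing R))} {g : C ⟶ X.left}
  (hg : IsPullback g f X.hom (Spec.map (CommRingCat.ofHom (algebraMap R (FractionRing R)))))

section

include hΓ

theorem nonempty_fin (g' : C ⟶ X.left) (hne : Nonempty C) : Nonempty (Fin n) := by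
  obtain ⟨c⟩ := hne
  have hcl : IsClosed (X.hom '' closure {g' c}) := X.hom.isClosedMap _ isClosed_closure
  have hmem : closedPoint R ∈ X.hom '' closure {g' c} :=
    (IsLocalRing.specializes_closedPoint (X.hom (g' c))).mem_closed hcl ⟨g' c, subset_closure rfl, rfl⟩
  obtain ⟨x, -, hx⟩ := hmem
  obtain ⟨i, -⟩ := exists_mem_range hΓ (show x ∈ Models.specialFibreSet R X from hx)
  exact ⟨i⟩

end

variable {L : Fin n → X.left.Modules} (hL : ∀ j, ClSub.IsInverseOf (L j) (ClSub.idealMod (Γ j).ι.ker))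
include hX hΓ hL

theorem icl_prod_vcls (i : Fin n) (a : Fin n → ℤ) :
    icl (Γ i) (∏ j, vcls hX hΓ hL j ^ a j) = ∑ j, a j * ArSurf.inter R X (L j) (Γ i) := by
  rw [icl_prod]
  exact Finset.sum_congr rfl fun j _ => by rw [icl_zpow, icl_vcls]

include hg
variable (hH0 : IsIso f.appTop)
include hH0

theorem pow_multGcd_eq_one {x : Pic X.left} (hx : Cube.pull g x = 1) (hdeg : ∀ i, icl (Γ i) x = 0) :
    x ^ Models.multGcd R X Γ = 1 := by
  obtain ⟨a, ha⟩ := exists_eq_prod_vcls' hX hΓ hL hg hx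
  have ha' : x = ∏ j, vcls hX hΓ hL j ^ (a j : ℤ) := by simp only [ha, zpow_natCast]
  obtain ⟨q, hq⟩ := (kernel_iff hX hΓ hL (isPreconnected_fibre hg hH0) fun j => (a j : ℤ)).1 fun i => by
    rw [← icl_prod_vcls hX hΓ hL i, ← ha', hdeg i]
  have hnum : ∀ j, (a j : ℤ) * q.den = q.num * Models.mult R X (Γ j) := fun j => by
    have h1 : ((a j : ℤ) : ℚ) * (q.den : ℚ) = (q.num : ℚ) * (Models.mult R X (Γ j) : ℚ) := by
      rw [hq j, mul_right_comm, Rat.mul_den_eq_num]
    exact_mod_cast h1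
  have hden : ∀ j, q.den ∣ Models.mult R X (Γ j) := fun j => by
    refine (Nat.Coprime.symm q.reduced).dvd_of_dvd_mul_left ⟨a j, ?_⟩
    have h1 := congrArg Int.natAbs (hnum j)
    rw [Int.natAbs_mul, Int.natAbs_mul, Int.natAbs_natCast, Int.natAbs_natCast, Int.natAbs_natCast] at h1
    rw [← h1, mul_comm]
  obtain ⟨e, he⟩ : q.den ∣ Models.multGcd R X Γ := Finset.dvd_gcd fun j _ => hden j
  rw [ha', ← zpow_natCast, ← Finset.prod_zpow]
  simp only [← zpow_mul]
  refine (prod_vcls_zpow_eq_one_iff hX hΓ hL hg hH0 _).2 ⟨(e : ℤ) * q.num, fun j => ?_⟩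
  rw [he]
  push_cast
  linear_combination (e : ℤ) * hnum j

/-- An `h`-torsion class trivial on the generic fibre is a multiple of `fibre / gcd (h, d)`. -/
theorem exists_eq_prod_of_torsion {x : Pic X.left} (hx : Cube.pull g x = 1) {h : ℕ} (hh : 0 < h) (hxh : x ^ h = 1) :
    ∃ k : ℤ, x = ∏ j, vcls hX hΓ hL j ^ (k * ((Models.mult R X (Γ j) / Nat.gcd h (Models.multGcd R X Γ) : ℕ) : ℤ)) := by
  obtain ⟨a, ha⟩ := exists_eq_prod_vcls' hX hΓ hL hg hx
  have ha' : x = ∏ j, vcls hX hΓ hL j ^ (a j : ℤ) := by simp only [ha, zpow_natCast]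
  obtain ⟨c, hc⟩ := (prod_vcls_zpow_eq_one_iff hX hΓ hL hg hH0 (fun j => (a j : ℤ) * h)).1 (by
    rw [← hxh, ha', ← zpow_natCast, ← Finset.prod_zpow]
    simp only [← zpow_mul])
  set d := Models.multGcd R X Γ with hd
  set e := Nat.gcd h d with he
  have h1 : ∀ j, h ∣ c.natAbs * Models.mult R X (Γ j) := fun j => by
    refine ⟨a j, ?_⟩
    have h2 := congrArg Int.natAbs (hc j)
    rw [Int.natAbs_mul, Int.natAbs_mul, Int.natAbs_natCast, Int.natAbs_natCast, Int.natAbs_natCast] at h2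
    rw [← h2, mul_comm]
  have h3 : h ∣ c.natAbs * d := by
    have h4 : h ∣ Finset.univ.gcd fun j => c.natAbs * Models.mult R X (Γ j) := Finset.dvd_gcd fun j _ => h1 j
    rw [Finset.gcd_mul_left] at h4
    simpa [hd, Models.multGcd] using h4
  have h5 : h ∣ c.natAbs * e := by
    rw [he, ← Nat.gcd_mul_left]
    exact Nat.dvd_gcd (dvd_mul_left _ _) h3
  obtain ⟨c', hc'⟩ : (h : ℤ) ∣ c * (e : ℤ) := by
    rw [← Int.dvd_natAbs, Int.natAbs_mul, Int.natAbs_natCast, Int.natCast_dvd_natCast]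
    exact h5
  refine ⟨c', ha'.trans (Finset.prod_congr rfl fun j _ => congrArg (vcls hX hΓ hL j ^ ·) ?_)⟩
  obtain ⟨b, hb⟩ : e ∣ Models.mult R X (Γ j) :=
    (Nat.gcd_dvd_right h d).trans (Finset.gcd_dvd (Finset.mem_univ j))
  have he0 : 0 < e := Nat.gcd_pos_of_pos_left _ hh
  rw [hb, Nat.mul_div_cancel_left _ he0]
  have h6 : ((a j : ℤ) - c' * b) * ((h : ℤ) * e) = 0 := by
    have h7 := hc j
    rw [hb] at h7
    push_cast at h7
    linear_combination (e : ℤ) * h7 + (e : ℤ) * (b : ℤ) * hc'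
  exact sub_eq_zero.1 ((mul_eq_zero.1 h6).resolve_right
    (mul_ne_zero (by exact_mod_cast hh.ne') (by exact_mod_cast he0.ne')))

theorem eq_one_of_torsion_coprime {x : Pic X.left} (hx : Cube.pull g x = 1) {h : ℕ} (hh : 0 < h)
    (hcop : Nat.Coprime h (Models.multGcd R X Γ)) (hxh : x ^ h = 1) : x = 1 := by
  obtain ⟨k, hk⟩ := exists_eq_prod_of_torsion hX hΓ hg hL hH0 hx hh hxh
  rw [hk, prod_vcls_zpow_eq_one_iff hX hΓ hL hg hH0]
  exact ⟨k, fun j => by rw [hcop, Nat.div_one]⟩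

/-- Lifting torsion from the generic fibre. -/
theorem exists_torsion_lift {x : Pic X.left} {h : ℕ} (hcop : Nat.Coprime h (Models.multGcd R X Γ))
    (hxh : Cube.pull g x ^ h = 1) (hdeg : ∀ i, icl (Γ i) x = 0) :
    ∃ y : Pic X.left, y ^ h = 1 ∧ Cube.pull g y = Cube.pull g x := by
  have h1 := pow_multGcd_eq_one hX hΓ hg hL hH0 (x := x ^ h) (by rw [map_pow, hxh])
    (fun i => by rw [icl_pow, hdeg, mul_zero])
  have hb := Nat.gcd_eq_gcd_ab h (Models.multGcd R X Γ)
  rw [hcop] at hb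
  refine ⟨x ^ (Nat.gcdB h (Models.multGcd R X Γ) * (Models.multGcd R X Γ : ℤ)), ?_, ?_⟩
  · rw [← zpow_natCast, ← zpow_mul, mul_assoc, mul_comm _ ((Models.multGcd R X Γ : ℤ) * _),
      mul_comm (Models.multGcd R X Γ : ℤ), zpow_mul, zpow_mul, zpow_natCast, zpow_natCast, h1, one_zpow]
  · have h2 : Nat.gcdB h (Models.multGcd R X Γ) * (Models.multGcd R X Γ : ℤ) =
        1 + (h : ℤ) * (-(Nat.gcdA h (Models.multGcd R X Γ))) := by
      push_cast at hb
      linear_combination -hb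
    rw [h2, zpow_add, zpow_one, zpow_mul, zpow_natCast, map_mul, map_zpow, map_pow, hxh, one_zpow, mul_one]

end GrothLib.ArSurf29

namespace GrothLib.ArSurf29

open GrothLib.Cube (clsMod)

variable {R : Type u} [CommRing R] [IsDomain R] [IsDiscreteValuationRing R]
  {X : Over (Spec (CommRingCat.of R))} [Flat X.hom] [IsLocallyNoetherian X.left]
  (hX : Models.IsRegularScheme X.left)
  {n : ℕ} {Γ : Fin n → ArSurf.VertComp R X} (hΓ : Models.IsComponentList R X Γ)
include hX hΓ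

theorem exists_inverses : ∃ L : Fin n → X.left.Modules,
    ∀ j, ClSub.IsInverseOf (L j) (ClSub.idealMod (Γ j).ι.ker) := by
  have hI := fun j => IdealModSec.isInvertible_of_isEffCartier (isEffCartier_ker (isMaxComp hΓ j) hX)
  refine ⟨fun j => HodgeIndex.rep (clsMod (hI j))⁻¹, fun j => ?_⟩
  exact (Cube.clsMod_eq_one_iff (Ample.isInvertible_tensorMod (HodgeIndex.isInv_rep _) (hI j))).1 (by
    rw [Cube.clsMod_tensorMod (HodgeIndex.isInv_rep _) (hI j), HodgeIndex.cls_rep, inv_mul_cancel])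

end GrothLib.ArSurf29
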