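import Groth.Agent.Lib.ArSurf29.DivSum
import Groth.Agent.Lib.ArSurf29.Torsion

/-!
# Euler characteristics of vertical divisors
-/

set_option autoImplicit false
set_option linter.all false
set_option backward.isDefEq.respectTransparency false

universe u

open CategoryTheory CategoryTheory.Limits AlgebraicGeometry TopologicalSpace IsLocalRing

noncomputable section

namespace GrothLib.ArSurf29

open GrothLib.Cube (Pic clsMod)

variable {R : Type u} [CommRing R] [IsDomain R] [IsDiscreteValuationRing R]
  {X : Over (Spec (CommRingCat.of R))}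

theorem specMap_ker_le {A B : CommRingCat.{u}} (φ : A ⟶ B) :
    (Spec.map φ).ker ≤ Scheme.IdealSheafData.ofIdealTop ((RingHom.ker φ.hom).map (Scheme.ΓSpecIso A).inv.hom) := by
  refine Scheme.IdealSheafData.le_of_isAffine ?_
  rw [Scheme.IdealSheafData.ofIdealTop_ideal, Scheme.Hom.ker_apply]
  intro a ha
  have h1 : φ.hom ((Scheme.ΓSpecIso A).hom a) = 0 := by
    have h := ConcreteCategory.congr_hom (Scheme.ΓSpecIso_naturality φ) a
    refine Eq.trans h.symm ?_
    show (Scheme.ΓSpecIso B).hom ((Spec.map φ).app ⊤ a) = 0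
    rw [show (Spec.map φ).app ⊤ a = 0 from ha]
    exact map_zero _
  have h2 := Ideal.mem_map_of_mem (Scheme.ΓSpecIso A).inv.hom (RingHom.mem_ker.2 h1)
  rw [Iso.hom_inv_id_apply] at h2
  simp only [homOfLE_refl, op_id, CategoryTheory.Functor.map_id, CommRingCat.hom_id, Ideal.map_id]
  exact h2

theorem spec_residue_ker_le :
    (Spec.map (CommRingCat.ofHom (residue R))).ker ≤ Curv2.idealSheaf R (maximalIdeal R) := by
  have h := specMap_ker_le (CommRingCat.ofHom (residue R))
  rw [show RingHom.ker (CommRingCat.ofHom (residue R)).hom = maximalIdeal R from ker_residue] at h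
  exact h

theorem exists_toResidueField {D : X.left.IdealSheafData} (hD : Models.specialFibreIdeal R X ≤ D) :
    ∃ s : D.subscheme ⟶ Spec (CommRingCat.of (ResidueField R)),
      s ≫ Spec.map (CommRingCat.ofHom (residue R)) = D.subschemeι ≫ X.hom := by
  haveI : IsClosedImmersion (Spec.map (CommRingCat.ofHom (residue R))) :=
    IsClosedImmersion.spec_of_surjective _ residue_surjective
  have hle : (Spec.map (CommRingCat.ofHom (residue R))).ker ≤ (D.subschemeι ≫ X.hom).ker := by
    refine spec_residue_ker_le.trans (le_trans ?_ (Scheme.IdealSheafData.map_mono hD (f := X.hom)))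
    exact Scheme.IdealSheafData.le_map_comap _ _
  exact ⟨IsClosedImmersion.lift _ _ hle, IsClosedImmersion.lift_fac _ _ hle⟩

variable [IsProper X.hom]

theorem isProper_toResidueField {D : X.left.IdealSheafData} (s : D.subscheme ⟶ Spec (CommRingCat.of (ResidueField R)))
    (hs : s ≫ Spec.map (CommRingCat.ofHom (residue R)) = D.subschemeι ≫ X.hom) : IsProper s := by
  haveI : IsProper (s ≫ Spec.map (CommRingCat.ofHom (residue R))) := by rw [hs]; infer_instance
  exact IsProper.of_comp s (Spec.map (CommRingCat.ofHom (residue R)))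

variable [IsLocallyNoetherian X.left]

theorem lengthH_quotMod {D : X.left.IdealSheafData} [D.subscheme.Over (Spec (CommRingCat.of (ResidueField R)))]
    (hs : D.subscheme ↘ Spec (CommRingCat.of (ResidueField R)) ≫ Spec.map (CommRingCat.ofHom (residue R)) =
      D.subschemeι ≫ X.hom) (i : ℕ) :
    Models.lengthH R X (ClSub.quotMod D) i =
      Module.finrank (ResidueField R) (Coh.HH D.subscheme (Coh.structureModule D.subscheme) i) := by
  letI : D.subscheme.Over (Spec (CommRingCat.of R)) := ⟨D.subschemeι ≫ X.hom⟩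
  haveI : IsProper (D.subscheme ↘ Spec (CommRingCat.of (ResidueField R))) := isProper_toResidueField _ hs
  haveI := Euler.isNoetherian_of_proper (X := D.subscheme) (ResidueField R)
  haveI := Cohom.isQuasicoherent_structureModule D.subscheme
  haveI : Module.Finite (ResidueField R) (Coh.HH D.subscheme (Coh.structureModule D.subscheme) i) :=
    Euler.finiteDimensional_HH _ (HomSh.isCoh_structureModule D.subscheme) i
  obtain ⟨e⟩ := Snapper.nonempty_HH_linearEquiv_pushforward (A := R) (S := X.left) D.subschemeι rfl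
    (Coh.structureModule D.subscheme) i
  have e2 := length_HH_eq_finrank (Z := D.subscheme) R (ResidueField R) residue_surjective hs
    (Coh.structureModule D.subscheme) i
  have e1 := e.length_eq
  rw [Models.lengthH]
  show (Module.length R (Coh.HH X.left ((Scheme.Modules.pushforward D.subschemeι).obj _) i)).toNat = _
  rw [← e1, e2]
  rfl

/-- `χ` of a divisor in the closed fibre. -/
def chiD (X : Over (Spec (CommRingCat.of R))) (D : X.left.IdealSheafData) : ℤ :=
  (Models.lengthH R X (ClSub.quotMod D) 0 : ℤ) - (Models.lengthH R X (ClSub.quotMod D) 1 : ℤ)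

variable {n : ℕ} {Γ : Fin n → ArSurf.VertComp R X} (hΓ : Models.IsComponentList R X Γ)

omit [IsProper X.hom] [IsLocallyNoetherian X.left] in
theorem le_last_spec {Y : Type*} [TopologicalSpace Y] [Preorder Y] (l : LTSeries Y) (k : Fin (l.length + 1)) :
    l k ≤ l.last := l.monotone (Fin.le_last k)

include hΓ in
theorem dimLT_fibre : Snapper.DimLT (Models.specialFibreSet R X) 2 := by
  intro l hl
  obtain ⟨i, hi⟩ := exists_mem_range hΓ (hl (Fin.last _))
  have hmem : ∀ k, l k ∈ Set.range ((Γ i).ι.base : (Γ i).curve.left → X.left) := fun k => by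
    refine (show l.last ⤳ l k from l.monotone (Fin.le_last k)).mem_closed (Γ i).ι.isClosedEmbedding.isClosed_range ?_
    exact hi
  choose z hz using hmem
  have hmono : StrictMono z := fun a b hab => by
    have h : (Γ i).ι (z a) < (Γ i).ι (z b) := by
      rw [show (Γ i).ι (z a) = l a from hz a, show (Γ i).ι (z b) = l b from hz b]
      exact l.strictMono hab
    refine lt_of_le_not_ge ?_ fun h' => h.not_ge ?_
    · exact ((Γ i).ι.isClosedEmbedding.isInducing.specializes_iff.1 (show (Γ i).ι (z b) ⤳ (Γ i).ι (z a) from h.le))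
    · exact (show (Γ i).ι (z a) ⤳ (Γ i).ι (z b) from
        (show z a ⤳ z b from h').map (Γ i).ι.continuous)
  exact Snapper.dimLT_of_dim_le (S := (Set.univ : Set (Γ i).curve.left))
    ((IsHomeomorph.topologicalKrullDim_eq _ (Homeomorph.Set.univ (Γ i).curve.left).isHomeomorph).le.trans (Γ i).dim_eq.le)
    (LTSeries.mk l.length z hmono) fun _ => trivial

include hΓ in
theorem chiD_eq_euler {D : X.left.IdealSheafData} [D.subscheme.Over (Spec (CommRingCat.of (ResidueField R)))]
    (hs : D.subscheme ↘ Spec (CommRingCat.of (ResidueField R)) ≫ Spec.map (CommRingCat.ofHom (residue R)) =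
      D.subschemeι ≫ X.hom) (hD : Models.specialFibreIdeal R X ≤ D) :
    chiD X D = Curv2.euler (ResidueField R) D.subscheme (Coh.structureModule D.subscheme) := by
  haveI : IsProper (D.subscheme ↘ Spec (CommRingCat.of (ResidueField R))) := isProper_toResidueField _ hs
  haveI := Cohom.isQuasicoherent_structureModule D.subscheme
  have hsub : Set.range D.subschemeι ⊆ Models.specialFibreSet R X := by
    rw [Scheme.IdealSheafData.range_subschemeι]
    exact fun x hx => support_fibre.le (Scheme.IdealSheafData.support_antitone hD hx)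
  have hcl : IsClosed (Set.range D.subschemeι) := D.subschemeι.isClosedEmbedding.isClosed_range
  have hdim : topologicalKrullDim D.subscheme ≤ 1 := by
    rw [IsHomeomorph.topologicalKrullDim_eq _ D.subschemeι.isClosedEmbedding.isEmbedding.toHomeomorph.isHomeomorph]
    exact Snapper.dim_le_of_dimLT hcl (d := 1) ((dimLT_fibre hΓ).mono hsub)
  rw [Euler.euler_eq_sum (ResidueField R) _ (N := 2) fun m hm =>
    Euler.subsingleton_HH_of_two_le (ResidueField R) hdim _ m hm]
  simp only [chiD, lengthH_quotMod hs, Finset.sum_range_succ, Finset.sum_range_zero]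
  ring

variable [Flat X.hom] (hX : Models.IsRegularScheme X.left)
include hΓ hX

omit [IsProper X.hom] in
theorem fibre_le_prod [QuasiCompact X.hom] {a : Fin n → ℕ} (ha : ∀ j, a j ≤ Models.mult R X (Γ j)) :
    Models.specialFibreIdeal R X ≤ ∏ j, (Γ j).ι.ker ^ a j := by
  refine le_of_eq_of_le ?_ (mul_le_left' (∏ j, (Γ j).ι.ker ^ a j)
    (∏ j, (Γ j).ι.ker ^ (Models.mult R X (Γ j) - a j)))
  rw [fibre_eq_prod hΓ hX, ← Finset.prod_mul_distrib]
  exact Finset.prod_congr rfl fun j _ => by rw [← pow_add, Nat.add_sub_cancel' (ha j)]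

theorem chiD_add {L : Fin n → X.left.Modules} (hL : ∀ j, ClSub.IsInverseOf (L j) (ClSub.idealMod (Γ j).ι.ker))
    (a : Fin n → ℕ) (i : Fin n) (ha : ∀ j, a j + (if j = i then 1 else 0) ≤ Models.mult R X (Γ j)) :
    chiD X (∏ j, (Γ j).ι.ker ^ (a j + if j = i then 1 else 0)) - chiD X (∏ j, (Γ j).ι.ker ^ a j) =
      -(∑ j, (a j : ℤ) * ArSurf.inter R X (L j) (Γ i)) +
        ((Models.wdeg R X (Γ i) : ℤ) - (Models.h1 R X (Γ i) : ℤ)) := by
  classical
  let D := ∏ j, (Γ j).ι.ker ^ a j
  let K := (Γ i).ι.ker
  have hDK : ∏ j, (Γ j).ι.ker ^ (a j + if j = i then 1 else 0) = D * K := by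
    simp only [pow_add, Finset.prod_mul_distrib]
    congr 1
    rw [Finset.prod_eq_single i (fun j _ hj => by rw [if_neg hj, pow_zero]) (fun h => absurd (Finset.mem_univ i) h),
      if_pos rfl, pow_one]
  rw [hDK]
  have hD' : Models.specialFibreIdeal R X ≤ D * K := by rw [← hDK]; exact fibre_le_prod hΓ hX ha
  have hDle : Models.specialFibreIdeal R X ≤ D := fibre_le_prod hΓ hX fun j => le_trans (Nat.le_add_right _ _) (ha j)
  obtain ⟨sZ, hsZ⟩ := exists_toResidueField hD'
  obtain ⟨sV, hsV⟩ := exists_toResidueField hDle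
  letI : (D * K).subscheme.Over (Spec (CommRingCat.of (ResidueField R))) := ⟨sZ⟩
  letI : D.subscheme.Over (Spec (CommRingCat.of (ResidueField R))) := ⟨sV⟩
  haveI : IsProper ((D * K).subscheme ↘ Spec (CommRingCat.of (ResidueField R))) := isProper_toResidueField sZ hsZ
  haveI := isProper_curve (Γ i)
  haveI : IsClosedImmersion (Spec.map (CommRingCat.ofHom (residue R))) :=
    IsClosedImmersion.spec_of_surjective _ residue_surjective
  let j := (D * K).subschemeι
  have hKle : D * K ≤ K := by rw [mul_comm]; exact mul_le_left' K D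
  have hvle : D * K ≤ D := mul_le_left' D K
  have hjK : j.ker ≤ (Γ i).ι.ker := by rw [Scheme.IdealSheafData.ker_subschemeι]; exact hKle
  have hjD : j.ker ≤ D.subschemeι.ker := by
    rw [Scheme.IdealSheafData.ker_subschemeι, Scheme.IdealSheafData.ker_subschemeι]; exact hvle
  let ii := IsClosedImmersion.lift j (Γ i).ι hjK
  let v := IsClosedImmersion.lift j D.subschemeι hjD
  have hij : ii ≫ j = (Γ i).ι := IsClosedImmersion.lift_fac _ _ _
  have hvj : v ≫ j = D.subschemeι := IsClosedImmersion.lift_fac _ _ _
  haveI : IsClosedImmersion ii := by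
    haveI : IsClosedImmersion (ii ≫ j) := by rw [hij]; infer_instance
    exact IsClosedImmersion.of_comp ii j
  haveI : IsClosedImmersion v := by
    haveI : IsClosedImmersion (v ≫ j) := by rw [hvj]; infer_instance
    exact IsClosedImmersion.of_comp v j
  have hIK := IdealModSec.isInvertible_of_isEffCartier (isEffCartier_ker (isMaxComp hΓ i) hX)
  have hID := IdealModSec.isInvertible_of_isEffCartier (isEffCartier_prod hΓ hX a)
  have hcomp : ∀ {Y : Scheme.{u}} (p q : Y ⟶ Spec (CommRingCat.of (ResidueField R))),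
      p ≫ Spec.map (CommRingCat.ofHom (residue R)) = q ≫ Spec.map (CommRingCat.ofHom (residue R)) → p = q :=
    fun p q h => (cancel_mono _).1 h
  have h := euler_mul_eq (ResidueField R) D K hID hIK j (Scheme.IdealSheafData.ker_subschemeι _) ii
    (by rw [hij])
    (hcomp _ _ (by
      show (ii ≫ sZ) ≫ _ = (Γ i).curve.hom ≫ Spec.map (CommRingCat.ofHom (residue R))
      rw [Category.assoc, hsZ, ← Category.assoc, hij]
      exact (Γ i).w))
    v (by rw [hvj, Scheme.IdealSheafData.ker_subschemeι])
    (hcomp _ _ (by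
      show (v ≫ sZ) ≫ _ = sV ≫ Spec.map (CommRingCat.ofHom (residue R))
      rw [Category.assoc, hsZ, hsV, ← Category.assoc, hvj]))
  rw [← chiD_eq_euler hΓ hsZ hD', ← chiD_eq_euler hΓ hsV hDle, hij] at h
  rw [h, add_sub_cancel_right]
  haveI := Cohom.isQuasicoherent_structureModule (Γ i).curve.left
  have hO : Curv2.euler (ResidueField R) (Γ i).curve.left (Coh.structureModule (Γ i).curve.left) =
      (Models.wdeg R X (Γ i) : ℤ) - (Models.h1 R X (Γ i) : ℤ) := by
    rw [Euler.euler_eq_sum (ResidueField R) _ (N := 2) fun m hm =>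
      Euler.subsingleton_HH_of_two_le (ResidueField R) (Γ i).dim_eq.le _ m hm]
    simp only [Models.wdeg, Models.h1, Finset.sum_range_succ, Finset.sum_range_zero]
    ring
  have hd := (inter_eq_deg (Γ i) hID).symm.trans (inter_eq_icl (Γ i) hID)
  rw [Curv2.deg, hO, cls_idealMod_prod_pow hX hΓ hL a hID, icl_inv, icl_prod] at hd
  simp only [icl_pow, icl_vcls, Nat.cast_one, one_mul] at hd
  linear_combination hd

end GrothLib.ArSurf29
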