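import Groth.Agent.Lib.ProjCoh.Generic
import Groth.Agent.Lib.BlowUp.EffCartier
import Groth.Prelude.Def_ModelsG

/-!
# Global sections of quotients by ideals of closed immersions
-/

set_option autoImplicit false
set_option linter.all false
set_option backward.isDefEq.respectTransparency false

universe u

open CategoryTheory AlgebraicGeometry

noncomputable section

namespace GrothLib.ArSurf29

variable {X Y Z : Scheme.{u}}

/-- Global sections of `O/I(Z)` are those of `Z`. -/
theorem nonempty_H0_quotMod_ker (A : Type u) [CommRing A] [Y.Over (Spec (CommRingCat.of A))]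
    [Z.Over (Spec (CommRingCat.of A))] (j : Z ⟶ Y) [IsClosedImmersion j]
    (hj : j ≫ Y ↘ Spec (CommRingCat.of A) = Z ↘ Spec (CommRingCat.of A)) :
    Nonempty (Coh.HH Y (ClSub.quotMod j.ker) 0 ≃ₗ[A] Coh.HH Z (Coh.structureModule Z) 0) := by
  let ψ : Γ(j.ker.subscheme, ⊤) ≅ Γ(Z, ⊤) := asIso j.toImage.appTop
  let e : Coh.HH Y (ClSub.quotMod j.ker) 0 ≃+ Coh.HH Z (Coh.structureModule Z) 0 :=
    ((ProjCoh.H0top (ClSub.quotMod j.ker)).trans ψ.commRingCatIsoToRingEquiv.toAddEquiv).trans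
      (ProjCoh.H0top (Coh.structureModule Z)).symm
  refine ⟨{ e with map_smul' := fun a z => ?_ }⟩
  apply (ProjCoh.H0top (Coh.structureModule Z)).injective
  show ProjCoh.H0top _ ((ProjCoh.H0top (Coh.structureModule Z)).symm
      (ψ.hom (ProjCoh.H0top (ClSub.quotMod j.ker) (a • z)))) =
    ProjCoh.H0top _ (a • (ProjCoh.H0top (Coh.structureModule Z)).symm
      (ψ.hom (ProjCoh.H0top (ClSub.quotMod j.ker) z)))
  rw [AddEquiv.apply_symm_apply, ProjCoh.H0top_smul, ProjCoh.H0top_smul, AddEquiv.apply_symm_apply]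
  show ψ.hom (j.ker.subschemeι.appTop _ * _) = _
  rw [map_mul]
  refine congrArg (· * _) ?_
  show (j.ker.subschemeι.appTop ≫ j.toImage.appTop) ((Y ↘ Spec (CommRingCat.of A)).appTop
    ((Scheme.ΓSpecIso (CommRingCat.of A)).inv a)) = _
  rw [← Scheme.Hom.comp_appTop, show j.toImage ≫ j.ker.subschemeι = j from j.toImage_imageι]
  show ((Y ↘ Spec (CommRingCat.of A)).appTop ≫ j.appTop) _ = _
  rw [← Scheme.Hom.comp_appTop, hj]
  rfl

/-- Cohomology over a quotient of the base. -/
theorem length_HH_eq_finrank (A k : Type u) [CommRing A] [Field k] [Algebra A k]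
    (hsurj : Function.Surjective (algebraMap A k))
    [Z.Over (Spec (CommRingCat.of A))] [Z.Over (Spec (CommRingCat.of k))]
    (hZ : Z ↘ Spec (CommRingCat.of k) ≫ Spec.map (CommRingCat.ofHom (algebraMap A k)) =
      Z ↘ Spec (CommRingCat.of A)) (F : Z.Modules) (n : ℕ)
    [Module.Finite k (Coh.HH Z F n)] :
    Module.length A (Coh.HH Z F n) = (Module.finrank k (Coh.HH Z F n) : ℕ∞) := by
  haveI : IsScalarTower A k (Coh.HH Z F n) := IsScalarTower.of_algebraMap_smul fun a m => by
    show (Coh.toGlobal (Z ↘ Spec (CommRingCat.of k)) (algebraMap A k a)) • m =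
      (Coh.toGlobal (Z ↘ Spec (CommRingCat.of A)) a) • m
    congr 1
    rw [← hZ]
    show _ = ((Scheme.ΓSpecIso (CommRingCat.of A)).inv ≫
      (Z ↘ Spec (CommRingCat.of k) ≫ Spec.map (CommRingCat.ofHom (algebraMap A k))).appTop) a
    rw [Scheme.Hom.comp_appTop, ← Category.assoc, ← Scheme.ΓSpecIso_inv_naturality]
    rfl
  rw [Module.length_eq_of_surjective (R := k) (S := A) (M := Coh.HH Z F n) hsurj, Module.length_eq_finrank]

/-- `(D|_Z)` pushed forward to `Y` is `D + Z`. -/
theorem map_comap_eq_sup (D : Y.IdealSheafData) (i : Z ⟶ Y) [IsClosedImmersion i] :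
    (D.comap i).map i = D ⊔ i.ker := by
  refine Scheme.IdealSheafData.ext (funext fun U => ?_)
  rw [Scheme.IdealSheafData.ideal_map_of_isAffineHom,
    GrothLib.BlowUp.ideal_comap_eq_map D i U ⟨i ⁻¹ᵁ U.1, U.2.preimage i⟩ le_rfl,
    show (i.appLE U.1 (i ⁻¹ᵁ U.1) le_rfl) = i.app U.1 from Scheme.Hom.appLE_eq_app i,
    Ideal.comap_map_of_surjective _ (i.app_surjective U.1 U.2)]
  rw [Scheme.IdealSheafData.ideal_sup, Pi.sup_apply, Scheme.Hom.ker_apply]
  rfl

theorem ker_subschemeι_comp_eq_sup (D : Y.IdealSheafData) (i : Z ⟶ Y) [IsClosedImmersion i] :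
    ((D.comap i).subschemeι ≫ i).ker = D ⊔ i.ker :=
  map_comap_eq_sup D i

end GrothLib.ArSurf29
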