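import Groth.Agent.Lib.ArSurf29.Fibre
import Groth.Agent.Lib.ArSurf29.H0Quot
import Groth.Agent.Lib.HodgeIndex.IdealMul
import Groth.Agent.Lib.HodgeIndex.Pullback
import Groth.Agent.Lib.HodgeIndex.IdealLe
import Groth.Agent.Lib.CurveMult.DegHom

/-!
# Intersection numbers with vertical prime divisors
-/

set_option autoImplicit false
set_option linter.all false
set_option backward.isDefEq.respectTransparency false

universe u

open CategoryTheory CategoryTheory.Limits AlgebraicGeometry TopologicalSpace IsLocalRing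

noncomputable section

namespace GrothLib.ArSurf29

open GrothLib.Cube (Pic clsMod)
open GrothLib.HodgeIndex (rep isInv_rep cls_rep)
open GrothLib.CartierDescent (stalkIdeal stalkIdeal_eq_top_iff)

variable {R : Type u} [CommRing R] [IsDomain R] [IsDiscreteValuationRing R]
  {X : Over (Spec (CommRingCat.of R))}

theorem isProper_curve [IsProper X.hom] (Γ : ArSurf.VertComp R X) :
    IsProper (Γ.curve.left ↘ Spec (CommRingCat.of (ResidueField R))) := by
  haveI : IsProper (Γ.curve.hom ≫ Spec.map (CommRingCat.ofHom (residue R))) := by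
    rw [← Γ.w]; infer_instance
  show IsProper Γ.curve.hom
  exact IsProper.of_comp Γ.curve.hom (Spec.map (CommRingCat.ofHom (residue R)))

section Degree

variable [IsProper X.hom] (Γ : ArSurf.VertComp R X)

/-- The intersection number as a degree. -/
theorem inter_eq_deg {L : X.left.Modules} (hL : PicF.IsInvertible L) :
    ArSurf.inter R X L Γ = Curv2.deg (ResidueField R) Γ.curve.left ((Scheme.Modules.pullback Γ.ι).obj L) 1 := by
  haveI := isProper_curve Γ
  have hLY := Kleiman.isInv_pullback Γ.ι hL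
  have h : ∀ G : Γ.curve.left.Modules, PicF.IsInvertible G →
      FGA.eulerCharLE (ResidueField R) Γ.curve.left G 1 = Curv2.euler (ResidueField R) Γ.curve.left G := by
    intro G hG
    haveI := Euler.isNoetherian_of_proper (X := Γ.curve.left) (ResidueField R)
    haveI : G.IsQuasicoherent := (Euler.isCoh_of_isInvertible hG).1
    exact (Euler.euler_eq_sum _ G (N := 2) fun n hn =>
      Euler.subsingleton_HH_of_two_le (ResidueField R) Γ.dim_eq.le G n hn).symm
  rw [ArSurf.inter, ArSurf.curveDeg, h _ hLY, h _ Euler.isInvertible_structure, Curv2.deg]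
  simp

theorem inter_congr {L M : X.left.Modules} (hL : PicF.IsInvertible L) (hM : PicF.IsInvertible M)
    (h : clsMod hL = clsMod hM) : ArSurf.inter R X L Γ = ArSurf.inter R X M Γ := by
  obtain ⟨e⟩ := (Cube.clsMod_eq_iff hL hM).1 h
  rw [inter_eq_deg Γ hL, inter_eq_deg Γ hM]
  exact Euler.deg_of_iso _ ((Scheme.Modules.pullback Γ.ι).mapIso e) 1

/-- The intersection number of a class. -/
def icl (x : Pic X.left) : ℤ := ArSurf.inter R X (rep x) Γ

theorem inter_eq_icl {L : X.left.Modules} (hL : PicF.IsInvertible L) :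
    ArSurf.inter R X L Γ = icl Γ (clsMod hL) :=
  inter_congr Γ hL (isInv_rep _) (cls_rep _).symm

theorem icl_mul (x y : Pic X.left) : icl Γ (x * y) = icl Γ x + icl Γ y := by
  haveI := isProper_curve Γ
  have hx := isInv_rep x
  have hy := isInv_rep y
  have hxy := Ample.isInvertible_tensorMod hx hy
  have hc : clsMod hxy = x * y := by rw [Cube.clsMod_tensorMod hx hy, cls_rep, cls_rep]
  rw [← hc, ← inter_eq_icl Γ hxy, icl, icl, inter_eq_deg Γ hxy, inter_eq_deg Γ hx, inter_eq_deg Γ hy]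
  have hxY := Kleiman.isInv_pullback Γ.ι hx
  have hyY := Kleiman.isInv_pullback Γ.ι hy
  obtain ⟨e⟩ := (Cube.clsMod_eq_iff (Kleiman.isInv_pullback Γ.ι hxy) (Ample.isInvertible_tensorMod hxY hyY)).1 (by
    rw [Cube.clsMod_tensorMod hxY hyY, Cube.clsMod_pullback Γ.ι hxy, Cube.clsMod_pullback Γ.ι hx,
      Cube.clsMod_pullback Γ.ι hy, ← map_mul, Cube.clsMod_tensorMod hx hy])
  rw [Euler.deg_of_iso _ e 1, CurveMult.deg_tensorMod _ Γ.dim_eq.le hxY hyY]

/-- The intersection numbers as a homomorphism. -/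
def iclHom : Pic X.left →* Multiplicative ℤ :=
  MonoidHom.mk' (fun x => Multiplicative.ofAdd (icl Γ x)) fun x y => by rw [icl_mul, ofAdd_add]

theorem iclHom_apply (x : Pic X.left) : iclHom Γ x = Multiplicative.ofAdd (icl Γ x) := rfl

theorem icl_one : icl Γ (1 : Pic X.left) = 0 := congrArg Multiplicative.toAdd (map_one (iclHom Γ))

theorem icl_inv (x : Pic X.left) : icl Γ x⁻¹ = -icl Γ x := congrArg Multiplicative.toAdd (map_inv (iclHom Γ) x)

theorem icl_zpow (x : Pic X.left) (n : ℤ) : icl Γ (x ^ n) = n * icl Γ x :=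
  (congrArg Multiplicative.toAdd (map_zpow (iclHom Γ) x n)).trans (smul_eq_mul n _)

theorem icl_pow (x : Pic X.left) (n : ℕ) : icl Γ (x ^ n) = n * icl Γ x :=
  (congrArg Multiplicative.toAdd (map_pow (iclHom Γ) x n)).trans (nsmul_eq_mul n _)

theorem icl_prod {ι : Type*} (s : Finset ι) (x : ι → Pic X.left) :
    icl Γ (∏ i ∈ s, x i) = ∑ i ∈ s, icl Γ (x i) := by
  classical
  induction s using Finset.induction with
  | empty => rw [Finset.prod_empty, Finset.sum_empty, icl_one]
  | insert j s hj ih => rw [Finset.prod_insert hj, Finset.sum_insert hj, icl_mul, ih]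

end Degree

/-! ### Classes of effective divisors -/

theorem isInvertible_of_isInverseOf {Y : Scheme.{u}} [IsLocallyNoetherian Y] {L : Y.Modules}
    {D : Y.IdealSheafData} (hD : _root_.BlowUp.IsEffCartierIdeal D)
    (hL : ClSub.IsInverseOf L (ClSub.idealMod D)) : PicF.IsInvertible L := by
  have hI := IdealModSec.isInvertible_of_isEffCartier hD
  obtain ⟨e⟩ := hL
  have e' : CohB1.tensorMod (ClSub.idealMod D) L ≅ Coh.structureModule Y :=
    ((OX.tensorBraiding (X := Y)).app L).app (ClSub.idealMod D) ≪≫ e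
  let T := rep (clsMod hI)⁻¹
  have hT : PicF.IsInvertible T := isInv_rep _
  obtain ⟨t⟩ := (Cube.clsMod_eq_one_iff (Ample.isInvertible_tensorMod hT hI)).1 (by
    rw [Cube.clsMod_tensorMod hT hI, cls_rep, inv_mul_cancel])
  let B := DCoh.tensorBi (X := Y)
  let φ : L ≅ (B.obj T).obj (Coh.structureModule Y) :=
    (OX.tensorUnitLeftIso L).symm ≪≫ (B.mapIso t.symm).app L ≪≫
      ((OX.tensorAssocNatIso.app T).app (ClSub.idealMod D)).app L ≪≫ (B.obj T).mapIso e'
  exact RelProjK.isInvertible_of_iso φ (Ample.isInvertible_tensorMod hT Euler.isInvertible_structure)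

theorem cls_of_isInverseOf {Y : Scheme.{u}} {L : Y.Modules} (hLi : PicF.IsInvertible L)
    {D : Y.IdealSheafData} (hI : PicF.IsInvertible (ClSub.idealMod D))
    (hL : ClSub.IsInverseOf L (ClSub.idealMod D)) : clsMod hLi = (clsMod hI)⁻¹ := by
  refine eq_inv_of_mul_eq_one_left ?_
  rw [← Cube.clsMod_tensorMod hLi hI]
  exact (Cube.clsMod_eq_one_iff _).2 hL

theorem cls_idealMod_pow {Y : Scheme.{u}} {I : Y.IdealSheafData} (hI : _root_.BlowUp.IsEffCartierIdeal I) :
    ∀ n : ℕ, ∃ h : PicF.IsInvertible (ClSub.idealMod (I ^ n)),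
      clsMod h = clsMod (IdealModSec.isInvertible_of_isEffCartier hI) ^ n
  | 0 => by
    have h : PicF.IsInvertible (ClSub.idealMod (⊤ : Y.IdealSheafData)) :=
      IdealModSec.isInvertible_of_isEffCartier GrothLib.BlowUp.isEffCartierIdeal_top
    rw [pow_zero, Scheme.IdealSheafData.one_eq_top]
    exact ⟨h, by rw [pow_zero]; exact HodgeIndex.cls_idealMod_top h⟩
  | n + 1 => by
    obtain ⟨h, e⟩ := cls_idealMod_pow hI n
    have h1 : PicF.IsInvertible (ClSub.idealMod (I ^ n * I)) :=
      IdealModSec.isInvertible_of_isEffCartier (GrothLib.BlowUp.isEffCartierIdeal_mul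
        (IdealModSec.isEffCartier_of_isInvertible h) hI)
    rw [pow_succ I n]
    exact ⟨h1, by rw [HodgeIndex.cls_idealMod_mul h1 h (IdealModSec.isInvertible_of_isEffCartier hI), e, pow_succ]⟩

theorem cls_idealMod_prod {Y : Scheme.{u}} {ι : Type*} (s : Finset ι) (I : ι → Y.IdealSheafData)
    (hI : ∀ i, PicF.IsInvertible (ClSub.idealMod (I i))) :
    ∃ h : PicF.IsInvertible (ClSub.idealMod (∏ i ∈ s, I i)),
      clsMod h = ∏ i ∈ s, clsMod (hI i) := by
  classical
  induction s using Finset.induction with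
  | empty =>
    have h : PicF.IsInvertible (ClSub.idealMod (⊤ : Y.IdealSheafData)) :=
      IdealModSec.isInvertible_of_isEffCartier GrothLib.BlowUp.isEffCartierIdeal_top
    rw [Finset.prod_empty, Scheme.IdealSheafData.one_eq_top]
    exact ⟨h, by rw [Finset.prod_empty]; exact HodgeIndex.cls_idealMod_top h⟩
  | insert j s hj ih =>
    obtain ⟨h, e⟩ := ih
    have h1 : PicF.IsInvertible (ClSub.idealMod (I j * ∏ i ∈ s, I i)) :=
      IdealModSec.isInvertible_of_isEffCartier (GrothLib.BlowUp.isEffCartierIdeal_mul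
        (IdealModSec.isEffCartier_of_isInvertible (hI j)) (IdealModSec.isEffCartier_of_isInvertible h))
    rw [Finset.prod_insert hj]
    exact ⟨h1, by rw [HodgeIndex.cls_idealMod_mul h1 (hI j) h, e, Finset.prod_insert hj]⟩

theorem cls_idealMod_congr {Y : Scheme.{u}} {I J : Y.IdealSheafData} (h : I = J)
    (hI : PicF.IsInvertible (ClSub.idealMod I)) (hJ : PicF.IsInvertible (ClSub.idealMod J)) :
    clsMod hI = clsMod hJ := by subst h; rfl

/-! ### Effective divisors meeting a vertical prime divisor properly -/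

section Divisor

variable [IsProper X.hom] (Γ : ArSurf.VertComp R X) {D : X.left.IdealSheafData}
  (hD : _root_.BlowUp.IsEffCartierIdeal D) (hΓD : Models.genPtOf R X Γ ∉ D.support)
include hD hΓD

theorem isEffCartier_comap : _root_.BlowUp.IsEffCartierIdeal (D.comap Γ.ι) := by
  intro z
  obtain ⟨U, hxU, a, ha, e⟩ := hD (Γ.ι z)
  obtain ⟨V, hzV, hV⟩ := GrothLib.BlowUp.exists_affine_mem_le (W := Γ.ι ⁻¹ᵁ U.1) (x := z) hxU
  haveI : Nonempty (V.1 : Scheme.{u}) := ⟨⟨z, hzV⟩⟩
  have hne : Γ.ι.appLE U.1 V.1 hV a ≠ 0 := by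
    intro h0
    apply hΓD
    have hη : genericPoint Γ.curve.left ∈ V.1 := (genericPoint_specializes z).mem_open V.1.2 hzV
    have hηU : Models.genPtOf R X Γ ∈ U.1 := hV hη
    have h1 : Models.genPtOf R X Γ ∈ (D.support : Set X.left) ∩ U.1 := by
      rw [D.coe_support_inter, e]
      refine ⟨(Scheme.mem_zeroLocus_iff X.left _ _).2 fun f hf hmem => ?_, hηU⟩
      obtain ⟨c, rfl⟩ := Ideal.mem_span_singleton.1 hf
      rw [Scheme.basicOpen_mul] at hmem
      have h2 : genericPoint Γ.curve.left ∈ Γ.ι ⁻¹ᵁ X.left.basicOpen a ⊓ V.1 := ⟨hmem.1, hη⟩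
      have h3 : Γ.curve.left.basicOpen (Γ.ι.appLE U.1 V.1 hV a) = V.1 ⊓ Γ.ι ⁻¹ᵁ X.left.basicOpen a :=
        Scheme.basicOpen_appLE _ _ _ _ _
      rw [h0, Scheme.basicOpen_zero, inf_comm] at h3
      exact (h3.symm ▸ h2 : genericPoint Γ.curve.left ∈ (⊥ : Γ.curve.left.Opens))
    exact h1.1
  refine ⟨V, hzV, Γ.ι.appLE U.1 V.1 hV a, mem_nonZeroDivisors_of_ne_zero hne, ?_⟩
  rw [GrothLib.BlowUp.ideal_comap_eq_map D Γ.ι U V hV, e, Ideal.map_span, Set.image_singleton]

theorem inter_eq_finrank [IsLocallyNoetherian X.left] {L : X.left.Modules}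
    (hL : ClSub.IsInverseOf L (ClSub.idealMod D)) :
    ArSurf.inter R X L Γ =
      Module.finrank (ResidueField R) (Coh.HH Γ.curve.left (ClSub.quotMod (D.comap Γ.ι)) 0) := by
  haveI := isProper_curve Γ
  have hI := IdealModSec.isInvertible_of_isEffCartier hD
  have hLi := isInvertible_of_isInverseOf hD hL
  have hC := isEffCartier_comap Γ hD hΓD
  have hCi := IdealModSec.isInvertible_of_isEffCartier hC
  rw [inter_eq_deg Γ hLi]
  have hker : (D.comap Γ.ι).subschemeι.ker = D.subschemeι.ker.comap Γ.ι := by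
    rw [Scheme.IdealSheafData.ker_subschemeι, Scheme.IdealSheafData.ker_subschemeι]
  obtain ⟨e⟩ := HodgeIndex.nonempty_pullback_idealMod D.subschemeι (D.comap Γ.ι).subschemeι
    ((D.comap Γ.ι).subschemeMap D Γ.ι (D.le_map_comap Γ.ι)) Γ.ι
    (Scheme.IdealSheafData.subschemeMap_subschemeι _ _ _ _).symm hker
    (by rw [Scheme.IdealSheafData.ker_subschemeι]; exact hI)
    (by rw [Scheme.IdealSheafData.ker_subschemeι]; exact hCi)
  rw [Scheme.IdealSheafData.ker_subschemeι, Scheme.IdealSheafData.ker_subschemeι] at e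
  have hLY := Kleiman.isInv_pullback Γ.ι hLi
  have hinv : ClSub.IsInverseOf ((Scheme.Modules.pullback Γ.ι).obj L) (ClSub.idealMod (D.comap Γ.ι)) := by
    refine (Cube.clsMod_eq_one_iff (Ample.isInvertible_tensorMod hLY hCi)).1 ?_
    rw [Cube.clsMod_tensorMod hLY hCi, ← (Cube.clsMod_eq_iff (Kleiman.isInv_pullback Γ.ι hI) hCi).2 ⟨e⟩,
      Cube.clsMod_pullback Γ.ι hLi, Cube.clsMod_pullback Γ.ι hI, ← map_mul, cls_of_isInverseOf hLi hI hL, inv_mul_cancel, map_one]
  have hd := Euler.deg_tensor_effCartier (ResidueField R) Γ.dim_eq.le hC hLY hinv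
    (n := 1) (E := Coh.structureModule Γ.curve.left) (Euler.isFinLocFreeOfRank_one' Euler.isInvertible_structure)
  have e2 : CohB1.tensorMod (Coh.structureModule Γ.curve.left) ((Scheme.Modules.pullback Γ.ι).obj L) ≅
      (Scheme.Modules.pullback Γ.ι).obj L := OX.tensorUnitLeftIso _
  rw [Euler.deg_of_iso _ e2, Euler.deg_structure] at hd
  rw [hd]
  push_cast
  ring

theorem inter_eq_lengthH [IsLocallyNoetherian X.left] {L : X.left.Modules}
    (hL : ClSub.IsInverseOf L (ClSub.idealMod D)) :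
    ArSurf.inter R X L Γ = (Models.lengthH R X (ClSub.quotMod (D ⊔ Γ.ι.ker)) 0 : ℤ) := by
  haveI := isProper_curve Γ
  rw [inter_eq_finrank Γ hD hΓD hL, Nat.cast_inj]
  let i := (D.comap Γ.ι).subschemeι
  letI : (D.comap Γ.ι).subscheme.Over (Spec (CommRingCat.of (ResidueField R))) :=
    ⟨i ≫ (Γ.curve.left ↘ Spec (CommRingCat.of (ResidueField R)))⟩
  letI : (D.comap Γ.ι).subscheme.Over (Spec (CommRingCat.of R)) := ⟨(i ≫ Γ.ι) ≫ X.hom⟩
  obtain ⟨e1⟩ := nonempty_H0_quotMod_ker (ResidueField R) i rfl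
  rw [Scheme.IdealSheafData.ker_subschemeι] at e1
  obtain ⟨e2⟩ := nonempty_H0_quotMod_ker R (Y := X.left) (i ≫ Γ.ι) rfl
  rw [ker_subschemeι_comp_eq_sup] at e2
  haveI : Module.Finite (ResidueField R) (Coh.HH Γ.curve.left (ClSub.quotMod (D.comap Γ.ι)) 0) := by
    haveI := Euler.isNoetherian_of_proper (X := Γ.curve.left) (ResidueField R)
    exact Euler.finiteDimensional_HH _ (QCoh.pushUnit_isCoh i) 0
  haveI := Module.Finite.equiv e1
  rw [Models.lengthH, e2.length_eq, length_HH_eq_finrank R (ResidueField R) residue_surjective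
    (show (i ≫ Γ.curve.hom) ≫ Spec.map (CommRingCat.ofHom (residue R)) = (i ≫ Γ.ι) ≫ X.hom by
      rw [Category.assoc, Category.assoc, Γ.w])]
  simp [e1.finrank_eq]

theorem inter_nonneg [IsLocallyNoetherian X.left] {L : X.left.Modules}
    (hL : ClSub.IsInverseOf L (ClSub.idealMod D)) : 0 ≤ ArSurf.inter R X L Γ := by
  rw [inter_eq_finrank Γ hD hΓD hL]
  positivity

theorem inter_eq_zero_iff [IsLocallyNoetherian X.left] {L : X.left.Modules}
    (hL : ClSub.IsInverseOf L (ClSub.idealMod D)) :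
    ArSurf.inter R X L Γ = 0 ↔ Disjoint (Set.range Γ.ι.base) (D.support : Set X.left) := by
  haveI := isProper_curve Γ
  haveI := Euler.isNoetherian_of_proper (X := Γ.curve.left) (ResidueField R)
  rw [inter_eq_finrank Γ hD hΓD hL, Nat.cast_eq_zero]
  haveI : Module.Finite (ResidueField R) (Coh.HH Γ.curve.left (ClSub.quotMod (D.comap Γ.ι)) 0) :=
    Euler.finiteDimensional_HH _ (QCoh.pushUnit_isCoh (D.comap Γ.ι).subschemeι) 0
  rw [Module.finrank_zero_iff, (ProjCoh.H0top (ClSub.quotMod (D.comap Γ.ι))).toEquiv.subsingleton_congr]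
  show Subsingleton Γ((D.comap Γ.ι).subscheme, ⊤) ↔ _
  constructor
  · intro h
    rw [Set.disjoint_left]
    rintro _ ⟨z, rfl⟩ hz
    have hz' : z ∈ ((D.comap Γ.ι).support : Set Γ.curve.left) := by
      rw [Scheme.IdealSheafData.support_comap]; exact hz
    rw [← Scheme.IdealSheafData.range_subschemeι] at hz'
    obtain ⟨w, -⟩ := hz'
    have h2 := congrArg ((D.comap Γ.ι).subscheme.presheaf.germ ⊤ w trivial)
      (Subsingleton.elim (1 : Γ((D.comap Γ.ι).subscheme, ⊤)) 0)
    rw [map_one, map_zero] at h2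
    exact one_ne_zero h2
  · intro h
    haveI : IsEmpty (D.comap Γ.ι).subscheme := by
      refine ⟨fun w => Set.disjoint_left.1 h ⟨(D.comap Γ.ι).subschemeι w, rfl⟩ ?_⟩
      have := Set.mem_range_self (f := (D.comap Γ.ι).subschemeι) w
      rw [Scheme.IdealSheafData.range_subschemeι, Scheme.IdealSheafData.support_comap] at this
      exact this
    have : (⊤ : (D.comap Γ.ι).subscheme.Opens) = ⊥ := Opens.ext (Subsingleton.elim _ _)
    rw [this]
    infer_instance

end Divisor

end GrothLib.ArSurf29
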