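import Groth.Agent.Lib.ArSurf29.Points
import Groth.Agent.Lib.ArSurf29.EulerVert
import Groth.Agent.Lib.ArSurf29.Inter
import Groth.Agent.Lib.CurveMult.Point
import Groth.Agent.Lib.CurvePoints.Basic
import Groth.Agent.Lib.CurveRR.Setup
import Groth.Agent.Lib.RelReg.Stalk
import Groth.Agent.Lib.SmoothConn.Main
import Mathlib.RingTheory.KrullDimension.Regular
import Mathlib.AlgebraicGeometry.ZariskisMainTheorem

/-!
# Horizontal prime divisors through a point of the closed fibre

Over a complete discrete valuation ring with algebraically closed residue field, every component of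
the closed fibre of a regular proper flat surface is met exactly once, transversally, by some
horizontal prime divisor which meets no other component.
-/

set_option autoImplicit false
set_option linter.all false
set_option backward.isDefEq.respectTransparency false

universe u

open CategoryTheory AlgebraicGeometry TopologicalSpace IsLocalRing

noncomputable section

namespace GrothLib.ArSurf29

open GrothLib.CartierDescent (stalkIdeal stalkIdeal_eq stalkIdeal_eq_top_iff exists_stalk_generator
  exists_specializes_eq stalkIdeal_map_specializes)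
open GrothLib.BlowUp (exists_affine_mem_le)

section General

variable {Y Z : Scheme.{u}}

theorem ker_stalkMap_eq_stalkIdeal (i : Z ⟶ Y) [IsClosedImmersion i] (z : Z) :
    RingHom.ker (i.stalkMap z).hom = stalkIdeal i.ker (i z) := by
  obtain ⟨V, hxV, -⟩ := exists_affine_mem_le (W := (⊤ : Y.Opens)) (x := i z) trivial
  rw [RelReg.ker_stalkMap_eq_map i V.2 (IsZariskiLocalAtTarget.restrict ‹_› _) z hxV, stalkIdeal_eq _ V hxV,
    Scheme.Hom.ker_apply]

theorem stalkIdeal_sup' (I J : Y.IdealSheafData) (x : Y) :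
    stalkIdeal (I ⊔ J) x = stalkIdeal I x ⊔ stalkIdeal J x := by
  obtain ⟨V, hxV, -⟩ := exists_affine_mem_le (W := (⊤ : Y.Opens)) (x := x) trivial
  rw [stalkIdeal_eq _ V hxV, stalkIdeal_eq _ V hxV, stalkIdeal_eq _ V hxV,
    Scheme.IdealSheafData.ideal_sup, Pi.sup_apply, Ideal.map_sup]

theorem coheight_add_one_le_of_specializes {a b : Y} (h : a ⤳ b) (hne : a ≠ b) :
    Order.coheight a + 1 ≤ Order.coheight b :=
  Order.coheight_add_one_le (lt_of_le_not_ge (h : b ≤ a) fun h' => hne (h.antisymm h').eq)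

theorem henselianLocalRing_of_complete (R : Type u) [CommRing R] [IsLocalRing R]
    [IsAdicComplete (maximalIdeal R) R] : HenselianLocalRing R where
  is_henselian f hf a h₁ h₂ :=
    HenselianRing.is_henselian (I := maximalIdeal R) f hf a h₁ (h₂.map _)

/-- A finite integral scheme over a henselian local ring has one closed point. -/
theorem subsingleton_closedPoints (R : Type u) [CommRing R] [HenselianLocalRing R] [IsIntegral Z]
    (q : Z ⟶ Spec (CommRingCat.of R)) [IsFinite q] {v w : Z} (hv : IsClosed ({v} : Set Z))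
    (hw : IsClosed ({w} : Set Z)) : v = w := by
  haveI : IsAffine Z := isAffine_of_isAffineHom q
  let φ : R →+* Γ(Z, ⊤) := ((Scheme.ΓSpecIso (CommRingCat.of R)).inv ≫ q.appTop).hom
  have hφ : φ.Finite := RingHom.Finite.comp q.finite_appTop
    (RingHom.Finite.of_surjective _ (ConcreteCategory.bijective_of_isIso (Scheme.ΓSpecIso (CommRingCat.of R)).inv).2)
  letI : Algebra R Γ(Z, ⊤) := φ.toAlgebra
  haveI : Module.Finite R Γ(Z, ⊤) := hφ
  haveI : Nonempty (⊤ : Z.Opens) := ⟨⟨v, trivial⟩⟩
  haveI := SmoothConn.isLocalRing_of_integral_domain R Γ(Z, ⊤)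
  let e : Z ≃ₜ PrimeSpectrum Γ(Z, ⊤) := Scheme.homeoOfIso Z.isoSpec
  have key : ∀ x : Z, IsClosed ({x} : Set Z) → (e x).asIdeal = maximalIdeal Γ(Z, ⊤) := fun x hx => by
    refine eq_maximalIdeal ((PrimeSpectrum.isClosed_singleton_iff_isMaximal _).1 ?_)
    rw [← Set.image_singleton]
    exact e.isClosedMap _ hx
  exact e.injective (PrimeSpectrum.ext ((key v hv).trans (key w hw).symm))

end General

variable {R : Type u} [CommRing R] [IsDomain R] [IsDiscreteValuationRing R]
  {X : Over (Spec (CommRingCat.of R))} {n : ℕ} {Γ : Fin n → ArSurf.VertComp R X}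
  [Flat X.hom] [IsProper X.hom] [IsLocallyNoetherian X.left]
  (hX : Models.IsRegularScheme X.left) (hΓ : Models.IsComponentList R X Γ)
include hX hΓ

theorem dim_stalk_le_two {x : X.left} (hx : x ∈ Models.specialFibreSet R X) :
    ringKrullDim (X.left.presheaf.stalk x) ≤ 2 := by
  obtain ⟨j, z, rfl⟩ := exists_mem_range hΓ hx
  haveI := (Γ j).isClosedImmersion
  haveI := (Γ j).isIntegral
  by_cases hz : z = genericPoint (Γ j).curve.left
  · subst hz
    exact (dim_genPt (isMaxComp hΓ j)).le.trans one_le_two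
  haveI := hX ((Γ j).ι z)
  haveI := CMFree.isDomain_of_isRegularLocalRing (X.left.presheaf.stalk ((Γ j).ι z))
  obtain ⟨γ, hγ, hJ⟩ := exists_stalk_generator (isEffCartier_ker (isMaxComp hΓ j) hX) ((Γ j).ι z)
  have hk := ker_stalkMap_eq_stalkIdeal (Γ j).ι z
  have hm : γ ∈ maximalIdeal (X.left.presheaf.stalk ((Γ j).ι z)) := by
    refine le_maximalIdeal (RingHom.ker_ne_top ((Γ j).ι.stalkMap z).hom) ?_
    rw [hk, hJ]
    exact Ideal.mem_span_singleton_self γ
  let e : (X.left.presheaf.stalk ((Γ j).ι z) ⧸ Ideal.span {γ}) ≃+* (Γ j).curve.left.presheaf.stalk z :=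
    (Ideal.quotEquivOfEq (hJ.symm.trans hk.symm)).trans
      (RingHom.quotientKerEquivOfSurjective ((Γ j).ι.stalkMap_surjective z))
  rw [← ringKrullDim_quotient_span_singleton_succ_eq_ringKrullDim_of_mem_nonZeroDivisors hγ hm,
    ringKrullDim_eq_of_ringEquiv e, CurvePoints.ringKrullDim_stalk (Γ j).dim_eq.le hz]
  exact le_of_eq (by norm_num)

theorem coheight_le_two {x : X.left} (hx : x ∈ Models.specialFibreSet R X) : Order.coheight x ≤ 2 := by
  have h := dim_stalk_le_two hX hΓ hx
  rw [ringKrullDim_stalk_eq_coheight, show (2 : WithBot ℕ∞) = ((2 : ℕ∞) : WithBot ℕ∞) from rfl,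
    WithBot.coe_le_coe] at h
  exact h

theorem exists_regular_point_avoiding [IsAlgClosed (ResidueField R)] (i : Fin n) :
    ∃ z : (Γ i).curve.left, IsClosed ({z} : Set (Γ i).curve.left) ∧ z ≠ genericPoint (Γ i).curve.left ∧
      (maximalIdeal ((Γ i).curve.left.presheaf.stalk z)).IsPrincipal ∧
      ∀ j, j ≠ i → (Γ i).ι z ∉ Set.range ((Γ j).ι.base : (Γ j).curve.left → X.left) := by
  haveI := (Γ i).isIntegral
  haveI := isProper_curve (Γ i)
  let W := (Γ i).curve.left
  let q := W ↘ Spec (CommRingCat.of (ResidueField R))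
  haveI := Euler.isNoetherian_of_proper (X := W) (ResidueField R)
  haveI : JacobsonSpace W := LocallyOfFiniteType.jacobsonSpace q
  let bad : Set X.left := ⋃ j ∈ {j | j ≠ i}, Set.range ((Γ j).ι.base : (Γ j).curve.left → X.left)
  have hbad : IsClosed bad := (Set.toFinite _).isClosed_biUnion fun j _ => by
    haveI := (Γ j).isClosedImmersion
    exact (Γ j).ι.isClosedEmbedding.isClosed_range
  have hη := Scheme.Hom.genericPoint_mem_smoothLocus_of_perfectField q
  obtain ⟨z, ⟨hzU, hzb⟩, hzc⟩ := nonempty_inter_closedPoints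
    (Z := (q.smoothLocus : Set W) ∩ ((Γ i).ι.base ⁻¹' bad)ᶜ)
    ⟨genericPoint W, hη, fun h => by
      simp only [Set.mem_preimage, bad, Set.mem_iUnion] at h
      obtain ⟨j, hj, h⟩ := h
      exact notMem_range_of_ne hΓ hj h⟩
    (q.smoothLocus.2.inter (hbad.preimage (Γ i).ι.base.hom.continuous).isOpen_compl).isLocallyClosed
  have hzη : z ≠ genericPoint W := fun h => CurvePoints.genericPoint_not_isClosed (Γ i).dim_eq (h ▸ hzc)
  refine ⟨z, hzc, hzη, ?_, fun j hj h => hzb (Set.mem_biUnion (show j ∈ {j | j ≠ i} from hj) h)⟩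
  let U := q.smoothLocus
  haveI : Smooth (U.ι ≫ q) := by
    rw [← Scheme.Hom.smoothLocus_eq_top_iff, ← Scheme.Hom.preimage_smoothLocus_eq]
    exact eq_top_iff.2 fun y _ => y.2
  have hy : IsClosed ({(⟨z, hzU⟩ : U)} : Set U) := by
    have : IsClosed (Subtype.val ⁻¹' ({z} : Set W) : Set U) := IsClosed.preimage continuous_subtype_val hzc
    convert this using 1
    ext y
    exact Subtype.ext_iff
  haveI hr := GrpSchField.isRegularLocalRing_stalk_of_smooth (U.ι ≫ q) hy
  haveI : IsRegularLocalRing (W.presheaf.stalk z) :=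
    IsRegularLocalRing.of_ringEquiv ((U.stalkIso ⟨z, hzU⟩).commRingCatIsoToRingEquiv)
  have h1 := (IsRegularLocalRing.spanFinrank_maximalIdeal (R := W.presheaf.stalk z)).trans
    (CurvePoints.ringKrullDim_stalk (Γ i).dim_eq.le hzη)
  have h2 : (maximalIdeal (W.presheaf.stalk z)).spanFinrank = 1 := by exact_mod_cast h1
  have hfg : (maximalIdeal (W.presheaf.stalk z)).FG := IsNoetherian.noetherian _
  obtain ⟨a, ha⟩ := Set.ncard_eq_one.1 ((Submodule.FG.generators_ncard hfg).trans h2)
  exact ⟨⟨a, by rw [← ha, Submodule.span_generators]⟩⟩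

/-- A prime element cutting out, with the component, the maximal ideal of a regular point of it. -/
theorem exists_horizontal_point (i : Fin n) {z : (Γ i).curve.left}
    (hz : z ≠ genericPoint (Γ i).curve.left)
    (hreg : (maximalIdeal ((Γ i).curve.left.presheaf.stalk z)).IsPrincipal) :
    ∃ x' : X.left, x' ⤳ (Γ i).ι z ∧ ringKrullDim (X.left.presheaf.stalk x') = 1 ∧
      x' ≠ Models.genPtOf R X (Γ i) ∧
      stalkIdeal (ptIdeal x') ((Γ i).ι z) ⊔ stalkIdeal (Γ i).ι.ker ((Γ i).ι z) =
        maximalIdeal (X.left.presheaf.stalk ((Γ i).ι z)) := by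
  haveI := (Γ i).isClosedImmersion
  haveI := (Γ i).isIntegral
  haveI := hX ((Γ i).ι z)
  haveI := CMFree.isDomain_of_isRegularLocalRing (X.left.presheaf.stalk ((Γ i).ι z))
  haveI : UniqueFactorizationMonoid (X.left.presheaf.stalk ((Γ i).ι z)) := RegUFD.ufd_of_isRegularLocalRing _
  let φ := ((Γ i).ι.stalkMap z).hom
  have hs : Function.Surjective φ := (Γ i).ι.stalkMap_surjective z
  haveI : IsLocalHom φ := inferInstanceAs (IsLocalHom ((Γ i).ι.stalkMap z).hom)
  obtain ⟨γ, hγ, hJ⟩ := exists_stalk_generator (isEffCartier_ker (isMaxComp hΓ i) hX) ((Γ i).ι z)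
  have hk : RingHom.ker φ = Ideal.span {γ} := (ker_stalkMap_eq_stalkIdeal (Γ i).ι z).trans hJ
  obtain ⟨a, ha⟩ := hreg.1
  obtain ⟨h, rfl⟩ := hs a
  have hgen : ((Γ i).ι (genericPoint (Γ i).curve.left)) ⤳ (Γ i).ι z :=
    (genericPoint_specializes z).map (Γ i).ι.base.hom.continuous
  have hm : Ideal.span {h} ⊔ Ideal.span {γ} = maximalIdeal (X.left.presheaf.stalk ((Γ i).ι z)) := by
    have e : (Ideal.span {h}).map φ = maximalIdeal ((Γ i).curve.left.presheaf.stalk z) := by
      rw [Ideal.map_span, Set.image_singleton, ha]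
    rw [← hk, RingHom.ker_eq_comap_bot, ← Ideal.comap_map_of_surjective φ hs, e]
    exact eq_maximalIdeal (Ideal.comap_isMaximal_of_surjective φ hs (K := maximalIdeal _))
  have hhm : h ∈ maximalIdeal (X.left.presheaf.stalk ((Γ i).ι z)) := hm.le (Ideal.mem_sup_left (Ideal.mem_span_singleton_self h))
  have hγm : γ ∈ maximalIdeal (X.left.presheaf.stalk ((Γ i).ι z)) := hm.le (Ideal.mem_sup_right (Ideal.mem_span_singleton_self γ))
  have hnot : maximalIdeal (X.left.presheaf.stalk ((Γ i).ι z)) ≠ Ideal.span {γ} := fun e => by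
    have h0 : maximalIdeal ((Γ i).curve.left.presheaf.stalk z) = ⊥ := by
      rw [← Ideal.map_comap_of_surjective φ hs (maximalIdeal _),
        eq_maximalIdeal (Ideal.comap_isMaximal_of_surjective φ hs (K := maximalIdeal _)), e, ← hk]
      exact (Ideal.map_eq_bot_iff_le_ker φ).2 le_rfl
    have h1 := CurvePoints.ringKrullDim_stalk (Γ i).dim_eq.le hz
    rw [ringKrullDim_eq_zero_of_isField (IsLocalRing.isField_iff_maximalIdeal_eq.2 h0)] at h1
    exact zero_ne_one h1
  have hirr : Irreducible h := by
    refine ⟨fun hu => (maximalIdeal.isMaximal _).ne_top (Ideal.eq_top_of_isUnit_mem _ hhm hu), fun u v huv => ?_⟩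
    by_contra hc
    rw [not_or] at hc
    have h2 : h ∈ maximalIdeal (X.left.presheaf.stalk ((Γ i).ι z)) • maximalIdeal (X.left.presheaf.stalk ((Γ i).ι z)) :=
      huv ▸ Submodule.smul_mem_smul ((mem_maximalIdeal u).2 hc.1) ((mem_maximalIdeal v).2 hc.2)
    refine hnot (le_antisymm ?_ ((Ideal.span_singleton_le_iff_mem _).2 hγm))
    refine Submodule.le_of_le_smul_of_le_jacobson_bot (IsNoetherian.noetherian _)
      (maximalIdeal_le_jacobson _) ?_
    calc maximalIdeal (X.left.presheaf.stalk ((Γ i).ι z)) = Ideal.span {h} ⊔ Ideal.span {γ} := hm.symm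
      _ ≤ _ := sup_le (((Ideal.span_singleton_le_iff_mem _).2 h2).trans le_sup_right) le_sup_left
  have hh : Prime h := hirr.prime
  haveI hQ : (Ideal.span {h}).IsPrime := (Ideal.span_singleton_prime hh.ne_zero).2 hh
  obtain ⟨x', hx', hP, -⟩ := exists_specializes_eq ((Γ i).ι z) (Ideal.span {h})
  have hne0 : (Ideal.span {h}).height ≠ 0 := fun h0 => by
    have hmin := Ideal.height_eq_zero_iff.1 h0
    exact Set.disjoint_left.1 (Ideal.disjoint_nonZeroDivisors_of_mem_minimalPrimes hmin)
      (Ideal.mem_span_singleton_self h) (mem_nonZeroDivisors_of_ne_zero hh.ne_zero)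
  have hle1 : (Ideal.span {h}).height ≤ 1 :=
    Ideal.height_le_one_of_isPrincipal_of_mem_minimalPrimes _ _
      (by rw [Ideal.minimalPrimes_eq_subsingleton_self (I := Ideal.span {h})]; exact rfl)
  have hdim : ringKrullDim (X.left.presheaf.stalk x') = 1 := by
    rw [ringKrullDim_stalk_eq_height_of_specializes hx', ← hP]
    exact_mod_cast le_antisymm hle1 (ENat.one_le_iff_ne_zero.2 hne0)
  have hγh : γ ∉ Ideal.span {h} := fun hc => by
    have e : maximalIdeal (X.left.presheaf.stalk ((Γ i).ι z)) = Ideal.span {h} :=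
      hm.symm.trans (sup_eq_left.2 ((Ideal.span_singleton_le_iff_mem _).2 hc))
    have h2 := coheight_add_one_le_of_specializes hgen (fun e => hz ((Γ i).ι.isClosedEmbedding.injective e).symm)
    have h3 : (maximalIdeal (X.left.presheaf.stalk ((Γ i).ι z))).height ≤ 1 := e ▸ hle1
    have h4 : ringKrullDim (X.left.presheaf.stalk ((Γ i).ι z)) ≤ (1 : ℕ∞) := by
      rw [← maximalIdeal_height_eq_ringKrullDim]
      exact_mod_cast h3
    rw [ringKrullDim_stalk_eq_coheight] at h4
    have h5 : ringKrullDim (X.left.presheaf.stalk (Models.genPtOf R X (Γ i))) = 1 := dim_genPt (isMaxComp hΓ i)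
    rw [ringKrullDim_stalk_eq_coheight] at h5
    have h5' : Order.coheight ((Γ i).ι (genericPoint (Γ i).curve.left)) = 1 := by exact_mod_cast h5
    have h4' : Order.coheight ((Γ i).ι z) ≤ 1 := by exact_mod_cast h4
    rw [h5'] at h2
    exact absurd (h2.trans h4') (by decide)
  refine ⟨x', hx', hdim, ?_, ?_⟩
  · rintro rfl
    apply hγh
    rw [hP, Ideal.mem_comap, ← st_ker_genPt (Γ i), ← stalkIdeal_map_specializes (Γ i).ι.ker hx', hJ,
      Ideal.map_span, Set.image_singleton]
    exact Ideal.mem_span_singleton_self _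
  · have hxs : (Γ i).ι z ∈ (ptIdeal x').support := by
      show (Γ i).ι z ∈ ((ptIdeal x').support : Set X.left)
      rw [support_ptIdeal]
      exact specializes_iff_mem_closure.1 hx'
    haveI := DivPart.stalkIdeal_isPrime (D := ptIdeal x') hxs
    have hle : stalkIdeal (ptIdeal x') ((Γ i).ι z) ≤ Ideal.span {h} := by
      rw [hP, ← Ideal.map_le_iff_le_comap, stalkIdeal_map_specializes, st_ptIdeal]
    have hne : stalkIdeal (ptIdeal x') ((Γ i).ι z) ≠ ⊥ := fun e => by
      have h2 := stalkIdeal_map_specializes (ptIdeal x') hx'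
      rw [e, Ideal.map_bot, st_ptIdeal] at h2
      rw [ringKrullDim_eq_zero_of_isField (IsLocalRing.isField_iff_maximalIdeal_eq.2 h2.symm)] at hdim
      exact zero_ne_one hdim
    obtain ⟨p, hp, hpp⟩ := Submodule.exists_mem_ne_zero_of_ne_bot hne
    have e : stalkIdeal (ptIdeal x') ((Γ i).ι z) = Ideal.span {h} := by
      by_contra hc
      have hlt := Ideal.height_strict_mono_of_isPrime (lt_of_le_of_ne hle hc)
      have h1 : (stalkIdeal (ptIdeal x') ((Γ i).ι z)).height = 0 :=
        ENat.lt_one_iff_eq_zero.1 (hlt.trans_le hle1)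
      exact Set.disjoint_left.1 (Ideal.disjoint_nonZeroDivisors_of_mem_minimalPrimes (Ideal.height_eq_zero_iff.1 h1))
        hp (mem_nonZeroDivisors_of_ne_zero hpp)
    rw [e, hJ, hm]

/-- The horizontal divisor through a regular point of a component. -/
theorem exists_horizontal_divisor [IsAdicComplete (maximalIdeal R) R] [IsAlgClosed (ResidueField R)]
    (i : Fin n) :
    ∃ (D : X.left.IdealSheafData) (x : X.left), _root_.BlowUp.IsEffCartierIdeal D ∧
      (∀ j, Models.genPtOf R X (Γ j) ∉ D.support) ∧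
      (∀ j, j ≠ i → Disjoint (Set.range ((Γ j).ι.base : (Γ j).curve.left → X.left)) (D.support : Set X.left)) ∧
      x ∈ Models.specialFibreSet R X ∧ IsClosed ({x} : Set X.left) ∧ D ⊔ (Γ i).ι.ker = ptIdeal x := by
  haveI := henselianLocalRing_of_complete R
  haveI : CompactSpace X.left := QuasiCompact.compactSpace_of_compactSpace X.hom
  haveI : IsNoetherian X.left := {}
  haveI := (Γ i).isClosedImmersion
  obtain ⟨z, hzc, hzη, hreg, havoid⟩ := exists_regular_point_avoiding hX hΓ i
  obtain ⟨x', hx', hdim, hxi, hsup⟩ := exists_horizontal_point hX hΓ i hzη hreg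
  have hc1 : Order.coheight x' = 1 := by
    rw [ringKrullDim_stalk_eq_coheight] at hdim
    exact_mod_cast hdim
  have hxF : (Γ i).ι z ∈ Models.specialFibreSet R X := range_subset_fibre (Γ i) ⟨z, rfl⟩
  have hx'F : x' ∉ Models.specialFibreSet R X := fun hF => by
    obtain ⟨j, rfl⟩ := exists_eq_genPt hΓ hX hdim hF
    by_cases hj : j = i
    · exact hxi (hj ▸ rfl)
    · exact havoid j hj ((mem_range_iff _).2 hx')
  have hgen : ∀ j, Models.genPtOf R X (Γ j) ∉ (ptIdeal x').support := fun j hj => by
    have hsp : x' ⤳ Models.genPtOf R X (Γ j) :=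
      specializes_iff_mem_closure.2 ((support_ptIdeal x').le hj)
    have hne : x' ≠ Models.genPtOf R X (Γ j) := fun e => hx'F (e ▸ genPt_mem_fibre (Γ j))
    have h2 := coheight_add_one_le_of_specializes hsp hne
    have h5 : Order.coheight (Models.genPtOf R X (Γ j)) = 1 := by
      have h5 := dim_genPt (isMaxComp hΓ j)
      rw [ringKrullDim_stalk_eq_coheight] at h5
      exact_mod_cast h5
    rw [hc1, h5] at h2
    exact absurd h2 (by decide)
  have hmax : ∀ a b : X.left, x' ⤳ a → a ∈ Models.specialFibreSet R X → a ⤳ b →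
      b ∈ Models.specialFibreSet R X → a = b := fun a b h1 ha h2 hb => by
    by_contra hne
    have h3 := coheight_add_one_le_of_specializes h1 fun e => hx'F (e ▸ ha)
    have h4 := coheight_add_one_le_of_specializes h2 hne
    rw [hc1] at h3
    exact absurd ((add_le_add h3 (le_refl (1 : ℕ∞))).trans (h4.trans (coheight_le_two hX hΓ hb))) (by decide)
  have hout : ∀ y : X.left, x' ⤳ y → y ∉ Models.specialFibreSet R X → y = x' := fun y hy hyF => by
    by_contra hne
    obtain ⟨x₁, hx₁, hpx⟩ : IsLocalRing.closedPoint R ∈ X.hom.base '' closure {y} := by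
      have hcl : IsClosed (X.hom.base '' closure {y}) := X.hom.isClosedMap _ isClosed_closure
      have hsp : X.hom.base y ⤳ IsLocalRing.closedPoint R := IsLocalRing.specializes_closedPoint _
      exact hsp.mem_closed hcl ⟨y, subset_closure rfl, rfl⟩
    have hx1F : x₁ ∈ Models.specialFibreSet R X := hpx
    have h3 := coheight_add_one_le_of_specializes hy (Ne.symm hne)
    have h4 := coheight_add_one_le_of_specializes (specializes_iff_mem_closure.2 hx₁) fun e => hyF (e ▸ hx1F)
    rw [hc1] at h3
    exact absurd ((add_le_add h3 (le_refl (1 : ℕ∞))).trans (h4.trans (coheight_le_two hX hΓ hx1F))) (by decide)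
  let S : Set X.left := closure {x'} ∩ Models.specialFibreSet R X
  have hScl : IsClosed S := isClosed_closure.inter (Models.isClosed_specialFibreSet R X)
  have hclosed : ∀ a ∈ S, IsClosed ({a} : Set X.left) := fun a ha => isClosed_of_closure_subset fun b hb =>
    (hmax a b (specializes_iff_mem_closure.2 ha.1) ha.2 (specializes_iff_mem_closure.2 hb)
      ((specializes_iff_mem_closure.2 hb).mem_closed (Models.isClosed_specialFibreSet R X) ha.2)).symm
  have hSfin : S.Finite := Snapper.finite_of_maximal hScl (fun _ h => h) fun a ha b hb hba =>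
    hmax b a (specializes_iff_mem_closure.2 hb.1) hb.2 hba ha.2
  let ι' := (ptIdeal x').subschemeι
  have hrange : Set.range ι' = closure {x'} := by
    rw [Scheme.IdealSheafData.range_subschemeι, support_ptIdeal]
  haveI : Finite (ptIdeal x').subscheme := by
    have : (Set.range ι').Finite := (hSfin.insert x').subset fun a ha => by
      rw [hrange] at ha
      by_cases haF : a ∈ Models.specialFibreSet R X
      · exact Or.inr ⟨ha, haF⟩
      · exact Or.inl (hout a (specializes_iff_mem_closure.2 ha) haF)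
    haveI := this.to_subtype
    exact Finite.of_injective (Set.rangeFactorization ι') fun a b e =>
      ι'.isClosedEmbedding.injective (congrArg (fun t : Set.range ι' => (t : X.left)) e)
  haveI : LocallyQuasiFinite (ι' ≫ X.hom) :=
    LocallyQuasiFinite.of_finite_preimage_singleton _ fun _ => Set.toFinite _
  haveI : IsFinite (ι' ≫ X.hom) := IsFinite.of_isProper_of_locallyQuasiFinite _
  have hone : ∀ a ∈ S, a = (Γ i).ι z := fun a ha => by
    obtain ⟨a', rfl⟩ := hrange.ge ha.1
    obtain ⟨b', hb'⟩ := hrange.ge (specializes_iff_mem_closure.1 hx')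
    rw [← hb']
    refine congrArg ι' (subsingleton_closedPoints R (ι' ≫ X.hom) ?_ ?_)
    · refine ι'.isClosedEmbedding.isClosed_iff_image_isClosed.2 ?_
      rw [Set.image_singleton]
      exact hclosed _ ha
    · refine ι'.isClosedEmbedding.isClosed_iff_image_isClosed.2 ?_
      rw [Set.image_singleton, hb']
      exact hclosed _ ⟨specializes_iff_mem_closure.1 hx', hxF⟩
  have hD : _root_.BlowUp.IsEffCartierIdeal (ptIdeal x') := by
    intro y
    haveI := hX y
    haveI := CMFree.isDomain_of_isRegularLocalRing (X.left.presheaf.stalk y)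
    haveI : UniqueFactorizationMonoid (X.left.presheaf.stalk y) := RegUFD.ufd_of_isRegularLocalRing _
    obtain ⟨U, hyU, hU⟩ := GrothLib.BlowUp.exists_cartierOn_of_ufd (ptIdeal x') (fun w hw => by
      rw [WeakAss.isWeakAssPoint_structure_iff] at hw
      obtain rfl : genericPoint (ptIdeal x').subscheme = w := hw _ (genericPoint_specializes w)
      rw [show (ptIdeal x').subschemeι (genericPoint (ptIdeal x').subscheme) = x' from gpt_ptIdeal x']
      exact hdim) y
    exact ⟨U, hyU, hU⟩
  have hclx : IsClosed ({(Γ i).ι z} : Set X.left) := hclosed _ ⟨specializes_iff_mem_closure.1 hx', hxF⟩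
  refine ⟨ptIdeal x', (Γ i).ι z, hD, hgen, fun j hj => ?_, hxF, hclx, ?_⟩
  · rw [Set.disjoint_left]
    intro a ha haD
    rw [support_ptIdeal] at haD
    exact havoid j hj (hone a ⟨haD, range_subset_fibre (Γ j) ha⟩ ▸ ha)
  · have hst : ∀ y, stalkIdeal (ptIdeal x' ⊔ (Γ i).ι.ker) y = stalkIdeal (ptIdeal ((Γ i).ι z)) y := fun y => by
      rw [stalkIdeal_sup']
      by_cases hy : y = (Γ i).ι z
      · rw [hy, st_ptIdeal, hsup]
      · rw [(stalkIdeal_eq_top_iff (ptIdeal ((Γ i).ι z)) y).2 (fun h => hy (by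
          have h' : y ∈ closure {(Γ i).ι z} := (support_ptIdeal _).le h
          rwa [hclx.closure_eq] at h'))]
        by_cases hy1 : y ∈ (ptIdeal x').support
        · rw [(stalkIdeal_eq_top_iff (Γ i).ι.ker y).2 (fun h => hy (hone y ⟨(support_ptIdeal _).le hy1,
            range_subset_fibre (Γ i) ((support_ker (Γ i)).le h)⟩)), sup_top_eq]
        · rw [(stalkIdeal_eq_top_iff _ y).2 hy1, top_sup_eq]
    exact le_antisymm (DivPart.le_of_stalkIdeal fun y => (hst y).le) (DivPart.le_of_stalkIdeal fun y => (hst y).ge)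

/-- Over a complete base with algebraically closed residue field the degree map is surjective. -/
theorem exists_inter_eq_ite [IsAdicComplete (maximalIdeal R) R] [IsAlgClosed (ResidueField R)] (i : Fin n) :
    ∃ M : X.left.Modules, PicF.IsInvertible M ∧
      ∀ j, ArSurf.inter R X M (Γ j) = if j = i then 1 else 0 := by
  obtain ⟨D, x, hD, hgen, hdisj, hxF, hxc, hsup⟩ := exists_horizontal_divisor hX hΓ i
  have hI := IdealModSec.isInvertible_of_isEffCartier hD
  let M := HodgeIndex.rep (Cube.clsMod hI)⁻¹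
  have hM : PicF.IsInvertible M := HodgeIndex.isInv_rep _
  have hinv : ClSub.IsInverseOf M (ClSub.idealMod D) :=
    (Cube.clsMod_eq_one_iff (Ample.isInvertible_tensorMod hM hI)).1 (by
      rw [Cube.clsMod_tensorMod hM hI, HodgeIndex.cls_rep, inv_mul_cancel])
  refine ⟨M, hM, fun j => ?_⟩
  split_ifs with h
  · subst h
    rw [inter_eq_lengthH (Γ j) hD (hgen j) hinv, hsup]
    have hle : Models.specialFibreIdeal R X ≤ ptIdeal x := by
      rw [ptIdeal, ← Scheme.IdealSheafData.le_support_iff_le_vanishingIdeal]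
      exact closure_minimal (Set.singleton_subset_iff.2 ((support_fibre (X := X)).ge hxF))
        (Models.specialFibreIdeal R X).support.isClosed
    obtain ⟨s, hs⟩ := exists_toResidueField hle
    letI : (ptIdeal x).subscheme.Over (Spec (CommRingCat.of (ResidueField R))) := ⟨s⟩
    haveI : IsProper ((ptIdeal x).subscheme ↘ Spec (CommRingCat.of (ResidueField R))) :=
      isProper_toResidueField s hs
    rw [lengthH_quotMod hs, CurveRR.finrank_H0_structure_eq_one, Nat.cast_one]
  · exact (inter_eq_zero_iff (Γ j) hD (hgen j) hinv).2 (hdisj j h)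

end GrothLib.ArSurf29
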