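import Groth.Agent.Lib.ExcP1.Elim
import Groth.Agent.Lib.ArSurf29.Horizontal
import Groth.Agent.Lib.HodgeIndex.Pullback
import Groth.Agent.Lib.ArSurf29.GenusZeroComp

/-!
# Exceptional curves: transport along isomorphisms over an open, vertical curves from exceptional ones
-/

universe u

set_option autoImplicit false
set_option linter.all false
set_option backward.isDefEq.respectTransparency false

open CategoryTheory CategoryTheory.Limits AlgebraicGeometry TopologicalSpace IsLocalRing
open GrothLib.CartierDescent (stalkIdeal stalkIdeal_eq_top_iff stalkIdeal_comap)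

noncomputable section

namespace GrothLib.ArSurf29

variable {E Y Y' : Scheme.{u}} [IsLocallyNoetherian Y'] (j : E ⟶ Y) [IsClosedImmersion j] (b : Y ⟶ Y') [IsProper b]
  (V : Y'.Opens) [IsIso (b ∣_ V)] (hV : ∀ e, b (j e) ∈ V)

include hV in
theorem isClosedImmersion_comp_of_iso_over : IsClosedImmersion (j ≫ b) := by
  have hr : Set.range j ⊆ Set.range (b ⁻¹ᵁ V).ι := by
    rw [Scheme.Opens.range_ι]
    rintro _ ⟨e, rfl⟩
    exact hV e
  let j' := IsOpenImmersion.lift (b ⁻¹ᵁ V).ι j hr
  have hj' : j' ≫ (b ⁻¹ᵁ V).ι = j := IsOpenImmersion.lift_fac _ _ _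
  haveI : IsClosedImmersion (j' ≫ (b ⁻¹ᵁ V).ι) := by rw [hj']; infer_instance
  haveI : IsClosedImmersion j' := IsClosedImmersion.of_comp j' (b ⁻¹ᵁ V).ι
  have e : j ≫ b = j' ≫ (b ∣_ V) ≫ V.ι := by rw [morphismRestrict_ι, reassoc_of% hj']
  haveI : IsPreimmersion (j ≫ b) := by rw [e]; infer_instance
  exact IsClosedImmersion.of_isPreimmersion _ (j ≫ b).isClosedMap.isClosed_range

include hV in
theorem ker_comap_of_iso_over : (j ≫ b).ker.comap b = j.ker := by
  haveI := isClosedImmersion_comp_of_iso_over j b V hV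
  have key : ∀ x, stalkIdeal ((j ≫ b).ker.comap b) x = stalkIdeal j.ker x := by
    intro x
    rw [stalkIdeal_comap]
    by_cases hx : x ∈ Set.range j
    · obtain ⟨e, rfl⟩ := hx
      haveI : IsIso (b.stalkMap (j e)) :=
        ((MorphismProperty.isomorphisms CommRingCat).arrow_mk_iso_iff (morphismRestrictStalkMap b V ⟨j e, hV e⟩)).1
          (show IsIso ((b ∣_ V).stalkMap ⟨j e, hV e⟩) from inferInstance)
      have hbij := ConcreteCategory.bijective_of_isIso (b.stalkMap (j e))
      rw [← ker_stalkMap_eq_stalkIdeal j e]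
      refine (congrArg (Ideal.map (b.stalkMap (j e)).hom) (show stalkIdeal (j ≫ b).ker (b (j e)) =
        RingHom.ker ((j.stalkMap e).hom.comp (b.stalkMap (j e)).hom) from ?_)).trans ?_
      · refine (ker_stalkMap_eq_stalkIdeal (j ≫ b) e).symm.trans ?_
        rw [Scheme.Hom.stalkMap_comp, CommRingCat.hom_comp]
      rw [← RingHom.comap_ker]
      exact Ideal.map_comap_of_surjective _ hbij.2 _
    · have hbx : b x ∉ (j ≫ b).ker.support := by
        intro h
        have h' : b x ∈ closure (Set.range (j ≫ b)) := (Scheme.Hom.support_ker (j ≫ b)).le h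
        rw [(j ≫ b).isClosedMap.isClosed_range.closure_eq] at h'
        obtain ⟨e, he⟩ := h'
        exact hx ⟨e, injective_over_open b V (hV e) he⟩
      rw [(stalkIdeal_eq_top_iff _ _).2 hbx, Ideal.map_top, eq_comm, stalkIdeal_eq_top_iff]
      intro h
      have h' : x ∈ closure (Set.range j) := (Scheme.Hom.support_ker j).le h
      rw [j.isClosedEmbedding.isClosed_range.closure_eq] at h'
      exact hx h'
  exact le_antisymm (DivPart.le_of_stalkIdeal fun x => (key x).le) (DivPart.le_of_stalkIdeal fun x => (key x).ge)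

include hV in
/-- An exceptional curve inside an open over which a proper map is an isomorphism stays exceptional. -/
theorem isExcCurve_comp_of_iso_over (h : Models.IsExcCurve j) : Models.IsExcCurve (j ≫ b) := by
  haveI := isClosedImmersion_comp_of_iso_over j b V hV
  have hker := ker_comap_of_iso_over j b V hV
  obtain ⟨hE, k, _, e, ⟨t⟩⟩ := h
  have hcart : _root_.BlowUp.IsEffCartierIdeal (j ≫ b).ker := by
    intro x
    refine GrothLib.ExcP1.exists_cartier_nhd _ ?_
    by_cases hx : x ∈ Set.range (j ≫ b)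
    · obtain ⟨e, rfl⟩ := hx
      haveI : IsIso (b.stalkMap (j e)) :=
        ((MorphismProperty.isomorphisms CommRingCat).arrow_mk_iso_iff (morphismRestrictStalkMap b V ⟨j e, hV e⟩)).1
          (show IsIso ((b ∣_ V).stalkMap ⟨j e, hV e⟩) from inferInstance)
      have h1 := GrothLib.ExcP1.nuAt_comap (j ≫ b).ker b (j e)
      rw [hker] at h1
      rw [Scheme.Hom.comp_apply, ← h1]
      exact GrothLib.ExcP1.nuAt_eq_zero_of_cartier _ hE _
    · rw [GrothLib.ExcP1.nuAt, (stalkIdeal_eq_top_iff _ _).2 (fun h => hx (by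
        have h' : x ∈ closure (Set.range (j ≫ b)) := (Scheme.Hom.support_ker (j ≫ b)).le h
        rwa [(j ≫ b).isClosedMap.isClosed_range.closure_eq] at h'))]
      exact GrothLib.ExcP1.nu_top
  obtain ⟨p⟩ := HodgeIndex.nonempty_pullback_idealMod (j ≫ b) j (𝟙 E) b (by simp) hker.symm
    (IdealModSec.isInvertible_of_isEffCartier hcart) (IdealModSec.isInvertible_of_isEffCartier hE)
  refine ⟨hcart, k, inferInstance, e, ⟨?_⟩⟩
  exact eqToIso (by rw [← Category.assoc]) ≪≫ ((Scheme.Modules.pullbackComp (e.hom ≫ j) b).app _).symm ≪≫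
    (Scheme.Modules.pullback (e.hom ≫ j)).mapIso p ≪≫ t

variable {R : Type u} [CommRing R] [IsDomain R] [IsDiscreteValuationRing R]

omit [IsLocallyNoetherian Y'] [IsProper b] [IsIso (b ∣_ V)] in
/-- An exceptional curve inside the closed fibre is a vertical prime divisor. -/
theorem exists_vertComp_of_excCurve {X : Over (Spec (CommRingCat.of R))} (ι : E ⟶ X.left) [IsClosedImmersion ι]
    (h : Models.IsExcCurve ι) (hfib : ∀ e, X.hom (ι e) = closedPoint R) :
    ∃ Γ : ArSurf.VertComp R X, Models.IsExcCurve Γ.ι ∧ Set.range Γ.ι = Set.range ι := by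
  obtain ⟨hE, k, _, e, t⟩ := id h
  haveI : IsIntegral (CohB1.ProjSpace 1 k) := ProjDim.isIntegral_proj _ 1
  haveI : Nonempty E := ⟨e.hom (genericPoint _)⟩
  haveI : IsIntegral E := isIntegral_of_isOpenImmersion e.inv
  have hdim : topologicalKrullDim E = 1 := by
    rw [IsHomeomorph.topologicalKrullDim_eq _ e.inv.homeomorph.isHomeomorph, Groth.Agent.S10829.result]
    norm_num
  let res := Spec.map (CommRingCat.ofHom (IsLocalRing.residue R))
  haveI : IsClosedImmersion res := IsClosedImmersion.spec_of_surjective _ IsLocalRing.residue_surjective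
  haveI : IsReduced (Spec (CommRingCat.of (ResidueField R))) := inferInstance
  have hle : res.ker ≤ (ι ≫ X.hom).ker := by
    rw [SchImage.ker_eq_vanishingIdeal, SchImage.ker_eq_vanishingIdeal]
    refine Scheme.IdealSheafData.vanishingIdeal_antimono ?_
    intro x hx
    have hcl : IsClosed ({closedPoint R} : Set (PrimeSpectrum R)) := IsLocalRing.isClosed_singleton_closedPoint R
    have h1 : Set.range (ι ≫ X.hom) ⊆ {closedPoint R} := by rintro _ ⟨w, rfl⟩; exact hfib w
    have h2 : x = closedPoint R := (closure_minimal h1 hcl) hx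
    refine subset_closure ⟨closedPoint (ResidueField R), ?_⟩
    rw [h2]
    exact IsLocalRing.comap_closedPoint (IsLocalRing.residue R)
  let c := IsClosedImmersion.lift res (ι ≫ X.hom) hle
  exact ⟨⟨Over.mk c, ι, inferInstance, ‹IsIntegral E›, hdim, (IsClosedImmersion.lift_fac _ _ _).symm⟩, h, rfl⟩

omit [IsLocallyNoetherian Y'] [IsProper b] [IsIso (b ∣_ V)] in
/-- Exceptional curves with the same points. -/
theorem isExcCurve_of_range_eq {E' : Scheme.{u}} (j' : E' ⟶ Y) [IsClosedImmersion j'] [IsReduced E] [IsReduced E']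
    (h : Models.IsExcCurve j) (hr : Set.range j' = Set.range j) : Models.IsExcCurve j' := by
  have hker : j'.ker = j.ker := by
    rw [SchImage.ker_eq_vanishingIdeal, SchImage.ker_eq_vanishingIdeal]
    congr 1
    exact Closeds.ext (congrArg closure hr)
  obtain ⟨hE, κ, _, e, ⟨t⟩⟩ := h
  let a := IsClosedImmersion.lift j' j hker.le
  let c := IsClosedImmersion.lift j j' hker.ge
  have ha : a ≫ j' = j := IsClosedImmersion.lift_fac _ _ _
  have hc : c ≫ j = j' := IsClosedImmersion.lift_fac _ _ _
  let ε : E ≅ E' :=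
    ⟨a, c, by rw [← cancel_mono j, Category.assoc, hc, ha, Category.id_comp],
      by rw [← cancel_mono j', Category.assoc, ha, hc, Category.id_comp]⟩
  refine ⟨hker ▸ hE, κ, inferInstance, e ≪≫ ε, ⟨?_⟩⟩
  exact eqToIso (by rw [hker, Iso.trans_hom, Category.assoc, ha]) ≪≫ t

end GrothLib.ArSurf29
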