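import Groth.Agent.Lib.ArSurf29.DegZero
import Groth.Agent.Lib.ArSurf29.Points
import Groth.Agent.Lib.SemiPrufer.SchemeFibre
import Groth.Agent.Lib.FibreDimAt6.ZeroDim
import Groth.Agent.Lib.Dim.Ring

/-!
# The components of the closed fibre of a proper flat surface over a discrete valuation ring
-/

set_option autoImplicit false
set_option linter.all false
set_option backward.isDefEq.respectTransparency false

universe u

open CategoryTheory CategoryTheory.Limits AlgebraicGeometry TopologicalSpace IsLocalRing

noncomputable section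

namespace GrothLib.ArSurf29

variable {R : Type u} [CommRing R] [IsDomain R] [IsDiscreteValuationRing R]

theorem valuationRing_localization (p : Ideal R) [p.IsPrime] : ValuationRing (Localization.AtPrime p) := by
  have hassoc : ∀ c : Localization.AtPrime p, ∃ r : R, Associated (algebraMap R (Localization.AtPrime p) r) c := by
    intro c
    obtain ⟨r, s, rfl⟩ := IsLocalization.exists_mk'_eq p.primeCompl c
    exact ⟨r, Associated.symm ⟨(IsLocalization.map_units (Localization.AtPrime p) s).unit, IsLocalization.mk'_spec _ r s⟩⟩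
  refine ValuationRing.iff_dvd_total.2 ⟨fun a b => ?_⟩
  obtain ⟨r, hr⟩ := hassoc a
  obtain ⟨r', hr'⟩ := hassoc b
  rw [← hr.dvd_iff_dvd_left, ← hr'.dvd_iff_dvd_right, ← hr'.dvd_iff_dvd_left, ← hr.dvd_iff_dvd_right]
  exact (ValuationRing.dvd_total r r').imp (map_dvd _) (map_dvd _)

/-- If a maximal point of the closed fibre of a proper irreducible scheme is closed, the morphism is finite. -/
theorem isFinite_of_isolated {X : Scheme.{u}} (f : X ⟶ Spec (CommRingCat.of R)) [IsProper f] [IrreducibleSpace X]
    (U : X.Opens) (hU : IsAffineOpen U) (η : X) (hη : η ∈ U) (hηs : f η = closedPoint R)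
    (hiso : ∀ x ∈ U, f x = closedPoint R → x = η) : IsFinite f := by
  letI := (SemiPrufer.sectionsMap f hU).toAlgebra
  haveI : Algebra.FiniteType R Γ(X, U) := SemiPrufer.sectionsMap_finiteType f hU
  obtain ⟨ζ, hζ, hmin⟩ := SemiPrufer.exists_generic hU ⟨η, hη⟩
  have hiff : ∀ p : PrimeSpectrum Γ(X, U), p.asIdeal.under R = (closedPoint R).asIdeal ↔ f (hU.fromSpec p) = closedPoint R := fun p => by
    rw [← Scheme.Hom.comp_apply, ← SemiPrufer.SpecMap_sectionsMap f hU]
    exact (PrimeSpectrum.ext_iff (x := PrimeSpectrum.comap (SemiPrufer.sectionsMap f hU) p) (y := closedPoint R)).symm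
  obtain ⟨p, hp⟩ := hU.range_fromSpec.ge hη
  haveI : Subsingleton (SemiPrufer.FibrePrimes Γ(X, U) (closedPoint R).asIdeal) := ⟨fun a b => by
    have h : ∀ q : SemiPrufer.FibrePrimes Γ(X, U) (closedPoint R).asIdeal, hU.fromSpec q.1 = η := fun q =>
      hiso _ (hU.range_fromSpec.le ⟨q.1, rfl⟩) ((hiff q.1).1 q.2)
    exact Subtype.ext (hU.fromSpec.isEmbedding.injective ((h a).trans (h b).symm))⟩
  haveI hne : Nonempty (SemiPrufer.FibrePrimes Γ(X, U) (closedPoint R).asIdeal) :=
    ⟨⟨p, (hiff p).2 (by rw [hp]; exact hηs)⟩⟩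
  haveI := (closedPoint R).isPrime
  have h0 := SemiPrufer.krullDim_fibrePrimes (fun p _ => valuationRing_localization p)
    (η := ζ.asIdeal) (fun P hP => hmin ⟨P, hP⟩) (closedPoint R).asIdeal
  rw [Order.krullDim_eq_zero] at h0
  have hg : SemiPrufer.genTr f hU ζ = 0 := by
    unfold SemiPrufer.genTr
    exact_mod_cast h0.symm
  refine FibreDimAt6.isFinite_of_dim_fiber_le_zero f fun y => ?_
  by_cases hy : Nonempty ↥(f.fiber y)
  · rw [SemiPrufer.topologicalKrullDim_fiber f (fun p _ => valuationRing_localization p) y hy hU hζ, hg]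
    rfl
  · haveI := not_nonempty_iff.1 hy
    exact (Order.krullDim_eq_bot_iff.2 ⟨fun S => hy ⟨S.2.1.some⟩⟩ : topologicalKrullDim ↥(f.fiber y) = ⊥).trans_le bot_le

theorem not_isFinite_of_dim_two {X : Scheme.{u}} (f : X ⟶ Spec (CommRingCat.of R)) (hdim : topologicalKrullDim X = 2) :
    ¬ IsFinite f := by
  intro hf
  haveI : IsAffine X := isAffine_of_isAffineHom f
  letI := f.appTop.hom.toAlgebra
  haveI : Module.Finite Γ(Spec (CommRingCat.of R), ⊤) Γ(X, ⊤) :=
    RingHom.finite_algebraMap.1 (IsFinite.finite_app f ⊤ (isAffineOpen_top _))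
  have h1 := Dim.ringKrullDim_le_of_isIntegral Γ(Spec (CommRingCat.of R), ⊤) Γ(X, ⊤)
  rw [ringKrullDim_eq_of_ringEquiv (Scheme.ΓSpecIso (CommRingCat.of R)).commRingCatIsoToRingEquiv,
    IsDiscreteValuationRing.ringKrullDim_eq_one R, ← PrimeSpectrum.topologicalKrullDim_eq_ringKrullDim] at h1
  have h2 : topologicalKrullDim X = topologicalKrullDim (PrimeSpectrum Γ(X, ⊤)) :=
    X.isoSpec.hom.homeomorph.isHomeomorph.topologicalKrullDim_eq
  rw [← h2, hdim] at h1
  exact absurd h1 (by decide)

variable {X : Over (Spec (CommRingCat.of R))} [IsProper X.hom] [Flat X.hom] [IsIntegral X.left]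

theorem genericPoint_notMem_fibre' : genericPoint X.left ∉ Models.specialFibreSet R X := by
  haveI : IsLocallyNoetherian X.left := LocallyOfFiniteType.isLocallyNoetherian X.hom
  intro h
  obtain ⟨γ, hγ, hF⟩ := CartierDescent.exists_stalk_generator (isEffCartier_fibre (X := X)) (genericPoint X.left)
  haveI : IsField (X.left.presheaf.stalk (genericPoint X.left)) := Field.toIsField (X.left.functionField)
  have hu : IsUnit γ := by
    letI := (Field.toIsField (X.left.functionField)).toField
    exact isUnit_iff_ne_zero.2 (nonZeroDivisors.ne_zero hγ)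
  exact (CartierDescent.stalkIdeal_eq_top_iff _ _).1 (hF.trans (Ideal.span_singleton_eq_top.2 hu))
    ((support_fibre (X := X)).ge h)

/-- Every component of the closed fibre is a curve. -/
theorem dim_component (hdim : topologicalKrullDim X.left = 2) :
    ∀ Z ∈ irreducibleComponents ↥(Models.specialFibreSet R X), topologicalKrullDim Z = 1 := by
  intro Z hZ
  haveI : IsLocallyNoetherian X.left := LocallyOfFiniteType.isLocallyNoetherian X.hom
  haveI : CompactSpace X.left := QuasiCompact.compactSpace_of_compactSpace X.hom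
  haveI : IsNoetherian X.left := {}
  let Fs := Models.specialFibreSet R X
  have hFc : IsClosed Fs := Models.isClosed_specialFibreSet R X
  have hZcl : IsClosed Z := isClosed_of_mem_irreducibleComponents Z hZ
  let Z' : Set X.left := Subtype.val '' Z
  have hZc : IsClosed Z' := hFc.isClosedEmbedding_subtypeVal.isClosedMap _ hZcl
  have hemb : Topology.IsClosedEmbedding (fun z : Z => ((z : Fs) : X.left)) :=
    hFc.isClosedEmbedding_subtypeVal.comp hZcl.isClosedEmbedding_subtypeVal
  refine le_antisymm ?_ ?_
  · refine iSup_le fun s => ?_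
    by_contra hc
    have hlen : 2 ≤ s.length := by
      by_contra h
      exact hc (by exact_mod_cast (by omega : s.length ≤ 1))
    let t := s.map _ (IrreducibleCloseds.map_strictMono_of_isInducing (f := fun z : Z => ((z : Fs) : X.left)) hemb.isInducing)
    let T : IrreducibleCloseds X.left := ⟨Set.univ, IrreducibleSpace.isIrreducible_univ _, isClosed_univ⟩
    have hlt : t.last < T := by
      refine lt_of_le_of_ne (fun x _ => trivial) fun he => ?_
      have hg : genericPoint X.left ∈ (t.last : Set X.left) := by rw [he]; trivial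
      have hsub : (t.last : Set X.left) ⊆ Fs := by
        refine closure_minimal ?_ hFc
        rintro _ ⟨z, -, rfl⟩
        exact (z : Fs).2
      exact genericPoint_notMem_fibre' (hsub hg)
    have h3 : ((t.snoc T hlt).length : WithBot ℕ∞) ≤ topologicalKrullDim X.left := Order.LTSeries.length_le_krullDim _
    rw [hdim, RelSeries.snoc_length] at h3
    have h4 : t.length + 1 ≤ 2 := by exact_mod_cast h3
    have h5 : t.length = s.length := rfl
    omega
  · by_contra hc
    obtain ⟨η, hη⟩ := QuasiSober.sober (hZ.1.image _ continuous_subtype_val.continuousOn) hZc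
    have hηZ : η ∈ Z' := hη.mem
    have hsub : Z' ⊆ {η} := by
      intro x hx
      by_contra hne
      obtain ⟨ηF, hηF, rfl⟩ := hηZ
      obtain ⟨xF, hxF, rfl⟩ := hx
      let a : IrreducibleCloseds Z := ⟨closure {⟨xF, hxF⟩}, isIrreducible_singleton.closure, isClosed_closure⟩
      let b : IrreducibleCloseds Z := ⟨closure {⟨ηF, hηF⟩}, isIrreducible_singleton.closure, isClosed_closure⟩
      have hab : a < b := by
        refine lt_of_le_not_ge ?_ fun h => hne ?_
        · refine closure_minimal (Set.singleton_subset_iff.2 ?_) isClosed_closure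
          show (⟨xF, hxF⟩ : Z) ∈ closure {(⟨ηF, hηF⟩ : Z)}
          rw [hemb.isInducing.closure_eq_preimage_closure_image, Set.image_singleton]
          exact hη.specializes ⟨xF, hxF, rfl⟩ |> specializes_iff_mem_closure.1
        · have h1 : ((ηF : Fs) : X.left) ∈ closure {((xF : Fs) : X.left)} := by
            have := h (subset_closure (Set.mem_singleton (⟨ηF, hηF⟩ : Z)))
            replace this : (⟨ηF, hηF⟩ : Z) ∈ closure {(⟨xF, hxF⟩ : Z)} := this
            rw [hemb.isInducing.closure_eq_preimage_closure_image, Set.image_singleton] at this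
            exact this
          exact ((specializes_iff_mem_closure.2 h1).antisymm (hη.specializes ⟨xF, hxF, rfl⟩)).eq
      exact hc (le_trans (by simp) (Order.LTSeries.length_le_krullDim ((RelSeries.singleton _ a).snoc b hab)))
    let O : Set (Set Fs) := {W ∈ irreducibleComponents Fs | W ≠ Z}
    haveI : NoetherianSpace Fs := inferInstance
    have hOfin : O.Finite := NoetherianSpace.finite_irreducibleComponents.subset fun _ h => h.1
    let C : Set X.left := ⋃ W ∈ O, Subtype.val '' W
    have hC : IsClosed C := hOfin.isClosed_biUnion fun W hW =>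
      hFc.isClosedEmbedding_subtypeVal.isClosedMap _ (isClosed_of_mem_irreducibleComponents W hW.1)
    have hηC : η ∉ C := by
      intro h
      obtain ⟨W, hW, w, hw, rfl⟩ := Set.mem_iUnion₂.1 h
      refine hW.2 ((hZ.eq_of_subset hW.1.1 ?_).symm)
      intro z hz
      have : (z : X.left) = w := hsub ⟨z, hz, rfl⟩
      rwa [Subtype.ext this]
    obtain ⟨_, ⟨U, hU, rfl⟩, hηU, hUC⟩ :=
      X.left.isBasis_affineOpens.exists_subset_of_mem_open (show η ∈ Cᶜ from hηC) hC.isOpen_compl
    refine not_isFinite_of_dim_two X.hom hdim (isFinite_of_isolated X.hom U hU η hηU ?_ fun x hxU hxs => ?_)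
    · obtain ⟨z, -, rfl⟩ := hηZ
      exact z.2
    · by_cases hW : irreducibleComponent (⟨x, hxs⟩ : Fs) = Z
      · exact hsub ⟨⟨x, hxs⟩, hW ▸ mem_irreducibleComponent, rfl⟩
      · refine absurd ?_ (hUC hxU)
        exact Set.mem_biUnion (t := fun W : Set Fs => Subtype.val '' W)
          (show irreducibleComponent (⟨x, hxs⟩ : Fs) ∈ O from ⟨irreducibleComponent_mem_irreducibleComponents _, hW⟩)
          ⟨⟨x, hxs⟩, mem_irreducibleComponent, rfl⟩

/-- The components of the closed fibre can be listed. -/
theorem exists_componentList (hdim : topologicalKrullDim X.left = 2) :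
    ∃ (n : ℕ) (Γ : Fin n → ArSurf.VertComp R X), Models.IsComponentList R X Γ := by
  classical
  haveI : IsLocallyNoetherian X.left := LocallyOfFiniteType.isLocallyNoetherian X.hom
  haveI : CompactSpace X.left := QuasiCompact.compactSpace_of_compactSpace X.hom
  haveI : IsNoetherian X.left := {}
  have hS : {z : X.left | IsMaxPt z}.Finite := finite_isMaxPt
  have hex : ∀ z : {z : X.left // IsMaxPt z}, ∃ Γ : ArSurf.VertComp R X,
      Set.range (Γ.ι.base : Γ.curve.left → X.left) = closure {z.1} := by
    rintro ⟨z, hz⟩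
    obtain ⟨Γ, η, hηF, -, hzΓ, hr⟩ := exists_vertComp_through (dim_component hdim) hz.1
    rw [hz.2 η hηF (specializes_iff_mem_closure.2 (hr ▸ hzΓ))] at hr
    exact ⟨Γ, hr⟩
  choose Γ hΓ using hex
  haveI : Fintype {z : X.left // IsMaxPt z} := hS.fintype
  let e := (Fintype.equivFin {z : X.left // IsMaxPt z}).symm
  have hmem : ∀ z : X.left, IsMaxPt z → closure ({z} : Set X.left) ∈ Models.fibreComponents R X := by
    intro z hz
    refine ⟨⟨isIrreducible_singleton.closure,
      closure_minimal (Set.singleton_subset_iff.2 hz.1) (Models.isClosed_specialFibreSet R X)⟩, fun S ⟨hS, hSsub⟩ hle => ?_⟩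
    obtain ⟨w, hw⟩ := QuasiSober.sober hS.closure isClosed_closure
    have hwF : w ∈ Models.specialFibreSet R X :=
      closure_minimal hSsub (Models.isClosed_specialFibreSet R X) hw.mem
    obtain rfl := hz.2 w hwF (hw.specializes (subset_closure (hle (subset_closure rfl))))
    exact subset_closure.trans hw.def.ge
  refine ⟨_, fun i => Γ (e i), fun i j h => e.injective (Subtype.ext ?_), Set.Subset.antisymm ?_ ?_⟩
  · simp only [hΓ] at h
    exact (inseparable_iff_closure_eq.2 h).eq
  · rintro _ ⟨i, rfl⟩
    show Set.range ((Γ (e i)).ι.base) ∈ _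
    rw [hΓ]
    exact hmem _ (e i).2
  · rintro S ⟨⟨hS, hSsub⟩, hmax⟩
    obtain ⟨w, hw⟩ := QuasiSober.sober hS.closure isClosed_closure
    have hwF : w ∈ Models.specialFibreSet R X :=
      closure_minimal hSsub (Models.isClosed_specialFibreSet R X) hw.mem
    have hSw : S ⊆ closure {w} := subset_closure.trans hw.def.ge
    have hwmax : IsMaxPt w := by
      refine ⟨hwF, fun y hy hyw => ?_⟩
      have h1 := hmax (y := closure {y}) ⟨isIrreducible_singleton.closure,
        closure_minimal (Set.singleton_subset_iff.2 hy) (Models.isClosed_specialFibreSet R X)⟩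
        (hSw.trans (closure_minimal (Set.singleton_subset_iff.2 (specializes_iff_mem_closure.1 hyw)) isClosed_closure))
      exact (hyw.antisymm (specializes_iff_mem_closure.2 (hSw (h1 (subset_closure rfl))))).eq
    refine ⟨e.symm ⟨w, hwmax⟩, ?_⟩
    show Set.range ((Γ (e (e.symm ⟨w, hwmax⟩))).ι.base) = S
    rw [Equiv.apply_symm_apply, hΓ]
    refine Set.Subset.antisymm ?_ hSw
    exact hmax ⟨isIrreducible_singleton.closure,
      closure_minimal (Set.singleton_subset_iff.2 hwF) (Models.isClosed_specialFibreSet R X)⟩ hSw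

end GrothLib.ArSurf29
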