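import Groth.Agent.Lib.ArSurf29.Connected
import Groth.Agent.Lib.ArSurf29.FibreComponents
import Groth.Agent.Lib.ArSurf29.GenusZeroComp
import Groth.Agent.Lib.ArSurf29.Torsion
import Groth.Agent.Lib.ArSurf29.ExcTransport
import Groth.Agent.Lib.Birat.LqfSep
import Groth.Agent.Lib.Stein.Count

/-!
# Curves contracted by a birational morphism to a normal surface
-/

universe u

set_option autoImplicit false
set_option linter.all false
set_option backward.isDefEq.respectTransparency false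

open CategoryTheory CategoryTheory.Limits AlgebraicGeometry TopologicalSpace IsLocalRing

noncomputable section

namespace GrothLib.ArSurf29

/-- Fibres of a proper birational morphism to a normal scheme are connected. -/
theorem isPreconnected_preimage_of_birational {W Y : Scheme.{u}} [IsIntegral W] [IsIntegral Y]
    [IsLocallyNoetherian Y] (u : W ⟶ Y) [IsProper u] (hN : ∀ y, IsIntegrallyClosed (Y.presheaf.stalk y))
    (V : Y.Opens) (hV : (V : Set Y).Nonempty) (hiso : IsIso (u ∣_ V)) (y : Y) :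
    _root_.IsPreconnected (u ⁻¹' {y}) := by
  haveI := hiso
  haveI : IsOpenImmersion ((u ⁻¹ᵁ V).ι ≫ u) := by rw [← morphismRestrict_ι]; infer_instance
  obtain ⟨w, hw⟩ := hV
  obtain ⟨e, hb⟩ := Birat.birational_of_openImmersion u
    ⟨u ⁻¹ᵁ V, ⟨_, ((u ∣_ V).homeomorph.symm ⟨w, hw⟩).2⟩, ‹_›⟩
  haveI := hN y
  haveI : IsFractionRing (Y.presheaf.stalk y) Y.functionField := inferInstance
  have h := GrothLib.Stein.connectedSpace_fiber_of_birational u e
    ((ConcreteCategory.isIso_iff_bijective _).2 hb) y GrothLib.Stein.isLocalRing_integralClosure_of_isIntegrallyClosed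
  haveI : ConnectedSpace ↥(u.fiber y) := h
  rw [← u.range_fiberι y]
  exact isPreconnected_range (u.fiberι y).continuous

variable {R : Type u} [CommRing R] [IsDomain R] [IsDiscreteValuationRing R]
  {W Y : Over (Spec (CommRingCat.of R))} [IsProper W.hom] [IsProper Y.hom] [Flat W.hom]
  [IsIntegral W.left] [IsIntegral Y.left] (u : W ⟶ Y)
  (hN : ∀ y, IsIntegrallyClosed (Y.left.presheaf.stalk y)) (hdim : topologicalKrullDim Y.left = 2)
  (V : Y.left.Opens) (hV : (V : Set Y.left).Nonempty) (hiso : IsIso (u.left ∣_ V))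

omit [IsProper W.hom] [IsProper Y.hom] [Flat W.hom] [IsIntegral W.left] [IsIntegral Y.left] in
theorem mem_fibre_over (x : W.left) :
    x ∈ Models.specialFibreSet R W ↔ u.left x ∈ Models.specialFibreSet R Y := by
  show W.hom x = closedPoint R ↔ Y.hom (u.left x) = closedPoint R
  rw [← Scheme.Hom.comp_apply, Over.w u]

include hN hdim hV hiso in
/-- A clopen part of the closed fibre is not contracted to a point. -/
theorem not_contracted_clopen {S S' : Set W.left} (hcov : S ∪ S' = Models.specialFibreSet R W)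
    (hdisj : Disjoint S S') (hS : IsClosed S) (hS' : IsClosed S') (hne : S.Nonempty) (y : Y.left)
    (hSy : ∀ x ∈ S, u.left x = y) : False := by
  haveI : IsLocallyNoetherian Y.left := LocallyOfFiniteType.isLocallyNoetherian Y.hom
  haveI : IsProper (u.left ≫ Y.hom) := by rw [Over.w u]; infer_instance
  haveI : IsProper u.left := IsProper.of_comp u.left Y.hom
  obtain ⟨x₀, hx₀⟩ := hne
  have hys : y ∈ Models.specialFibreSet R Y :=
    hSy x₀ hx₀ ▸ (mem_fibre_over u x₀).1 (hcov.le (Or.inl hx₀))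
  have hsub : u.left ⁻¹' {y} ⊆ S ∪ S' := fun x (hx : u.left x = y) => hcov.ge ((mem_fibre_over u x).2 (hx ▸ hys))
  have hin : u.left ⁻¹' {y} ⊆ S := by
    intro x hx
    rcases hsub hx with h | h
    · exact h
    · obtain ⟨z, -, hz1, hz2⟩ := isPreconnected_closed_iff.1
        (isPreconnected_preimage_of_birational u.left hN V hV hiso y) S S' hS hS' hsub
        ⟨x₀, hSy x₀ hx₀, hx₀⟩ ⟨x, hx, h⟩
      exact absurd hz2 (Set.disjoint_left.1 hdisj hz1)
  haveI : IsIso (u.left ∣_ V) := hiso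
  have hsurj : Function.Surjective u.left := by
    obtain ⟨w, hw⟩ := hV
    have hsub' : (V : Set Y.left) ⊆ Set.range u.left := fun v hv => by
      obtain ⟨z, hz⟩ := (u.left ∣_ V).homeomorph.surjective ⟨v, hv⟩
      exact ⟨(u.left ⁻¹ᵁ V).ι z, congrArg (fun t => V.ι t) hz |> fun h => by
        rw [show ((u.left ∣_ V).homeomorph z) = (u.left ∣_ V) z from rfl] at h
        erw [← Scheme.Hom.comp_apply, morphismRestrict_ι] at h
        exact h⟩
    intro v
    have hd : Dense (V : Set Y.left) := V.isOpen.dense ⟨w, hw⟩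
    exact (u.left.isClosedMap.isClosed_range.closure_subset_iff.2 hsub') (hd v)
  have hyS' : y ∉ u.left '' S' := fun ⟨x, hx, hxy⟩ => Set.disjoint_left.1 hdisj (hin hxy) hx
  obtain ⟨_, ⟨U, hU, rfl⟩, hyU, hUS'⟩ := Y.left.isBasis_affineOpens.exists_subset_of_mem_open
    (show y ∈ (u.left '' S')ᶜ from hyS') (u.left.isClosedMap _ hS').isOpen_compl
  refine not_isFinite_of_dim_two Y.hom hdim (isFinite_of_isolated Y.hom U hU y hyU hys fun v hv hvs => ?_)
  obtain ⟨x, rfl⟩ := hsurj v
  rcases hcov.ge ((mem_fibre_over u x).2 hvs) with h | h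
  · exact hSy x h
  · exact absurd ⟨x, h, rfl⟩ (hUS' hv)

/-- A null vector of a form with a positive kernel vector does not link its support to the rest. -/
theorem quad_eq_zero_link {n : ℕ} (A : Fin n → Fin n → ℤ) (m : Fin n → ℤ) (hm : ∀ i, 0 < m i)
    (hsymm : ∀ i j, A i j = A j i) (hoff : ∀ i j, i ≠ j → 0 ≤ A i j) (hAm : ∀ i, ∑ j, A i j * m j = 0)
    (a : Fin n → ℤ) (h0 : ∑ i, ∑ j, a i * a j * A i j = 0) (p q : Fin n) (hp : a p ≠ 0) (hq' : a q = 0) :
    A p q = 0 := by
  classical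
  let M : Matrix (Fin n) (Fin n) ℚ := fun i j => (A i j : ℚ)
  have hM : M.IsSymm := Matrix.IsSymm.ext fun i j => by show (A j i : ℚ) = A i j; rw [hsymm]
  have hmq : ∀ i, (0 : ℚ) < m i := fun i => by exact_mod_cast hm i
  let y : Fin n → ℚ := fun i => (a i : ℚ) / m i
  have hy : ∀ i, y i * (m i : ℚ) = a i := fun i => div_mul_cancel₀ _ (hmq i).ne'
  have h := NumType.quad_identity M hM (fun i => (m i : ℚ)) y
  simp only [hy] at h
  have h1 : ∀ i, ∑ j, M i j * (m j : ℚ) = 0 := fun i => by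
    show ∑ j, (A i j : ℚ) * m j = 0
    exact_mod_cast hAm i
  have hq : ∑ i, ∑ j, M i j * (a i : ℚ) * (a j : ℚ) = 0 := by
    have : ((∑ i, ∑ j, a i * a j * A i j : ℤ) : ℚ) = 0 := by rw [h0, Int.cast_zero]
    push_cast at this
    rw [← this]
    exact Finset.sum_congr rfl fun i _ => Finset.sum_congr rfl fun j _ => by
      show (A i j : ℚ) * a i * a j = _
      ring
  simp only [h1, mul_zero, Finset.sum_const_zero, zero_sub, hq] at h
  have hnn : ∀ i j, 0 ≤ M i j * (m i : ℚ) * (m j : ℚ) * (y i - y j) ^ 2 := fun i j => by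
    rcases eq_or_ne i j with rfl | hij
    · simp
    · exact mul_nonneg (mul_nonneg (mul_nonneg (by show (0 : ℚ) ≤ A i j; exact_mod_cast hoff i j hij)
        (hmq i).le) (hmq j).le) (sq_nonneg _)
  have hz : ∑ i, ∑ j, M i j * (m i : ℚ) * (m j : ℚ) * (y i - y j) ^ 2 = 0 := by linarith
  have hz' : M p q * (m p : ℚ) * (m q : ℚ) * (y p - y q) ^ 2 = 0 :=
    (Finset.sum_eq_zero_iff_of_nonneg fun j _ => hnn p j).1
      ((Finset.sum_eq_zero_iff_of_nonneg fun i _ => Finset.sum_nonneg fun j _ => hnn i j).1 hz p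
        (Finset.mem_univ p)) q (Finset.mem_univ q)
  have hne : y p - y q ≠ 0 := by
    have : y q = 0 := by simp [y, hq']
    rw [this, sub_zero]
    exact div_ne_zero (by exact_mod_cast hp) (hmq p).ne'
  have : M p q = 0 := by
    rcases mul_eq_zero.1 hz' with h2 | h2
    · rcases mul_eq_zero.1 h2 with h3 | h3
      · rcases mul_eq_zero.1 h3 with h4 | h4
        · exact h4
        · exact absurd h4 (hmq p).ne'
      · exact absurd h3 (hmq q).ne'
    · exact absurd (sq_eq_zero_iff.1 h2) hne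
  exact_mod_cast (show (A p q : ℚ) = 0 from this)

variable (hW : Models.IsRegularScheme W.left) [IsLocallyNoetherian W.left]
  {n : ℕ} {Γ : Fin n → ArSurf.VertComp R W} (hΓ : Models.IsComponentList R W Γ)
  {L : Fin n → W.left.Modules} (hL : ∀ j, ClSub.IsInverseOf (L j) (ClSub.idealMod (Γ j).ι.ker))

include hN hdim hV hiso hW hΓ hL in
/-- The intersection form is negative definite on the components contracted to a point. -/
theorem quad_neg_of_contracted (y : Y.left) (a : Fin n → ℤ) (ha : a ≠ 0)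
    (hy : ∀ i, a i ≠ 0 → ∀ z, u.left ((Γ i).ι z) = y) :
    ∑ i, ∑ j, a i * a j * ArSurf.inter R W (L j) (Γ i) < 0 := by
  classical
  have hAm : ∀ i, ∑ j, ArSurf.inter R W (L j) (Γ i) * (Models.mult R W (Γ j) : ℤ) = 0 := fun i =>
    (Finset.sum_congr rfl fun j _ => mul_comm _ _).trans (sum_mult_inter hW hΓ hL i)
  have hm : ∀ i, (0 : ℤ) < (Models.mult R W (Γ i) : ℤ) := fun i => by
    exact_mod_cast mult_pos (isMaxComp hΓ i) hW
  refine lt_of_le_of_ne (quad_nonpos (fun i j => ArSurf.inter R W (L j) (Γ i))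
    (fun i => (Models.mult R W (Γ i) : ℤ)) hm (inter_symm hW hΓ hL)
    (fun i j h => (inter_nonneg_of_ne hW hΓ hL h).1) (fun i => (hAm i).le) a) fun h0 => ?_
  have hlink := quad_eq_zero_link (fun i j => ArSurf.inter R W (L j) (Γ i))
    (fun i => (Models.mult R W (Γ i) : ℤ)) hm (inter_symm hW hΓ hL)
    (fun i j h => (inter_nonneg_of_ne hW hΓ hL h).1) hAm a h0
  let T : Set (Fin n) := {i | a i ≠ 0}
  have hc : ∀ T : Set (Fin n), IsClosed (⋃ i ∈ T, Set.range (Γ i).ι) := fun T =>
    T.toFinite.isClosed_biUnion fun i _ => (Γ i).ι.isClosedEmbedding.isClosed_range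
  obtain ⟨i₀, hi₀⟩ := Function.ne_iff.1 ha
  refine not_contracted_clopen u hN hdim V hV hiso (S := ⋃ i ∈ T, Set.range (Γ i).ι)
    (S' := ⋃ i ∈ Tᶜ, Set.range (Γ i).ι) ?_ ?_ (hc T) (hc Tᶜ) ?_ y ?_
  · refine Set.Subset.antisymm ?_ fun x hx => ?_
    · rintro x (h | h)
      all_goals
        obtain ⟨i, -, hi⟩ := Set.mem_iUnion₂.1 h
        exact range_subset_fibre (Γ i) hi
    · obtain ⟨i, hi⟩ := exists_mem_range hΓ hx
      by_cases h : i ∈ T
      · exact Or.inl (Set.mem_biUnion h hi)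
      · exact Or.inr (Set.mem_biUnion (x := i) h hi)
  · refine Set.disjoint_left.2 fun x hx hx' => ?_
    obtain ⟨p, hp, hxp⟩ := Set.mem_iUnion₂.1 hx
    obtain ⟨q, hq, hxq⟩ := Set.mem_iUnion₂.1 hx'
    have hq0 : a q = 0 := not_not.1 hq
    have hpq : p ≠ q := fun e => hp (e ▸ hq0)
    exact Set.disjoint_left.1 ((inter_nonneg_of_ne hW hΓ hL hpq).2.1 (hlink p q hp hq0)) hxp hxq
  · obtain ⟨z⟩ : Nonempty (Γ i₀).curve.left := inferInstance
    exact ⟨_, Set.mem_biUnion (x := i₀) hi₀ ⟨z, rfl⟩⟩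
  · intro x hx
    obtain ⟨i, hi, z, rfl⟩ := Set.mem_iUnion₂.1 hx
    exact hy i hi z

include hN hdim hV hiso hW hΓ hL in
/-- Two exceptional curves contracted by a birational morphism to a normal surface are disjoint. -/
theorem excCurves_disjoint_of_contracted (i j : Fin n) (hij : i ≠ j) (hi : Models.IsExcCurve (Γ i).ι)
    (hj : Models.IsExcCurve (Γ j).ι) (hi' : ∃ y, ∀ z, u.left ((Γ i).ι z) = y)
    (hj' : ∃ y, ∀ z, u.left ((Γ j).ι z) = y) :
    Disjoint (Set.range (Γ i).ι) (Set.range (Γ j).ι) := by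
  classical
  by_contra hmeet
  obtain ⟨yi, hyi⟩ := hi'
  obtain ⟨yj, hyj⟩ := hj'
  obtain ⟨x, ⟨zi, hzi⟩, ⟨zj, hzj⟩⟩ := Set.not_disjoint_iff.1 hmeet
  have hy : yj = yi := by rw [← hyi zi, hzi, ← hzj, hyj zj]
  have hE := fun l => isEffCartier_ker (isMaxComp hΓ l) hW
  obtain ⟨-, hsi⟩ := h1_inter_of_isExcCurve (Γ i) (hE i) (hL i) hi
  obtain ⟨-, hsj⟩ := h1_inter_of_isExcCurve (Γ j) (hE j) (hL j) hj
  have hnonneg := inter_nonneg_of_ne hW hΓ hL hij
  have hsym := inter_symm hW hΓ hL i j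
  have hapos : 0 < ArSurf.inter R W (L j) (Γ i) :=
    lt_of_le_of_ne hnonneg.1 (Ne.symm fun h => hmeet (hnonneg.2.1 h))
  let v : Fin n → ℤ := Pi.single i 1 + Pi.single j 1
  have hv : ∀ p, v p = (if p = i then 1 else 0) + (if p = j then 1 else 0) := fun p => by
    simp [v, Pi.single_apply]
  have hQv : ∑ p, ∑ q, v p * v q * ArSurf.inter R W (L q) (Γ p) =
      ArSurf.inter R W (L i) (Γ i) + ArSurf.inter R W (L j) (Γ j) + 2 * ArSurf.inter R W (L j) (Γ i) := by
    simp only [hv, add_mul, mul_add, Finset.sum_add_distrib, ite_mul, one_mul, zero_mul, mul_ite, mul_one, mul_zero,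
      Finset.sum_ite_irrel, Finset.sum_ite_eq', Finset.mem_univ, if_true, Finset.sum_const_zero]
    have := hsym
    linarith
  have hlt := quad_neg_of_contracted u hN hdim V hV hiso hW hΓ hL yi v
    (fun h => by have := congrFun h i; simp [hv, hij] at this) fun p hp z => by
      rw [hv] at hp
      by_cases h : p = i
      · subst h; exact hyi z
      · by_cases h' : p = j
        · subst h'; rw [hyj z, hy]
        · simp [h, h'] at hp
  rw [hQv, hsi, hsj] at hlt
  obtain ⟨qi, hqi⟩ := wdeg_dvd_inter (Γ i) (isInvertible_inverse hW hΓ hL j)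
  obtain ⟨qj, hqj⟩ := wdeg_dvd_inter (Γ j) (isInvertible_inverse hW hΓ hL i)
  have hwi : (0 : ℤ) < Models.wdeg R W (Γ i) := by exact_mod_cast wdeg_pos (Γ i)
  have hwj : (0 : ℤ) < Models.wdeg R W (Γ j) := by exact_mod_cast wdeg_pos (Γ j)
  have hai : (Models.wdeg R W (Γ i) : ℤ) ≤ ArSurf.inter R W (L j) (Γ i) := by
    have : 1 ≤ qi := by nlinarith
    nlinarith
  have haj : (Models.wdeg R W (Γ j) : ℤ) ≤ ArSurf.inter R W (L j) (Γ i) := by
    have : 1 ≤ qj := by nlinarith
    nlinarith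
  linarith

end GrothLib.ArSurf29
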