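import Groth.Agent.Lib.ArSurf29.DivSum
import Groth.Agent.Lib.ArSurf29.EulerVert
import Groth.Agent.Lib.ArSurf29.Inter
import Groth.Agent.Lib.ArSurf29.Constants
import Groth.Agent.Lib.OX.LocalLift
import Groth.Agent.Lib.Euler.InvHom

/-!
# Functions on vertical divisors

If a vertical divisor can be built up from a component by steps of negative degree, its functions are
detected on that component.
-/

set_option autoImplicit false
set_option linter.all false
set_option backward.isDefEq.respectTransparency false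

universe u

open CategoryTheory CategoryTheory.Limits AlgebraicGeometry TopologicalSpace IsLocalRing

noncomputable section

namespace GrothLib.ArSurf29

open GrothLib.Cube (Pic clsMod)

section General

variable {X : Scheme.{u}}

theorem exists_push_map {V Z : Scheme.{u}} (j : Z ⟶ X) (q : V ⟶ X) (v : V ⟶ Z) (h : v ≫ j = q) :
    ∃ φ : (Scheme.Modules.pushforward j).obj (Coh.structureModule Z) ⟶
        (Scheme.Modules.pushforward q).obj (Coh.structureModule V),
      ClSub.unitToPush j ≫ φ = ClSub.unitToPush q ∧ ∀ s : Γ(Z, ⊤), v.appTop s = 0 → φ.app ⊤ s = 0 := by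
  subst h
  refine ⟨(Scheme.Modules.pushforward j).map (ClSub.unitToPush v) ≫
    (Scheme.Modules.pushforwardComp v j).hom.app (Coh.structureModule V), ?_, fun s hs => hs⟩
  exact Scheme.Modules.hom_ext _ _ fun U => rfl

/-- If the kernel sheaf has no global sections, functions restrict injectively. -/
theorem injective_restriction (D K : X.IdealSheafData) (hD : PicF.IsInvertible (ClSub.idealMod D))
    (hK : PicF.IsInvertible (ClSub.idealMod K)) (hle : D * K ≤ D)
    [Subsingleton Γ(((DCoh.tensorBi (X := X)).obj (ClSub.idealMod D)).obj (ClSub.quotMod K), ⊤)] :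
    Function.Injective (Scheme.IdealSheafData.inclusion hle).appTop := by
  obtain ⟨S, hS, ⟨a₁⟩, a₂, a₃, hcomp⟩ := exists_shortExact_mul' D K hD hK
  obtain ⟨φ, hφ, hφ'⟩ := exists_push_map (D * K).subschemeι D.subschemeι (Scheme.IdealSheafData.inclusion hle)
    (Scheme.IdealSheafData.inclusion_subschemeι hle)
  haveI : Epi (ClSub.toSubscheme (D * K)) := Euler.epi_toSubscheme _
  have heq : a₂.inv ≫ S.g ≫ a₃.hom = φ := by
    rw [← cancel_epi (ClSub.toSubscheme (D * K))]
    exact hcomp.trans hφ.symm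
  rw [injective_iff_map_eq_zero]
  intro s hs
  let t : Γ(S.X₂, ⊤) := a₂.inv.app ⊤ s
  have h1 : S.g.app ⊤ t = 0 := by
    refine Cohom.app_injective_of_mono a₃.hom ⊤ ?_
    refine Eq.trans ?_ (map_zero _).symm
    exact (congrArg (fun ψ : ClSub.quotMod (D * K) ⟶ ClSub.quotMod D => ψ.app ⊤ s) heq).trans (hφ' s hs)
  obtain ⟨k, hk⟩ := (IdealModSec.app_kernel S.g ⊤).2 t h1
  haveI : Subsingleton Γ(S.X₁, ⊤) :=
    (Cohom.app_injective_of_mono a₁.hom ⊤).subsingleton
  haveI : Subsingleton Γ((KernelFork.ofι S.f S.zero).pt, ⊤) := ‹Subsingleton Γ(S.X₁, ⊤)›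
  haveI : Subsingleton Γ(kernel S.g, ⊤) :=
    (Cohom.app_injective_of_mono (IsLimit.conePointUniqueUpToIso (kernelIsKernel S.g) hS.fIsKernel).hom ⊤).subsingleton
  rw [Subsingleton.elim k 0, map_zero] at hk
  exact Cohom.app_injective_of_mono a₂.inv ⊤ (hk.symm.trans (map_zero _).symm)

/-- The kernel sheaf of adding a curve has the sections of a line bundle on it. -/
theorem subsingleton_tensor_quot {W : Scheme.{u}} (i : W ⟶ X) [IsClosedImmersion i] (D : X.IdealSheafData)
    (hD : PicF.IsInvertible (ClSub.idealMod D))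
    (h : Subsingleton Γ((Scheme.Modules.pullback i).obj (ClSub.idealMod D), ⊤)) :
    Subsingleton Γ(((DCoh.tensorBi (X := X)).obj (ClSub.idealMod D)).obj (ClSub.quotMod i.ker), ⊤) := by
  have hlf := Euler.isFinLocFree_of_isInvertible hD
  haveI := ProjFormula.isIso_projHom i hlf (Coh.structureModule W)
  let c : ((DCoh.tensorBi (X := X)).obj (ClSub.idealMod D)).obj (ClSub.quotMod i.ker) ≅
      (Scheme.Modules.pushforward i).obj ((Scheme.Modules.pullback i).obj (ClSub.idealMod D)) :=
    ((DCoh.tensorBi (X := X)).obj (ClSub.idealMod D)).mapIso (pushUnitIsoQuot i).symm ≪≫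
      asIso (ProjFormula.projHom i (ClSub.idealMod D) (Coh.structureModule W)) ≪≫
      (Scheme.Modules.pushforward i).mapIso (Euler.tFUnitIso _)
  haveI : Subsingleton Γ((Scheme.Modules.pushforward i).obj ((Scheme.Modules.pullback i).obj (ClSub.idealMod D)), ⊤) := h
  exact (Cohom.app_injective_of_mono c.hom ⊤).subsingleton

/-- Line bundles of negative degree have no sections. -/
theorem subsingleton_of_deg_neg (k : Type u) [Field k] {Y : Scheme.{u}} [Y.Over (Spec (CommRingCat.of k))]
    [IsIntegral Y] [IsProper (Y ↘ Spec (CommRingCat.of k))] (hd : topologicalKrullDim Y ≤ 1)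
    {L : Y.Modules} (hL : PicF.IsInvertible L) (hneg : Curv2.deg k Y L 1 < 0) : Subsingleton Γ(L, ⊤) := by
  refine subsingleton_of_forall_eq 0 fun s => ?_
  by_contra hs
  have hne : (OX.ofTop s : Coh.structureModule Y ⟶ L) ≠ 0 := fun h => hs (by
    have e := OX.ofTop_app_top (X := Y) (N := L) s
    rw [h] at e
    exact e.symm)
  exact absurd (Euler.deg_of_section k hd hL hne).1 (not_le.2 hneg)

end General

variable {R : Type u} [CommRing R] [IsDomain R] [IsDiscreteValuationRing R]
  {X : Over (Spec (CommRingCat.of R))} [IsProper X.hom] [IsLocallyNoetherian X.left]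
  {r : ℕ} {Γ : Fin r → ArSurf.VertComp R X}
  (hE : ∀ j, _root_.BlowUp.IsEffCartierIdeal (Γ j).ι.ker)
  {L : Fin r → X.left.Modules} (hL : ∀ j, ClSub.IsInverseOf (L j) (ClSub.idealMod (Γ j).ι.ker))
include hE hL

/-- One step: adding a curve of positive intersection with the divisor so far. -/
theorem injective_step (c : Fin r → ℕ) (i : Fin r)
    (hpos : 0 < ∑ j, (c j : ℤ) * ArSurf.inter R X (L j) (Γ i))
    (hle : (∏ j, (Γ j).ι.ker ^ c j) * (Γ i).ι.ker ≤ ∏ j, (Γ j).ι.ker ^ c j) :
    Function.Injective (Scheme.IdealSheafData.inclusion hle).appTop := by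
  haveI := (Γ i).isClosedImmersion
  haveI := (Γ i).isIntegral
  haveI := isProper_curve (Γ i)
  choose h1 e1 using fun j => cls_idealMod_pow (hE j) (c j)
  obtain ⟨hD, eD⟩ := cls_idealMod_prod Finset.univ (fun j => (Γ j).ι.ker ^ c j) h1
  have hdeg : Curv2.deg (ResidueField R) (Γ i).curve.left
      ((Scheme.Modules.pullback (Γ i).ι).obj (ClSub.idealMod (∏ j, (Γ j).ι.ker ^ c j))) 1 < 0 := by
    rw [← inter_eq_deg (Γ i) hD, inter_eq_icl (Γ i) hD, eD, icl_prod]
    have key : ∀ j, icl (Γ i) (clsMod (h1 j)) = -((c j : ℤ) * ArSurf.inter R X (L j) (Γ i)) := fun j => by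
      have hLi := isInvertible_of_isInverseOf (hE j) (hL j)
      rw [e1, icl_pow, inter_eq_icl (Γ i) hLi,
        cls_of_isInverseOf hLi (IdealModSec.isInvertible_of_isEffCartier (hE j)) (hL j), icl_inv]
      ring
    simp only [key, Finset.sum_neg_distrib]
    linarith
  haveI := subsingleton_tensor_quot (Γ i).ι _ hD (subsingleton_of_deg_neg (ResidueField R) (Γ i).dim_eq.le
    (Kleiman.isInv_pullback (Γ i).ι hD) hdeg)
  exact injective_restriction _ _ hD (IdealModSec.isInvertible_of_isEffCartier (hE i)) hle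

/-- If every partial divisor can be enlarged by a step of positive intersection, functions are a field. -/
theorem exists_injective_to_component (a : Fin r → ℕ) (i₀ : Fin r) (hi₀ : 1 ≤ a i₀)
    (hchain : ∀ c : Fin r → ℕ, c ≤ a → c ≠ a → c ≠ 0 →
      ∃ i, c i < a i ∧ 0 < ∑ j, (c j : ℤ) * ArSurf.inter R X (L j) (Γ i)) :
    ∃ ρ : Γ((∏ j, (Γ j).ι.ker ^ a j).subscheme, ⊤) →+* Γ((Γ i₀).ι.ker.subscheme, ⊤), Function.Injective ρ ∧
      ∃ v : (Γ i₀).ι.ker.subscheme ⟶ (∏ j, (Γ j).ι.ker ^ a j).subscheme,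
        v ≫ (∏ j, (Γ j).ι.ker ^ a j).subschemeι = (Γ i₀).ι.ker.subschemeι ∧ ρ = v.appTop.hom := by
  classical
  let Z := fun c : Fin r → ℕ => ∏ j, (Γ j).ι.ker ^ c j
  -- every smaller divisor reachable from the component has injective restriction to it
  have main : ∀ m : ℕ, m + 1 ≤ ∑ j, a j → ∃ c : Fin r → ℕ, c ≤ a ∧ c ≠ 0 ∧ ∑ j, c j = m + 1 ∧
      ∃ v : (Γ i₀).ι.ker.subscheme ⟶ (Z c).subscheme,
        v ≫ (Z c).subschemeι = (Γ i₀).ι.ker.subschemeι ∧ Function.Injective v.appTop := by
    intro m hm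
    induction m with
    | zero =>
      refine ⟨Pi.single i₀ 1, fun j => ?_, fun h => one_ne_zero (α := ℕ) (by simpa using congrFun h i₀),
        by simp, ?_⟩
      · by_cases h : j = i₀
        · subst h; simpa using hi₀
        · simp [h]
      · have e : Z (Pi.single i₀ 1) = (Γ i₀).ι.ker := by
          simp only [Z]
          rw [Finset.prod_eq_single i₀ (fun j _ hj => by simp [hj]) (fun h => absurd (Finset.mem_univ _) h)]
          simp
        rw [e]
        exact ⟨𝟙 _, Category.id_comp _, fun _ _ h => h⟩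
    | succ m ih =>
      obtain ⟨c, hca, hc0, hsum, v, hv, hinj⟩ := ih (Nat.le_of_succ_le hm)
      have hne : c ≠ a := fun h => by subst h; omega
      obtain ⟨i, hi, hpos⟩ := hchain c hca hne hc0
      refine ⟨c + Pi.single i 1, fun j => ?_, fun h => absurd (congrFun h i) (by simp), ?_, ?_⟩
      · by_cases h : j = i
        · subst h
          simp only [Pi.add_apply, Pi.single_eq_same]
          omega
        · simpa [h] using hca j
      · simp [Finset.sum_add_distrib, hsum]
      · have e : Z (c + Pi.single i 1) = Z c * (Γ i).ι.ker := by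
          simp only [Z, Pi.add_apply, pow_add, Finset.prod_mul_distrib]
          rw [Finset.prod_eq_single (f := fun j => (Γ j).ι.ker ^ Pi.single (M := fun _ => ℕ) i 1 j) i
            (fun j _ hj => by simp [hj]) (fun h => absurd (Finset.mem_univ _) h)]
          simp
        have hle : Z c * (Γ i).ι.ker ≤ Z c := mul_le_left' _ _
        rw [e]
        refine ⟨v ≫ Scheme.IdealSheafData.inclusion hle, ?_, ?_⟩
        · rw [Category.assoc, Scheme.IdealSheafData.inclusion_subschemeι, hv]
        · rw [Scheme.Hom.comp_appTop]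
          exact hinj.comp (injective_step hE hL c i hpos hle)
  have htot : 1 ≤ ∑ j, a j := le_trans hi₀ (Finset.single_le_sum (fun j _ => Nat.zero_le (a j)) (Finset.mem_univ i₀))
  obtain ⟨c, hca, -, hsum, v, hv, hinj⟩ := main ((∑ j, a j) - 1) (by omega)
  have hceq : c = a := funext fun j => by
    refine le_antisymm (hca j) ?_
    by_contra h
    have := Finset.sum_lt_sum (fun j _ => hca j) ⟨j, Finset.mem_univ j, not_le.1 h⟩
    omega
  subst hceq
  exact ⟨v.appTop.hom, hinj, v, hv, rfl⟩

/-- The functions on such a divisor form a field. -/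
theorem isField_of_chain (a : Fin r → ℕ) (i₀ : Fin r) (hi₀ : 1 ≤ a i₀)
    (hchain : ∀ c : Fin r → ℕ, c ≤ a → c ≠ a → c ≠ 0 →
      ∃ i, c i < a i ∧ 0 < ∑ j, (c j : ℤ) * ArSurf.inter R X (L j) (Γ i)) :
    IsField Γ((∏ j, (Γ j).ι.ker ^ a j).subscheme, ⊤) := by
  obtain ⟨ρ, hρ, v, hv, hρv⟩ := exists_injective_to_component hE hL a i₀ hi₀ hchain
  haveI := (Γ i₀).isIntegral
  haveI : IsIntegral (Γ i₀).ι.ker.subscheme := isIntegral_kerSubscheme (Γ i₀)
  haveI : Nonempty (⊤ : (Γ i₀).ι.ker.subscheme.Opens) := ⟨⟨genericPoint _, trivial⟩⟩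
  let Z := (∏ j, (Γ j).ι.ker ^ a j)
  haveI : IsDomain Γ(Z.subscheme, ⊤) := Function.Injective.isDomain ρ hρ
  letI : Z.subscheme.Over (Spec (CommRingCat.of R)) := ⟨Z.subschemeι ≫ X.hom⟩
  haveI : IsProper (Z.subscheme ↘ Spec (CommRingCat.of R)) := inferInstanceAs (IsProper (Z.subschemeι ≫ X.hom))
  let φ : R →+* Γ(Z.subscheme, ⊤) := Coh.toGlobal (Z.subscheme ↘ Spec (CommRingCat.of R))
  letI : Algebra R Γ(Z.subscheme, ⊤) := φ.toAlgebra
  haveI := ProjCoh.moduleFinite_HH R (Coh.structureModule Z.subscheme) (HomSh.isCoh_structureModule Z.subscheme) 0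
  let e : Coh.HH Z.subscheme (Coh.structureModule Z.subscheme) 0 ≃ₗ[R] Γ(Z.subscheme, ⊤) :=
    { ProjCoh.H0top (Coh.structureModule Z.subscheme) with
      map_smul' := fun b x => (ProjCoh.H0top_smul (Coh.structureModule Z.subscheme) b x).trans
        (Algebra.smul_def (R := R) (A := Γ(Z.subscheme, ⊤)) b (ProjCoh.H0top (Coh.structureModule Z.subscheme) x)).symm }
  haveI : Module.Finite R Γ(Z.subscheme, ⊤) := Module.Finite.equiv e
  haveI : Algebra.IsIntegral R Γ(Z.subscheme, ⊤) := Algebra.IsIntegral.of_finite R _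
  -- the maximal ideal dies on the component
  obtain ⟨s, hs⟩ := exists_toResidueField (X := X) (D := (Γ i₀).ι.ker) (by
    rw [ker_eq (Γ i₀), ← Scheme.IdealSheafData.le_support_iff_le_vanishingIdeal]
    exact closure_minimal (Set.singleton_subset_iff.2 ((support_fibre (X := X)).ge (genPt_mem_fibre (Γ i₀))))
      (Models.specialFibreIdeal R X).support.isClosed)
  have hker : (⊥ : Ideal Γ(Z.subscheme, ⊤)).comap φ = maximalIdeal R := by
    refine le_antisymm (IsLocalRing.le_maximalIdeal ?_) fun b hb => ?_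
    · exact Ideal.comap_ne_top φ bot_ne_top
    · rw [Ideal.mem_comap, Ideal.mem_bot]
      refine hρ (Eq.trans ?_ (map_zero ρ).symm)
      rw [hρv]
      show (v.appTop) (((Z.subschemeι ≫ X.hom).appTop) ((Scheme.ΓSpecIso (CommRingCat.of R)).inv b)) = 0
      have h1 : v ≫ Z.subschemeι ≫ X.hom = s ≫ Spec.map (CommRingCat.ofHom (residue R)) := by
        rw [hs, ← Category.assoc, hv]
      refine ((congrArg (fun f => f.appTop ((Scheme.ΓSpecIso (CommRingCat.of R)).inv b)) h1) : _).trans ?_
      have h2 : (Spec.map (CommRingCat.ofHom (residue R))).appTop ((Scheme.ΓSpecIso (CommRingCat.of R)).inv b) = 0 := by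
        refine (ConcreteCategory.congr_hom (Scheme.ΓSpecIso_inv_naturality (CommRingCat.ofHom (residue R))) b).symm.trans ?_
        show (Scheme.ΓSpecIso (CommRingCat.of (ResidueField R))).inv ((residue R) b) = 0
        rw [residue_eq_zero_iff _ |>.2 hb, map_zero]
      rw [Scheme.Hom.comp_appTop]
      exact (congrArg s.appTop h2).trans (map_zero _)
  haveI : (⊥ : Ideal Γ(Z.subscheme, ⊤)).IsPrime := Ideal.isPrime_bot
  have hmax : (⊥ : Ideal Γ(Z.subscheme, ⊤)).IsMaximal :=
    Ideal.isMaximal_of_isIntegral_of_isMaximal_comap (R := R) ⊥ (by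
      show ((⊥ : Ideal Γ(Z.subscheme, ⊤)).comap φ).IsMaximal
      rw [hker]; infer_instance)
  by_contra hnf
  obtain ⟨I, h0, h1⟩ := Ring.not_isField_iff_exists_ideal_bot_lt_and_lt_top.1 hnf
  exact h0.ne (hmax.eq_of_le h1.ne h0.le)

end GrothLib.ArSurf29
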