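import Groth.Agent.Lib.ArSurf29.Sections
import Groth.Agent.Lib.ArSurf29.NoSection
import Groth.Agent.Lib.Seesaw26.Criterion
import Groth.Agent.Lib.ArSurf29.EulerVert
import Groth.Agent.Lib.ArSurf29.Points

/-!
# Generically trivial invertible modules of degree zero on every component of a reduced closed fibre
-/

set_option autoImplicit false
set_option linter.all false
set_option backward.isDefEq.respectTransparency false

universe u

open CategoryTheory CategoryTheory.Limits AlgebraicGeometry TopologicalSpace IsLocalRing Opposite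

noncomputable section

namespace GrothLib.ArSurf29

open GrothLib.InvExt (mres fres IsGen)
open GrothLib.QCoh (stalkLin)

variable {R : Type u} [CommRing R] [IsDomain R] [IsDiscreteValuationRing R]
  {X : Over (Spec (CommRingCat.of R))} {M : X.left.Modules}

/-- A global section generates at a point. -/
def GenAt (M : X.left.Modules) (t : Γ(M, ⊤)) (x : X.left) : Prop :=
  Ref1.Gen M x (M.presheaf.germ ⊤ x trivial t)

theorem genAt_iff {t : Γ(M, ⊤)} {V : X.left.Opens} {e : Γ(M, V)} (he : IsGen M V e) {a : Γ(X.left, V)}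
    (ha : mres M le_top t = a • e) {x : X.left} (hx : x ∈ V) :
    GenAt M t x ↔ IsUnit (X.left.presheaf.germ V x hx a) := by
  have hg : M.presheaf.germ ⊤ x trivial t = X.left.presheaf.germ V x hx a • M.presheaf.germ V x hx e := by
    rw [← TopCat.Presheaf.germ_res_apply M.presheaf (homOfLE (le_top : V ≤ ⊤)) x hx t]
    exact (congrArg (M.presheaf.germ V x hx) ha).trans (Mero.germ_smul _ _ _ _ _ _)
  have hG := Ref1.gen_of_isGen he hx
  rw [GenAt, hg]
  constructor
  · intro h
    obtain ⟨c, hc⟩ := h.2 (M.presheaf.germ V x hx e)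
    dsimp only at hc
    rw [← mul_smul] at hc
    refine IsUnit.of_mul_eq_one c ?_
    rw [mul_comm]
    exact hG.1 (hc.trans (one_smul _ _).symm)
  · intro hu
    show Function.Bijective fun b => b • (X.left.presheaf.germ V x hx a • M.presheaf.germ V x hx e)
    have : (fun b => b • (X.left.presheaf.germ V x hx a • M.presheaf.germ V x hx e)) =
        (fun b => b • M.presheaf.germ V x hx e) ∘ fun b => b * X.left.presheaf.germ V x hx a :=
      funext fun b => (mul_smul _ _ _).symm
    rw [this]
    exact hG.comp (IsUnit.isUnit_iff_mulRight_bijective.1 hu)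

variable [IsProper X.hom] [IsLocallyNoetherian X.left] (hM : PicF.IsInvertible M)
include hM

theorem exists_local_coeff (t : Γ(M, ⊤)) (x : X.left) :
    ∃ (V : X.left.Opens) (e : Γ(M, V)) (a : Γ(X.left, V)), x ∈ V ∧ IsGen M V e ∧ mres M le_top t = a • e := by
  obtain ⟨V, e, hxV, he⟩ := InvExt.exists_gen_nhd hM x
  obtain ⟨a, ha⟩ := he.exists_smul_eq le_rfl (mres M le_top t)
  rw [InvExt.mres_self] at ha
  exact ⟨V, e, a, hxV, he, ha⟩

/-- A section of degree zero generates everywhere or nowhere on a curve. -/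
theorem curve_dichotomy (Γ : ArSurf.VertComp R X) (hdeg : ArSurf.inter R X M Γ = 0) (t : Γ(M, ⊤)) :
    (∀ z, GenAt M t (Γ.ι z)) ∨ ∀ z, ¬ GenAt M t (Γ.ι z) := by
  haveI := Γ.isIntegral
  haveI := isProper_curve Γ
  let s' := BCCoh.pullRes Γ.ι M ⊤ ⊤ le_top t
  have hloc : ∀ (z : Γ.curve.left) (V : X.left.Opens) (e : Γ(M, V)) (a : Γ(X.left, V)) (hz : Γ.ι z ∈ V),
      IsGen M V e → mres M le_top t = a • e → ∃ G, Ref1.Gen ((Scheme.Modules.pullback Γ.ι).obj M) z G ∧
        ((Scheme.Modules.pullback Γ.ι).obj M).presheaf.germ ⊤ z trivial s' =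
          Γ.ι.stalkMap z (X.left.presheaf.germ V (Γ.ι z) hz a) • G := by
    intro z V e a hz he ha
    refine ⟨_, Ref1.gen_of_isGen (Seesaw26.isGen_pullRes Γ.ι hM he (Γ.ι ⁻¹ᵁ V) le_rfl) (hz : z ∈ Γ.ι ⁻¹ᵁ V), ?_⟩
    rw [← TopCat.Presheaf.germ_res_apply ((Scheme.Modules.pullback Γ.ι).obj M).presheaf
      (homOfLE (le_top : Γ.ι ⁻¹ᵁ V ≤ ⊤)) z hz s',
      BCCoh.pullRes_res Γ.ι M (le_top : V ≤ ⊤) le_top le_rfl le_top t]
    rw [show M.presheaf.map (homOfLE (le_top : V ≤ ⊤)).op t = a • e from ha, BCCoh.pullRes_smul]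
    refine (Mero.germ_smul _ _ _ _ _ _).trans ?_
    congr 1
    rw [Scheme.Hom.germ_stalkMap_apply, Scheme.Hom.appLE]
    simp
  by_cases hs : s' = 0
  · refine .inr fun z hz => ?_
    obtain ⟨V, e, a, hxV, he, ha⟩ := exists_local_coeff hM t (Γ.ι z)
    obtain ⟨G, hG, hgs⟩ := hloc z V e a hxV he ha
    have hu := ((genAt_iff he ha hxV).1 hz).map (Γ.ι.stalkMap z).hom
    rw [hs, map_zero, ← zero_smul (Γ.curve.left.presheaf.stalk z) G] at hgs
    exact hu.ne_zero (hG.1 hgs.symm)
  · refine .inl fun z => ?_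
    have hMi := Kleiman.isInv_pullback Γ.ι hM
    letI : Γ.curve.left.Over (Spec (CommRingCat.of (ResidueField R))) := ⟨Γ.curve.hom⟩
    haveI : IsProper (Γ.curve.left ↘ Spec (CommRingCat.of (ResidueField R))) := isProper_curve Γ
    let φ := FinCov.homOfSection s'
    have hφ1 : φ.app ⊤ (FinCov.one Γ.curve.left ⊤) = s' := by
      rw [FinCov.homOfSection_one]
      exact InvExt.mres_self _ s'
    have hne : φ ≠ 0 := fun h => hs (by
      rw [← hφ1, h]; rfl)
    have hiso : IsIso φ := (Euler.deg_of_section (ResidueField R) Γ.dim_eq.le hMi hne).2 (by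
      rw [← inter_eq_deg Γ hM, hdeg])
    have hgs' : IsGen ((Scheme.Modules.pullback Γ.ι).obj M) ⊤ s' := by
      rw [← hφ1]
      exact VA.isGen_map_iso φ (TensorGen.isGen_one (X := Γ.curve.left) ⊤)
    obtain ⟨V, e, a, hxV, he, ha⟩ := exists_local_coeff hM t (Γ.ι z)
    obtain ⟨G, hG, hgs⟩ := hloc z V e a hxV he ha
    rw [genAt_iff he ha hxV]
    refine isUnit_of_map_unit (Γ.ι.stalkMap z).hom _ ?_
    have hG' := Ref1.gen_of_isGen hgs' (x := z) trivial
    rw [hgs] at hG'
    obtain ⟨c, hc⟩ := hG'.2 G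
    dsimp only at hc
    rw [← mul_smul] at hc
    refine IsUnit.of_mul_eq_one c ?_
    rw [mul_comm]
    exact hG.1 (hc.trans (one_smul _ _).symm)

omit hM in
/-- Through every point of the closed fibre passes a vertical curve. -/
theorem exists_vertComp_through
    (hcomp : ∀ Z ∈ irreducibleComponents ↥(Models.specialFibreSet R X), topologicalKrullDim Z = 1)
    {x : X.left} (hx : x ∈ Models.specialFibreSet R X) :
    ∃ (Γ : ArSurf.VertComp R X) (η : X.left), η ∈ Models.specialFibreSet R X ∧
      (∀ y ∈ Models.specialFibreSet R X, y ⤳ η → y = η) ∧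
      x ∈ Set.range (Γ.ι.base : Γ.curve.left → X.left) ∧ Set.range (Γ.ι.base : Γ.curve.left → X.left) = closure {η} := by
  let Fs := Models.specialFibreSet R X
  have hFc : IsClosed Fs := Models.isClosed_specialFibreSet R X
  let Z := irreducibleComponent (⟨x, hx⟩ : Fs)
  let Z' : Set X.left := Subtype.val '' Z
  have hZc : IsClosed Z' := hFc.isClosedEmbedding_subtypeVal.isClosedMap _ isClosed_irreducibleComponent
  have hZi : IsIrreducible Z' := isIrreducible_irreducibleComponent.image _ continuous_subtype_val.continuousOn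
  obtain ⟨η, hη⟩ := QuasiSober.sober hZi hZc
  have hηF : η ∈ Fs := by
    obtain ⟨⟨y, hy⟩, -, rfl⟩ : η ∈ Z' := hη.mem
    exact hy
  have hmax : ∀ y ∈ Fs, y ⤳ η → y = η := by
    intro y hy hyη
    have h1 : Z ⊆ closure {(⟨y, hy⟩ : Fs)} := fun z hz => by
      rw [← specializes_iff_mem_closure]
      exact Topology.IsInducing.subtypeVal.specializes_iff.1 (hyη.trans (hη.specializes ⟨z, hz, rfl⟩))
    have h2 : closure {(⟨y, hy⟩ : Fs)} = Z :=
      ((irreducibleComponent_mem_irreducibleComponents (⟨x, hx⟩ : Fs)).eq_of_subset isIrreducible_singleton.closure h1).symm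
    have h3 : (⟨y, hy⟩ : Fs) ∈ Z := h2 ▸ subset_closure rfl
    exact (hyη.antisymm (hη.specializes ⟨_, h3, rfl⟩)).eq
  have hcl : closure {η} = Z' := hη
  have hle : Models.specialFibreIdeal R X ≤ ptIdeal η := by
    rw [ptIdeal, ← Scheme.IdealSheafData.le_support_iff_le_vanishingIdeal]
    exact closure_minimal (Set.singleton_subset_iff.2 ((support_fibre (X := X)).ge hηF))
      (Models.specialFibreIdeal R X).support.isClosed
  obtain ⟨s, hs⟩ := exists_toResidueField hle
  have hrange : Set.range ((ptIdeal η).subschemeι.base : (ptIdeal η).subscheme → X.left) = closure {η} :=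
    (Scheme.IdealSheafData.range_subschemeι _).trans (support_ptIdeal η)
  have hdim : topologicalKrullDim (ptIdeal η).subscheme = 1 := by
    rw [← hcomp Z (irreducibleComponent_mem_irreducibleComponents _)]
    exact (((ptIdeal η).subschemeι.isClosedEmbedding.isEmbedding.toHomeomorph).trans
      ((Homeomorph.setCongr (hrange.trans hcl)).trans
        (((Topology.IsEmbedding.subtypeVal.comp Topology.IsEmbedding.subtypeVal).toHomeomorph.trans
            (Homeomorph.setCongr (by
              rw [Set.range_comp, Subtype.range_coe])) : ↥Z ≃ₜ ↥Z').symm))).isHomeomorph.topologicalKrullDim_eq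
  exact ⟨⟨Over.mk s, (ptIdeal η).subschemeι, inferInstance, inferInstanceAs (IsIntegral (ptIdeal η).subscheme), hdim, hs.symm⟩,
    η, hηF, hmax, hrange.ge (hcl.ge ⟨⟨x, hx⟩, mem_irreducibleComponent, rfl⟩), hrange⟩

variable [Flat X.hom]

/-- A section vanishing on the whole closed fibre is a multiple of the uniformiser. -/
theorem exists_div {π : R} (hπ : Irreducible π)
    (hred : ∀ x ∈ Models.specialFibreSet R X, (Ideal.span {Models.stalkHom R X x π}).IsRadical)
    (t : Γ(M, ⊤)) (ht : ∀ x ∈ Models.specialFibreSet R X, ¬ GenAt M t x) :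
    ∃ t' : Γ(M, ⊤), (show Γ(X.left, ⊤) from Coh.toGlobal X.hom π) • t' = t := by
  classical
  let p₀ : Γ(X.left, ⊤) := Coh.toGlobal X.hom π
  have hreg : ∀ x : X.left, Models.stalkHom R X x π ∈ nonZeroDivisors (X.left.presheaf.stalk x) := by
    intro x
    obtain ⟨γ, hγ, hF⟩ := CartierDescent.exists_stalk_generator (isEffCartier_fibre (X := X)) x
    rw [st_fibre, hπ.maximalIdeal_eq, Ideal.map_span, Set.image_singleton] at hF
    have hmem : γ ∈ Ideal.span {Models.stalkHom R X x π} := hF ▸ Ideal.mem_span_singleton_self γ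
    obtain ⟨c, hc⟩ := Ideal.mem_span_singleton'.1 hmem
    exact (mul_mem_nonZeroDivisors.1 (hc ▸ hγ)).2
  have hgermp : ∀ (W : X.left.Opens) (x : X.left) (hx : x ∈ W),
      X.left.presheaf.germ W x hx (fres X.left le_top p₀) = Models.stalkHom R X x π := fun W x hx =>
    TopCat.Presheaf.germ_res_apply X.left.presheaf (homOfLE (le_top : W ≤ ⊤)) x hx p₀
  have huniq : ∀ (W : X.left.Opens) (u v : Γ(M, W)), fres X.left (le_top : W ≤ ⊤) p₀ • u = fres X.left (le_top : W ≤ ⊤) p₀ • v → u = v := by
    intro W u v huv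
    refine TopCat.Presheaf.section_ext ⟨M.presheaf, M.isSheaf⟩ W u v fun x hx => ?_
    obtain ⟨V, e, hxV, he⟩ := InvExt.exists_gen_nhd hM x
    have hG := Ref1.gen_of_isGen he hxV
    obtain ⟨cu, hcu⟩ := hG.2 (M.presheaf.germ W x hx u)
    obtain ⟨cv, hcv⟩ := hG.2 (M.presheaf.germ W x hx v)
    have h := congrArg (M.presheaf.germ W x hx) huv
    rw [Mero.germ_smul, Mero.germ_smul, hgermp, ← hcu, ← hcv, ← mul_smul, ← mul_smul] at h
    have h2 := hG.1 h
    show M.presheaf.germ W x hx u = M.presheaf.germ W x hx v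
    rw [← hcu, ← hcv, (mul_cancel_left_mem_nonZeroDivisors (hreg x)).1 h2]
  have hlocal : ∀ x : X.left, ∃ (W : X.left.Opens) (u : Γ(M, W)), x ∈ W ∧ fres X.left (le_top : W ≤ ⊤) p₀ • u = mres M le_top t := by
    intro x
    obtain ⟨V, e, a, hxV, he, ha⟩ := exists_local_coeff hM t x
    have hax : X.left.presheaf.germ V x hxV a ∈ Ideal.span {Models.stalkHom R X x π} := by
      by_cases hxF : x ∈ Models.specialFibreSet R X
      · refine hred x hxF ?_
        rw [Ideal.radical_eq_sInf, Ideal.mem_sInf]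
        rintro P ⟨hle, hP⟩
        haveI := hP
        obtain ⟨y, hy, hPy, -⟩ := CartierDescent.exists_specializes_eq x P
        have hyV := hy.mem_open V.2 hxV
        have hyF : y ∈ Models.specialFibreSet R X := by
          refine (support_fibre (X := X)).le ?_
          by_contra hyn
          have h1 := (CartierDescent.stalkIdeal_eq_top_iff (Models.specialFibreIdeal R X) y).2 hyn
          rw [← CartierDescent.stalkIdeal_map_specializes _ hy, st_fibre, hπ.maximalIdeal_eq, Ideal.map_span, Set.image_singleton] at h1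
          have h2 : Ideal.map (X.left.presheaf.stalkSpecializes hy).hom (Ideal.span {Models.stalkHom R X x π}) ≤
              maximalIdeal (X.left.presheaf.stalk y) := by
            rw [Ideal.map_le_iff_le_comap, ← hPy]; exact hle
          rw [h1] at h2
          exact (maximalIdeal.isMaximal _).ne_top (eq_top_iff.2 h2)
        rw [hPy, Ideal.mem_comap]
        intro hu
        refine ht y hyF ((genAt_iff he ha hyV).2 ?_)
        rw [← TopCat.Presheaf.germ_stalkSpecializes_apply X.left.presheaf hxV hy a]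
        exact hu
      · have h1 := (CartierDescent.stalkIdeal_eq_top_iff (Models.specialFibreIdeal R X) x).2 (fun h => hxF ((support_fibre (X := X)).le h))
        rw [st_fibre, hπ.maximalIdeal_eq, Ideal.map_span, Set.image_singleton] at h1
        rw [h1]; trivial
    obtain ⟨c, hc⟩ := Ideal.mem_span_singleton'.1 hax
    obtain ⟨U, hxU, c, rfl⟩ := TopCat.Presheaf.exists_germ_eq X.left.presheaf c
    have hc' : X.left.presheaf.germ (U ⊓ V) x ⟨hxU, hxV⟩ (fres X.left inf_le_left c * fres X.left le_top p₀) =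
        X.left.presheaf.germ (U ⊓ V) x ⟨hxU, hxV⟩ (fres X.left inf_le_right a) := by
      rw [map_mul, hgermp]
      rw [TopCat.Presheaf.germ_res_apply, TopCat.Presheaf.germ_res_apply]
      exact hc
    obtain ⟨W, hxW, i₁, i₂, heq⟩ := TopCat.Presheaf.germ_eq (U := U ⊓ V) (V := U ⊓ V) X.left.presheaf x ⟨hxU, hxV⟩ ⟨hxU, hxV⟩ _ _ hc'
    have hWU : W ≤ U := i₁.le.trans inf_le_left
    have hWV : W ≤ V := i₁.le.trans inf_le_right
    refine ⟨W, fres X.left hWU c • mres M hWV e, hxW, ?_⟩
    have heq' : fres X.left le_top p₀ * fres X.left hWU c = fres X.left hWV a := by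
      rw [mul_comm]
      have h := heq
      change fres X.left i₁.le (fres X.left inf_le_left c * fres X.left le_top p₀) = fres X.left i₂.le (fres X.left inf_le_right a) at h
      simp only [fres, map_mul] at h
      simp only [fres]
      rw [← ConcreteCategory.comp_apply, ← ConcreteCategory.comp_apply, ← ConcreteCategory.comp_apply,
        ← Functor.map_comp, ← Functor.map_comp, ← Functor.map_comp] at h
      exact h
    rw [← mul_smul, heq', ← InvExt.mres_smul, ← ha, InvExt.mres_mres]
  choose W u hxW hu using hlocal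
  have hcov : (⊤ : X.left.Opens) ≤ ⨆ x, W x := fun x _ => Opens.mem_iSup.2 ⟨x, hxW x⟩
  obtain ⟨t', ht', -⟩ := TopCat.Sheaf.existsUnique_gluing' (X := X.left.carrier) ⟨M.presheaf, M.isSheaf⟩ W ⊤
    (fun x => homOfLE le_top) hcov u (fun x y => by
      refine huniq (W x ⊓ W y) (mres M inf_le_left (u x)) (mres M inf_le_right (u y)) ?_
      have h1 := congrArg (mres M (inf_le_left : W x ⊓ W y ≤ W x)) (hu x)
      have h2 := congrArg (mres M (inf_le_right : W x ⊓ W y ≤ W y)) (hu y)
      rw [InvExt.mres_smul, InvExt.fres_fres, InvExt.mres_mres] at h1 h2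
      exact h1.trans h2.symm)
  refine ⟨t', TopCat.Presheaf.section_ext ⟨M.presheaf, M.isSheaf⟩ ⊤ _ _ fun x _ => ?_⟩
  show M.presheaf.germ ⊤ x trivial (p₀ • t') = M.presheaf.germ ⊤ x trivial t
  have h1 := congrArg (M.presheaf.germ (W x) x (hxW x)) (hu x)
  rw [Mero.germ_smul, hgermp, ← ht' x] at h1
  rw [Mero.germ_smul]
  refine Eq.trans ?_ (h1.trans (TopCat.Presheaf.germ_res_apply M.presheaf _ x (hxW x) t))
  exact congrArg _ (TopCat.Presheaf.germ_res_apply M.presheaf _ x (hxW x) t').symm

variable {C : Scheme.{u}} {f : C ⟶ Spec (CommRingCat.of (FractionRing R))}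
  {g : C ⟶ X.left} (hg : IsPullback g f X.hom (Spec.map (CommRingCat.ofHom (algebraMap R (FractionRing R)))))
include hg

/-- A section generating generically, not vanishing on the whole closed fibre. -/
theorem exists_primitive_section {π : R} (hπ : Irreducible π)
    (hred : ∀ x ∈ Models.specialFibreSet R X, (Ideal.span {Models.stalkHom R X x π}).IsRadical)
    (htriv : Nonempty ((Scheme.Modules.pullback g).obj M ≅ Coh.structureModule C))
    (hne : (Models.specialFibreSet R X).Nonempty) :
    ∃ t : Γ(M, ⊤), (∀ x ∉ Models.specialFibreSet R X, GenAt M t x) ∧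
      ∃ x ∈ Models.specialFibreSet R X, GenAt M t x := by
  classical
  obtain ⟨s, hs⟩ := exists_section_gen hg hM htriv
  let t₀ : Γ(M, ⊤) := s.app ⊤ (FinCov.one X.left ⊤)
  have hgen0 : ∀ x ∉ Models.specialFibreSet R X, GenAt M t₀ x := fun x hx => by
    have h := hs x hx
    have hval : stalkLin s x (HomSh.unitStalk x 1) = M.presheaf.germ ⊤ x trivial t₀ := by
      show stalkLin s x ((1 : X.left.presheaf.stalk x) • (Coh.structureModule X.left).presheaf.germ ⊤ x trivial (FinCov.one X.left ⊤)) = _
      rw [one_smul, QCoh.stalkLin_germ]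
    rwa [hval] at h
  obtain ⟨x₀, hx₀⟩ := hne
  obtain ⟨V₀, e₀, hxV₀, he₀⟩ := InvExt.exists_gen_nhd hM x₀
  have hG := Ref1.gen_of_isGen he₀ hxV₀
  -- the coefficient at `x₀` divides a power of the uniformiser
  have main : ∀ (N : ℕ) (t : Γ(M, ⊤)), (∀ x ∉ Models.specialFibreSet R X, GenAt M t x) →
      ∀ c, c • M.presheaf.germ V₀ x₀ hxV₀ e₀ = M.presheaf.germ ⊤ x₀ trivial t →
        c ∣ Models.stalkHom R X x₀ π ^ N →
        ∃ t : Γ(M, ⊤), (∀ x ∉ Models.specialFibreSet R X, GenAt M t x) ∧
          ∃ x ∈ Models.specialFibreSet R X, GenAt M t x := by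
    intro N
    induction N with
    | zero =>
      intro t ht c hc hdvd
      refine ⟨t, ht, x₀, hx₀, ?_⟩
      rw [pow_zero] at hdvd
      have hu := isUnit_of_dvd_one hdvd
      rw [GenAt, ← hc]
      show Function.Bijective fun b => b • (c • M.presheaf.germ V₀ x₀ hxV₀ e₀)
      rw [show (fun b => b • (c • M.presheaf.germ V₀ x₀ hxV₀ e₀)) =
          (fun b => b • M.presheaf.germ V₀ x₀ hxV₀ e₀) ∘ fun b => b * c from funext fun b => (mul_smul _ _ _).symm]
      exact hG.comp (IsUnit.isUnit_iff_mulRight_bijective.1 hu)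
    | succ N ih =>
      intro t ht c hc hdvd
      by_cases hall : ∀ x ∈ Models.specialFibreSet R X, ¬ GenAt M t x
      · obtain ⟨t', ht'⟩ := exists_div hM hπ hred t hall
        obtain ⟨c', hc'⟩ := hG.2 (M.presheaf.germ ⊤ x₀ trivial t')
        dsimp only at hc'
        have hgp : ∀ x, M.presheaf.germ ⊤ x trivial t = Models.stalkHom R X x π • M.presheaf.germ ⊤ x trivial t' := fun x => by
          rw [← ht', Mero.germ_smul]; rfl
        have hcc : c = Models.stalkHom R X x₀ π * c' := hG.1 (by
          dsimp only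
          rw [hc, mul_smul, hc', hgp])
        refine ih t' (fun x hx => ?_) c' hc' ?_
        · have h := ht x hx
          rw [GenAt, hgp] at h
          have h1 := (CartierDescent.stalkIdeal_eq_top_iff (Models.specialFibreIdeal R X) x).2 (fun h => hx ((support_fibre (X := X)).le h))
          rw [st_fibre, hπ.maximalIdeal_eq, Ideal.map_span, Set.image_singleton, Ideal.span_singleton_eq_top] at h1
          show Function.Bijective fun b => b • M.presheaf.germ ⊤ x trivial t'
          refine (Function.Bijective.of_comp_iff _ (IsUnit.isUnit_iff_mulRight_bijective.1 h1)).1 ?_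
          rw [show ((fun b => b • M.presheaf.germ ⊤ x trivial t') ∘ fun b => b * Models.stalkHom R X x π) =
            fun b => b • (Models.stalkHom R X x π • M.presheaf.germ ⊤ x trivial t') from funext fun b => mul_smul _ _ _]
          exact h
        · obtain ⟨d, hd⟩ := hdvd
          refine ⟨d, ?_⟩
          obtain ⟨γ, hγ, hF⟩ := CartierDescent.exists_stalk_generator (isEffCartier_fibre (X := X)) x₀
          rw [st_fibre, hπ.maximalIdeal_eq, Ideal.map_span, Set.image_singleton] at hF
          obtain ⟨w, hw⟩ := Ideal.mem_span_singleton'.1 (hF ▸ Ideal.mem_span_singleton_self γ : γ ∈ Ideal.span {Models.stalkHom R X x₀ π})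
          refine (mul_cancel_left_mem_nonZeroDivisors (mul_mem_nonZeroDivisors.1 (hw ▸ hγ)).2).1 ?_
          rw [← pow_succ', hd, hcc, mul_assoc]
      · push Not at hall
        exact ⟨t, ht, hall⟩
  obtain ⟨c₀, hc₀⟩ := hG.2 (M.presheaf.germ ⊤ x₀ trivial t₀)
  dsimp only at hc₀
  -- the zero locus of the coefficient lies in the closed fibre
  have hrad : Models.stalkHom R X x₀ π ∈ (Ideal.span {c₀}).radical := by
    rw [Ideal.radical_eq_sInf, Ideal.mem_sInf]
    rintro P ⟨hle, hP⟩
    haveI := hP
    by_contra hnP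
    obtain ⟨y, hy, hPy, -⟩ := CartierDescent.exists_specializes_eq x₀ P
    have hyV := hy.mem_open V₀.2 hxV₀
    have hyF : y ∉ Models.specialFibreSet R X := fun hyF => by
      apply hnP
      rw [hPy, Ideal.mem_comap]
      have hy' := (support_fibre (X := X)).ge hyF
      have h1 : CartierDescent.stalkIdeal (Models.specialFibreIdeal R X) y ≠ ⊤ := fun h =>
        (CartierDescent.stalkIdeal_eq_top_iff _ y).1 h hy'
      refine IsLocalRing.le_maximalIdeal h1 ?_
      rw [← CartierDescent.stalkIdeal_map_specializes _ hy, st_fibre]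
      exact Ideal.mem_map_of_mem _ (Ideal.mem_map_of_mem _ (hπ.maximalIdeal_eq ▸ Ideal.mem_span_singleton_self π))
    have hgy := hgen0 y hyF
    have hval : M.presheaf.germ ⊤ y trivial t₀ = (X.left.presheaf.stalkSpecializes hy).hom c₀ • M.presheaf.germ V₀ y hyV e₀ := by
      rw [← Ref1.sp_germ M hy hxV₀ e₀, ← Ref1.sp_germ M hy (show x₀ ∈ (⊤ : X.left.Opens) from trivial) t₀]
      exact (congrArg _ hc₀.symm).trans (Ref1.sp_smul _ _ _ _)
    rw [GenAt, hval] at hgy
    obtain ⟨d, hd⟩ := hgy.2 (M.presheaf.germ V₀ y hyV e₀)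
    dsimp only at hd
    rw [← mul_smul] at hd
    have hu : IsUnit ((X.left.presheaf.stalkSpecializes hy).hom c₀) := IsUnit.of_mul_eq_one d (by
      rw [mul_comm]
      exact (Ref1.gen_of_isGen he₀ hyV).1 (hd.trans (one_smul _ _).symm))
    have : c₀ ∈ P := hle (Ideal.mem_span_singleton_self c₀)
    rw [hPy, Ideal.mem_comap] at this
    exact this hu
  obtain ⟨N, hN⟩ := hrad
  exact main N t₀ hgen0 c₀ hc₀ (Ideal.mem_span_singleton.1 hN)

/-- Degree zero on every vertical curve and trivial on the generic fibre forces triviality. -/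
theorem nonempty_iso_structure_of_deg_zero {π : R} (hπ : Irreducible π)
    (hred : ∀ x ∈ Models.specialFibreSet R X, (Ideal.span {Models.stalkHom R X x π}).IsRadical)
    (hcomp : ∀ Z ∈ irreducibleComponents ↥(Models.specialFibreSet R X), topologicalKrullDim Z = 1)
    (hconn : _root_.IsConnected (Models.specialFibreSet R X))
    (htriv : Nonempty ((Scheme.Modules.pullback g).obj M ≅ Coh.structureModule C))
    (hdeg : ∀ Γ : ArSurf.VertComp R X, ArSurf.inter R X M Γ = 0) :
    Nonempty (M ≅ Coh.structureModule X.left) := by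
  classical
  obtain ⟨t, ht, x₀, hx₀, hx₀t⟩ := exists_primitive_section hM hg hπ hred htriv hconn.nonempty
  haveI : CompactSpace X.left := QuasiCompact.compactSpace_of_compactSpace X.hom
  haveI : IsNoetherian X.left := {}
  let S := {η : X.left | IsMaxPt (X := X) η}
  have hS : S.Finite := finite_isMaxPt
  have hcov : ∀ x ∈ Models.specialFibreSet R X, ∃ η ∈ S, x ∈ closure {η} ∧
      (GenAt M t η → ∀ y ∈ closure ({η} : Set X.left), GenAt M t y) ∧
      (∀ y ∈ closure ({η} : Set X.left), GenAt M t y → GenAt M t η) := by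
    intro x hx
    obtain ⟨Γ, η, hηF, hmax, hxΓ, hrange⟩ := exists_vertComp_through hcomp hx
    refine ⟨η, ⟨hηF, hmax⟩, hrange.le hxΓ, fun hη y hy => ?_, fun y hy hyt => ?_⟩ <;>
      obtain ⟨z, rfl⟩ := hrange.ge hy <;> obtain ⟨z', hz'⟩ := hrange.ge (subset_closure (Set.mem_singleton η))
    · exact (curve_dichotomy hM Γ (hdeg Γ) t).elim (fun h => h z) fun h => absurd (hz' ▸ hη) (h z')
    · exact hz' ▸ (curve_dichotomy hM Γ (hdeg Γ) t).elim (fun h => h z') fun h => absurd hyt (h z)
  let A : Set X.left := ⋃ η ∈ {η ∈ S | GenAt M t η}, closure {η}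
  let B : Set X.left := ⋃ η ∈ {η ∈ S | ¬ GenAt M t η}, closure {η}
  have hAc : IsClosed A := (hS.subset fun _ h => h.1).isClosed_biUnion fun _ _ => isClosed_closure
  have hBc : IsClosed B := (hS.subset fun _ h => h.1).isClosed_biUnion fun _ _ => isClosed_closure
  have hF : Models.specialFibreSet R X ⊆ A ∪ B := fun x hx => by
    obtain ⟨η, hη, hxη, -⟩ := hcov x hx
    by_cases h : GenAt M t η
    · exact .inl (Set.mem_biUnion ⟨hη, h⟩ hxη)
    · exact .inr (Set.mem_biUnion ⟨hη, h⟩ hxη)
  have hkey : ∀ η ∈ S, (GenAt M t η → ∀ y ∈ closure ({η} : Set X.left), GenAt M t y) ∧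
      (∀ y ∈ closure ({η} : Set X.left), GenAt M t y → GenAt M t η) := fun η hη => by
    obtain ⟨η', hη', hmem, h1, h2⟩ := hcov η hη.1
    obtain rfl : η' = η := hη.2 η' hη'.1 (specializes_iff_mem_closure.2 hmem)
    exact ⟨h1, h2⟩
  have hAB : ∀ y, y ∈ A → y ∈ B → False := fun y hyA hyB => by
    obtain ⟨η, ⟨hη, hηt⟩, hy⟩ := Set.mem_iUnion₂.1 hyA
    obtain ⟨η', ⟨hη', hη't⟩, hy'⟩ := Set.mem_iUnion₂.1 hyB
    exact hη't ((hkey η' hη').2 y hy' ((hkey η hη).1 hηt y hy))
  have hAne : (Models.specialFibreSet R X ∩ A).Nonempty := by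
    obtain ⟨η, hη, hxη, -, h2⟩ := hcov x₀ hx₀
    exact ⟨x₀, hx₀, Set.mem_biUnion ⟨hη, h2 x₀ hxη hx₀t⟩ hxη⟩
  have hall : ∀ x, GenAt M t x := by
    intro x
    by_cases hx : x ∈ Models.specialFibreSet R X
    · have hxA : x ∈ A := by
        rcases hF hx with h | h
        · exact h
        · obtain ⟨y, -, hyA, hyB⟩ := isPreconnected_closed_iff.1 hconn.isPreconnected A B hAc hBc hF hAne ⟨x, hx, h⟩
          exact (hAB y hyA hyB).elim
      obtain ⟨η, ⟨hη, hηt⟩, hy⟩ := Set.mem_iUnion₂.1 hxA
      exact (hkey η hη).1 hηt x hy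
    · exact ht x hx
  have hgen : IsGen M ⊤ t := by
    refine InvExt.isGen_of_cover (fun x : X.left => (exists_local_coeff hM t x).choose ⊓
        X.left.basicOpen (exists_local_coeff hM t x).choose_spec.choose_spec.choose) (fun x => le_top) (fun x _ => ?_) fun x => ?_
    · refine Opens.mem_iSup.2 ⟨x, ?_⟩
      obtain ⟨hxV, he, ha⟩ := (exists_local_coeff hM t x).choose_spec.choose_spec.choose_spec
      exact ⟨hxV, (Scheme.mem_basicOpen _ _ _ hxV).2 ((genAt_iff he ha hxV).1 (hall x))⟩
    · obtain ⟨hxV, he, ha⟩ := (exists_local_coeff hM t x).choose_spec.choose_spec.choose_spec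
      set V := (exists_local_coeff hM t x).choose
      set a := (exists_local_coeff hM t x).choose_spec.choose_spec.choose
      have h := congrArg (mres M (inf_le_left : V ⊓ X.left.basicOpen a ≤ V)) ha
      rw [InvExt.mres_mres, InvExt.mres_smul] at h
      rw [h]
      refine (he.restrict inf_le_left).smul_unit ?_
      have hu := RingedSpace.isUnit_res_basicOpen X.left.toRingedSpace a
      have hu2 := hu.map (X.left.presheaf.map (homOfLE (inf_le_right : V ⊓ X.left.basicOpen a ≤ X.left.basicOpen a)).op).hom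
      refine (congrArg IsUnit ?_).mp hu2
      show X.left.presheaf.map _ (X.left.presheaf.map _ a) = X.left.presheaf.map _ a
      rw [← ConcreteCategory.comp_apply, ← Functor.map_comp]
      rfl
  let φ := FinCov.homOfSection t
  have hsurj : ∀ x, Function.Bijective (stalkLin φ x) := fun x => by
    have hv : stalkLin φ x (HomSh.unitStalk x 1) = M.presheaf.germ ⊤ x trivial t := by
      show stalkLin φ x ((1 : X.left.presheaf.stalk x) • (Coh.structureModule X.left).presheaf.germ ⊤ x trivial (FinCov.one X.left ⊤)) = _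
      rw [one_smul, QCoh.stalkLin_germ, FinCov.homOfSection_one]
      exact congrArg _ (InvExt.mres_self M t)
    refine (Function.Bijective.of_comp_iff _ (HomSh.unitStalk x).bijective).1 ?_
    rw [show (stalkLin φ x) ∘ (HomSh.unitStalk x) = fun a => a • M.presheaf.germ ⊤ x trivial t from funext fun a => by
      show stalkLin φ x (HomSh.unitStalk x a) = _
      rw [← hv, ← map_smul, ← map_smul, smul_eq_mul, mul_one]]
    exact Ref1.gen_of_isGen hgen trivial
  haveI : ∀ x, IsIso ((OX.stalk x).map φ) := fun x => (ConcreteCategory.isIso_iff_bijective _).2 (hsurj x)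
  haveI : IsIso φ := (OX.isIso_iff φ).2 inferInstance
  exact ⟨(asIso φ).symm⟩

end GrothLib.ArSurf29
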