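import Groth.Agent.Lib.ArSurf29.MinimalEngine
import Groth.Agent.Lib.ArSurf29.ContractedNegDef

/-!
# Minimal desingularizations of normal surfaces
-/

universe u

set_option autoImplicit false
set_option linter.all false
set_option backward.isDefEq.respectTransparency false

open CategoryTheory CategoryTheory.Limits AlgebraicGeometry TopologicalSpace IsLocalRing

noncomputable section

namespace GrothLib.ArSurf29

variable {R : Type u} [CommRing R] [IsDomain R] [IsDiscreteValuationRing R]

/-- The structure of a regular proper flat integral surface over `R`. -/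
structure IsSData (Z : Scheme.{u}) (q : Z ⟶ Spec (CommRingCat.of R)) : Prop where
  proper : IsProper q
  flat : Flat q
  reg : Models.IsRegularScheme Z
  integral : IsIntegral Z
  dim : topologicalKrullDim Z = 2

theorem IsSData.isNoetherian {Z : Scheme.{u}} {q : Z ⟶ Spec (CommRingCat.of R)} (h : IsSData Z q) :
    IsNoetherian Z := by
  haveI := h.proper
  exact { toIsLocallyNoetherian := LocallyOfFiniteType.isLocallyNoetherian q,
          toCompactSpace := QuasiCompact.compactSpace_of_compactSpace q }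

theorem isSData_of_isArithSurface {X : Over (Spec (CommRingCat.of R))} (h : ArSurf.IsArithSurface R X) :
    IsSData X.left X.hom :=
  ⟨isProper_of_isArithSurface h, h.2.2.2.1, h.1, h.2.1, h.2.2.1⟩

/-- A birational proper morphism does not raise the dimension of surfaces. -/
theorem dim_eq_two_of_birational {W Z : Scheme.{u}} [IsIntegral W] [IsIntegral Z] [IsNoetherian Z] (s : W ⟶ Z)
    [IsProper s] (V : Z.Opens) (hV : (V : Set Z).Nonempty) (hiso : IsIso (s ∣_ V))
    (hdim : topologicalKrullDim Z = 2) : topologicalKrullDim W = 2 := by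
  haveI := hiso
  obtain ⟨w₀, hw₀⟩ := hV
  obtain ⟨z₀, hz₀⟩ := (s ∣_ V).homeomorph.surjective ⟨w₀, hw₀⟩
  haveI : IsOpenImmersion ((s ⁻¹ᵁ V).ι ≫ s) := by rw [← morphismRestrict_ι]; infer_instance
  obtain ⟨e, -⟩ := Birat.birational_of_openImmersion s ⟨s ⁻¹ᵁ V, ⟨_, z₀.2⟩, ‹_›⟩
  have hηV : genericPoint Z ∈ V := (genericPoint_specializes w₀).mem_open V.isOpen hw₀
  refine le_antisymm ?_ ?_
  · rw [GrothLib.AlgSp.topologicalKrullDim_eq_iSup_stalk]
    refine iSup_le fun x => ?_
    obtain ⟨n, hn, -⟩ := GrothLib.Altitude.exists_trdeg_eq_dim_closure s x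
    obtain ⟨m, hm, hmdim⟩ := GrothLib.Altitude.exists_trdeg_eq_dim_closure s (genericPoint W)
    have hm0 : m = 0 := by
      haveI : Subsingleton (s.fiber (s (genericPoint W))) := ⟨fun a b => by
        refine (s.fiberι _).isEmbedding.injective ?_
        have ha := (s.range_fiberι _).le ⟨a, rfl⟩
        have hb := (s.range_fiberι _).le ⟨b, rfl⟩
        exact injective_over_open s V (show s _ ∈ V by rw [show s _ = s (genericPoint W) from ha, e]; exact hηV)
          (Eq.trans ha (Eq.symm hb))⟩
      haveI : Subsingleton ↥(closure {s.asFiber (genericPoint W)} : Set (s.fiber (s (genericPoint W)))) :=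
        ⟨fun a b => Subtype.ext (Subsingleton.elim _ _)⟩
      have h0 := topologicalKrullDim_zero_of_discreteTopology
        ↥(closure {s.asFiber (genericPoint W)} : Set (s.fiber (s (genericPoint W))))
      rw [hmdim] at h0
      exact Nat.le_zero.1 (by exact_mod_cast h0)
    have hcomp : ∀ ξ : W, closure {ξ} ∈ irreducibleComponents ↥W → ξ = genericPoint W := fun ξ hξ => by
      rw [irreducibleComponents_eq_singleton, Set.mem_singleton_iff] at hξ
      exact (genericPoint_spec W).eq hξ |>.symm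
    have h := GrothLib.DimFormula.ringKrullDim_stalk_add_trdeg_le s x n 0 hn fun ξ hξ _ => by
      rw [hcomp ξ hξ, hm, hm0]
    refine le_trans (le_add_of_nonneg_right (by simp)) (h.trans ?_)
    simp only [Nat.cast_zero, add_zero]
    exact (GrothLib.Ref1.ringKrullDim_stalk_le_topologicalKrullDim _).trans hdim.le
  · have hsurj : Function.Surjective s := fun p => s.isClosedMap.isClosed_range.closure_subset_iff.2
      (Set.singleton_subset_iff.2 ⟨_, rfl⟩) (specializes_iff_mem_closure.1 (e.symm ▸ genericPoint_specializes p :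
        s (genericPoint W) ⤳ p))
    exact hdim.ge.trans (AlgSp.topologicalKrullDim_le_of_specializingMap s.continuous
      s.isClosedMap.specializingMap hsurj)

/-- The source of a contraction sequence over a surface is a surface, isomorphic to it off the closed fibre. -/
theorem sdata_seq {W Z : Scheme.{u}} {r : W ⟶ Z} (hr : Models.IsContractionSeq r)
    {q : Z ⟶ Spec (CommRingCat.of R)} (hZ : IsSData Z q) :
    IsSData W (r ≫ q) ∧ IsProper r ∧ ∀ V : Z.Opens, (∀ z ∈ V, q z ≠ closedPoint R) → IsIso (r ∣_ V) := by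
  haveI := hZ.integral; haveI := hZ.isNoetherian
  haveI := hZ.proper; haveI := hZ.flat
  haveI : Flat (Over.mk q).hom := hZ.flat
  haveI : IsProper (Over.mk q).hom := hZ.proper
  let base := Spec.map (CommRingCat.ofHom (algebraMap R (FractionRing R)))
  let f := pullback.snd q base
  let g := pullback.fst q base
  have hpb : IsPullback g f q base := IsPullback.of_hasPullback q base
  haveI : IsOpenImmersion g := isOpenImmersion_generic (X := Over.mk q) hpb
  have hη : genericPoint Z ∈ Set.range g := by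
    haveI : IsIntegral (Over.mk q).left := hZ.integral
    exact (range_generic (X := Over.mk q) hpb).ge (genericPoint_notMem_fibre' (X := Over.mk q))
  haveI : Nonempty ↥(pullback q base) := ⟨hη.choose⟩
  haveI : IsIntegral (pullback q base) := isIntegral_of_isOpenImmersion g
  have hD : IsMData f Z q g := ⟨hZ.proper, hZ.flat, hZ.reg, hpb⟩
  obtain ⟨g', hW, hg'⟩ := mdata_seq hr hD
  haveI := hW.isIntegral; haveI := hW.proper; haveI := hW.isNoetherian
  haveI : IsProper r := IsProper.of_comp r q
  haveI := isIso_restrict_opensRange (isPullback_of_hom hD hW r rfl hg')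
  refine ⟨⟨hW.proper, hW.flat, hW.reg, hW.isIntegral,
    dim_eq_two_of_birational r g.opensRange ⟨_, hη⟩ inferInstance hZ.dim⟩, inferInstance, fun V hV => ?_⟩
  refine GrothLib.Nagata6.isIso_restrict_of_le r g.opensRange V fun z hz => ?_
  exact (range_generic (X := Over.mk q) hpb).ge (hV z hz)

variable {X : Scheme.{u}} {p : X ⟶ Spec (CommRingCat.of R)}
  {Y : Over (Spec (CommRingCat.of R))} [IsIntegral Y.left] [IsProper Y.hom]
  {g : X ⟶ Y.left}

/-- Over a surface without contracted exceptional curves, exceptional curves contracted to a normal surface are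
contracted. -/
theorem contracted_of_seq_normal (hN : ∀ y, IsIntegrallyClosed (Y.left.presheaf.stalk y))
    (hdimY : topologicalKrullDim Y.left = 2) (V : Y.left.Opens) (hV : (V : Set Y.left).Nonempty)
    (hVη : ∀ y ∈ V, Y.hom y ≠ closedPoint R) (hiso : IsIso (g ∣_ V)) (hX : IsSData X p) (hg : g ≫ Y.hom = p)
    (hexc : ∀ (E : Scheme.{u}) (ι : E ⟶ X) [IsClosedImmersion ι], Models.IsExcCurve ι →
      ¬ ∃ y : Y.left, Set.range (ι ≫ g) = {y})
    {W X₀ : Scheme.{u}} {s : W ⟶ X₀} (hs : Models.IsContractionSeq s) :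
    ∀ (e₀ : X₀ = X) {E : Scheme.{u}} (ι : E ⟶ W) [IsClosedImmersion ι], Models.IsExcCurve ι →
      (∃ y : Y.left, Set.range (ι ≫ s ≫ eqToHom e₀ ≫ g) = {y}) → ∃ x, Set.range (ι ≫ s) = {x} := by
  induction hs with
  | @iso A B e =>
    intro e₀ E ι _ hE hy
    exfalso
    subst e₀
    haveI := hX.isNoetherian
    haveI : IsIso (e.hom ∣_ (⊤ : B.Opens)) := inferInstance
    refine hexc E (ι ≫ e.hom) (isExcCurve_comp_of_iso_over ι e.hom ⊤ (fun _ => trivial) hE) ?_
    simpa using hy
  | @step A Z B G γ b r hγ hG hb hr ih =>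
    intro e₀ E ι _ hE hy
    haveI := hγ
    subst e₀
    rw [eqToHom_refl, Category.id_comp] at hy
    obtain ⟨hZ, hrp, hriso⟩ := sdata_seq hr hX
    obtain ⟨hA, hbrp, hbriso⟩ := sdata_seq (Models.IsContractionSeq.step γ b r hγ hG hb hr) hX
    obtain ⟨-, hbp, y₁, hy₁, hrange, hyreg, hd, hblow⟩ := hb
    haveI := hbp; haveI := hyreg; haveI := hrp; haveI := hbrp
    haveI := hZ.isNoetherian
    haveI := hA.isNoetherian
    haveI := hA.integral
    let AA : Over (Spec (CommRingCat.of R)) := Over.mk ((b ≫ r) ≫ p)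
    haveI : IsProper AA.hom := hA.proper
    haveI : Flat AA.hom := hA.flat
    haveI : IsLocallyNoetherian AA.left := inferInstanceAs (IsLocallyNoetherian A)
    haveI : IsIntegral AA.left := hA.integral
    let u : AA ⟶ Y := Over.homMk ((b ≫ r) ≫ g) (by
      show ((b ≫ r) ≫ g) ≫ Y.hom = (b ≫ r) ≫ p
      rw [Category.assoc, hg])
    have hisou : IsIso (u.left ∣_ V) := by
      show IsIso (((b ≫ r) ≫ g) ∣_ V)
      haveI := hiso
      haveI := hbriso (g ⁻¹ᵁ V) fun z hz => by
        rw [← hg]
        exact hVη _ hz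
      rw [morphismRestrict_comp]
      infer_instance
    obtain ⟨y, hy⟩ := hy
    have hyu : ∀ w, u.left (ι w) = y := fun w => hy.le ⟨w, rfl⟩
    haveI : IsProper g := by
      haveI : IsProper (g ≫ Y.hom) := hg ▸ hX.proper
      exact IsProper.of_comp g Y.hom
    have hycl : IsClosed ({y} : Set Y.left) := by
      rw [← hy]
      haveI : IsProper (b ≫ r ≫ g) := inferInstance
      exact (ι ≫ (b ≫ r) ≫ g).isClosedMap.isClosed_range |> fun h => by simpa using h
    have hys : Y.hom y = closedPoint R := by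
      have h := Y.hom.isClosedMap _ hycl
      rw [Set.image_singleton] at h
      exact (IsLocalRing.specializes_closedPoint (Y.hom y)).mem_closed h rfl |>.symm
    have hy₁s : (r ≫ p) y₁ = closedPoint R := by
      haveI := hZ.proper
      have h := (r ≫ p).isClosedMap _ hy₁
      rw [Set.image_singleton] at h
      exact (IsLocalRing.specializes_closedPoint _).mem_closed h rfl |>.symm
    have hγu : ∀ w, u.left (γ w) = g (r y₁) := fun w => by
      show g (r (b (γ w))) = _
      rw [show b (γ w) = y₁ from hrange.le ⟨w, rfl⟩]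
    have hfγ : ∀ w, AA.hom (γ w) = closedPoint R := fun w => by
      show (r ≫ p) (b (γ w)) = _
      rw [show b (γ w) = y₁ from hrange.le ⟨w, rfl⟩]
      exact hy₁s
    have hfι : ∀ w, AA.hom (ι w) = closedPoint R := fun w => by
      rw [← Over.w u, Scheme.Hom.comp_apply, hyu w]
      exact hys
    obtain ⟨F, hF, hFr⟩ := exists_vertComp_of_excCurve (X := AA) γ hG hfγ
    obtain ⟨H, hH, hHr⟩ := exists_vertComp_of_excCurve (X := AA) ι hE hfι
    by_cases hsame : Set.range ι = Set.range γ
    · refine ⟨r y₁, Set.Subset.antisymm ?_ ?_⟩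
      · rintro _ ⟨w, rfl⟩
        obtain ⟨v, hv⟩ := hsame.le ⟨w, rfl⟩
        show r (b (ι w)) ∈ ({r y₁} : Set B)
        rw [show ι w = γ v from hv.symm, show b (γ v) = y₁ from hrange.le ⟨v, rfl⟩]
        rfl
      · rintro _ rfl
        obtain ⟨v, hv⟩ := hrange.ge (rfl : y₁ = y₁)
        obtain ⟨w, hw⟩ := hsame.ge ⟨v, rfl⟩
        refine ⟨w, ?_⟩
        show r (b (ι w)) = r y₁
        rw [show ι w = γ v from hw, show b (γ v) = y₁ from hv]
    obtain ⟨n, L₀, hL₀⟩ := exists_componentList (X := AA) hA.dim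
    obtain ⟨L, hL⟩ := exists_inverses (X := AA) hA.reg hL₀
    obtain ⟨i, hi⟩ := exists_genPt_eq hL₀ F
    obtain ⟨j, hj⟩ := exists_genPt_eq hL₀ H
    have hri := (range_vertComp_eq _ _ hi).trans hFr
    have hrj := (range_vertComp_eq _ _ hj).trans hHr
    haveI := (L₀ i).isClosedImmersion
    haveI := (L₀ i).isIntegral
    haveI := (L₀ j).isClosedImmersion
    haveI := (L₀ j).isIntegral
    haveI := F.isClosedImmersion
    haveI := F.isIntegral
    haveI := H.isClosedImmersion
    haveI := H.isIntegral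
    have hei : Models.IsExcCurve (L₀ i).ι := isExcCurve_of_range_eq F.ι _ hF (hri.trans hFr.symm)
    have hej : Models.IsExcCurve (L₀ j).ι := isExcCurve_of_range_eq H.ι _ hH (hrj.trans hHr.symm)
    have hij : i ≠ j := fun e => hsame (by subst e; exact hrj.symm.trans hri)
    have hdisj : Disjoint (Set.range ι) (Set.range γ) := by
      have h := (excCurves_disjoint_of_contracted u hN hdimY V hV hisou hA.reg hL₀ hL i j hij hei hej
        ⟨g (r y₁), fun z => by obtain ⟨w, hw⟩ := hri.le ⟨z, rfl⟩; rw [← hw]; exact hγu w⟩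
        ⟨y, fun z => by obtain ⟨w, hw⟩ := hrj.le ⟨z, rfl⟩; rw [← hw]; exact hyu w⟩).symm
      rw [Set.disjoint_left] at h ⊢
      exact fun a h1 h2 => h (hrj.ge h1) (hri.ge h2)
    obtain ⟨-, k, _, e, -⟩ := id hG
    have hfibre := GrothLib.ExcP1.range_eq_fibre hy₁ hd hblow γ k e hrange
    let O : Z.Opens := ⟨{y₁}ᶜ, hy₁.isOpen_compl⟩
    haveI : IsIso (b ∣_ O) := by
      have h := GrothLib.BlowUp.isIso_off_center hblow
      rwa [show (Scheme.IdealSheafData.vanishingIdeal (⟨{y₁}, hy₁⟩ : Closeds Z)).support.compl = O from Opens.ext (by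
        show ((Scheme.IdealSheafData.vanishingIdeal (⟨{y₁}, hy₁⟩ : Closeds Z)).support : Set Z)ᶜ = {y₁}ᶜ
        rw [Scheme.IdealSheafData.coe_support_vanishingIdeal]
        rfl)] at h
    have hO : ∀ w, b (ι w) ∈ O := fun w (hw : b (ι w) = y₁) =>
      Set.disjoint_left.1 hdisj ⟨w, rfl⟩ (hfibre.ge hw)
    haveI := isClosedImmersion_comp_of_iso_over ι b O hO
    obtain ⟨x, hx⟩ := ih rfl (ι ≫ b) (isExcCurve_comp_of_iso_over ι b O hO hE)
      ⟨y, by rw [eqToHom_refl, Category.id_comp]; simpa [Category.assoc] using hy⟩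
    exact ⟨x, by simpa [Category.assoc] using hx⟩

/-- Maps to a surface without contracted exceptional curves descend along contractions. -/
theorem exists_desc_normal (hN : ∀ y, IsIntegrallyClosed (Y.left.presheaf.stalk y))
    (hdimY : topologicalKrullDim Y.left = 2) (V : Y.left.Opens) (hV : (V : Set Y.left).Nonempty)
    (hVη : ∀ y ∈ V, Y.hom y ≠ closedPoint R) (hiso : IsIso (g ∣_ V)) (hX : IsSData X p) (hg : g ≫ Y.hom = p)
    (hexc : ∀ (E : Scheme.{u}) (ι : E ⟶ X) [IsClosedImmersion ι], Models.IsExcCurve ι →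
      ¬ ∃ y : Y.left, Set.range (ι ≫ g) = {y})
    {W X' : Scheme.{u}} {r : W ⟶ X'} (hr : Models.IsContractionSeq r) :
    ∀ {q : X' ⟶ Spec (CommRingCat.of R)}, IsSData X' q → ∀ (g' : X' ⟶ Y.left), g' ≫ Y.hom = q →
      IsIso (g' ∣_ V) → ∀ (h : W ⟶ X), h ≫ g = r ≫ g' → ∃ h' : X' ⟶ X, h' ≫ g = g' := by
  induction hr with
  | @iso A B e =>
    intro q hB g' hg' _ h hh
    exact ⟨e.inv ≫ h, by rw [Category.assoc, hh, e.inv_hom_id_assoc]⟩
  | @step A Z B G γ b r hγ hG hb hr ih =>
    intro q hB g' hg' hiso' h hh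
    haveI := hγ
    obtain ⟨hA, hbrp, hbriso⟩ := sdata_seq (Models.IsContractionSeq.step γ b r hγ hG hb hr) hB
    obtain ⟨hZ, hrp, -⟩ := sdata_seq hr hB
    haveI := hA.isNoetherian; haveI := hA.integral
    haveI := hX.isNoetherian; haveI := hX.integral
    haveI := hX.proper
    haveI : IsProper g := by
      haveI : IsProper (g ≫ Y.hom) := hg ▸ hX.proper
      exact IsProper.of_comp g Y.hom
    have hhp : h ≫ p = (b ≫ r) ≫ q := by rw [← hg, ← hg', reassoc_of% hh]; simp
    haveI : IsProper h := by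
      haveI : IsProper (h ≫ p) := hhp ▸ hA.proper
      exact IsProper.of_comp h p
    haveI hih : IsIso (h ∣_ (g ⁻¹ᵁ V)) := by
      have h1 : IsIso (((b ≫ r) ≫ g') ∣_ V) := by
        haveI := hbriso (g' ⁻¹ᵁ V) fun z hz => by
          rw [← hg']
          exact hVη _ hz
        haveI := hiso'
        rw [morphismRestrict_comp]
        infer_instance
      rw [← hh, morphismRestrict_comp] at h1
      haveI := h1
      haveI := hiso
      exact IsIso.of_isIso_comp_right (h ∣_ (g ⁻¹ᵁ V)) (g ∣_ V)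
    have hne : ((g ⁻¹ᵁ V : X.Opens) : Set X).Nonempty := by
      haveI := hiso
      obtain ⟨w, hw⟩ := hV
      obtain ⟨z, -⟩ := (g ∣_ V).homeomorph.surjective ⟨w, hw⟩
      exact ⟨_, z.2⟩
    have hseq : Models.IsContractionSeq h :=
      GrothLib.ExcP1.isContractionSeq_of_birational hA.reg hA.dim.le _ hX.reg h (g ⁻¹ᵁ V) hne hih le_rfl
    obtain ⟨-, hbp, y, hy, hrange, hyreg, hd, hblow⟩ := id hb
    haveI := hyreg
    haveI := hZ.isNoetherian
    obtain ⟨x, hx⟩ := contracted_of_seq_normal hN hdimY V hV hVη hiso hX hg hexc hseq rfl γ hG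
      ⟨g' (r y), by
        rw [eqToHom_refl, Category.id_comp, hh]
        refine Set.Subset.antisymm ?_ ?_
        · rintro _ ⟨w, rfl⟩
          show g' (r (b (γ w))) ∈ ({g' (r y)} : Set Y.left)
          rw [show b (γ w) = y from hrange.le ⟨w, rfl⟩]
          rfl
        · rintro _ rfl
          obtain ⟨w, hw⟩ := hrange.ge (rfl : y = y)
          exact ⟨w, show g' (r (b (γ w))) = _ by rw [show b (γ w) = y from hw]⟩⟩
    obtain ⟨-, k, _, e, -⟩ := id hG
    have hfibre := GrothLib.ExcP1.range_eq_fibre hy hd hblow γ k e hrange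
    obtain ⟨e₀, he₀⟩ : ∃ a, (γ ≫ b) a = y := hrange.ge rfl
    have hφ : ∀ a, b a = y → h a = x := fun a ha => by
      obtain ⟨w, hw⟩ : a ∈ Set.range γ := hfibre.ge ha
      exact hx.le ⟨w, congrArg h hw⟩
    obtain ⟨ψ, hψ, -⟩ := GrothLib.ExcP1.existsUnique_factor hy hd hblow h x ⟨γ e₀, he₀⟩ hφ
    have huniq := GrothLib.ExcP1.existsUnique_factor hy hd hblow (h ≫ g) (g x) ⟨γ e₀, he₀⟩ fun a ha =>
      congrArg g (hφ a ha)
    exact ih hB g' hg' hiso' ψ (huniq.unique (by show b ≫ ψ ≫ g = _; rw [reassoc_of% hψ])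
      (by show b ≫ r ≫ g' = _; rw [hh, Category.assoc]))

end GrothLib.ArSurf29
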