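import Groth.Prelude.Def_Canon
import Groth.Agent.Lib.Euler.Vanish
import Groth.Agent.Lib.DirImg8.Hom
import Groth.Agent.Lib.K0Sub.Localization
import Groth.Agent.Lib.ProjCoh.Generic

/-!
# A dualizing module of a proper scheme over a domain extends over finitely many torsion points
-/

set_option autoImplicit false
set_option linter.all false
set_option backward.isDefEq.respectTransparency false

universe u

open CategoryTheory CategoryTheory.Limits AlgebraicGeometry TopologicalSpace Opposite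

noncomputable section

namespace GrothLib.ArSurf29

open GrothLib.QCoh (stalkLin)

variable {R : Type u} [CommRing R] [IsDomain R] {X : Scheme.{u}} [X.Over (Spec (CommRingCat.of R))]

theorem dual_restrict_bijective [IsNoetherian X] (ω : X.Modules) (tr : Coh.HH X ω 1 →ₗ[R] R)
    (hω : Canon.IsRDualOver R X 1 ω tr) (U : X.Opens) (hfin : ((U : Set X)ᶜ).Finite)
    (hcl : ∀ x : X, x ∉ U → IsClosed ({x} : Set X)) (π : R) (hπ : π ≠ 0)
    (hZ : ∀ x : X, x ∉ U → x ∉ X.basicOpen (show Γ(X, ⊤) from Coh.toGlobal (X ↘ Spec (CommRingCat.of R)) π))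
    (V : X.Opens) :
    Function.Bijective (ω.presheaf.map (homOfLE (inf_le_left : V ⊓ U ≤ V)).op).hom := by
  haveI : ω.IsQuasicoherent := hω.1
  let G : X.Modules := (Scheme.Modules.pushforward U.ι).obj ((Scheme.Modules.restrictFunctor U.ι).obj ω)
  haveI : ((Scheme.Modules.restrictFunctor U.ι).obj ω).IsQuasicoherent := inferInstance
  haveI hG : G.IsQuasicoherent := K0Sub.isQuasicoherent_push_open U.ι _
  let ι : ω ⟶ G := (Scheme.Modules.restrictAdjunction U.ι).unit.app ω
  have hbij : ∀ T ≤ U, Function.Bijective (ι.app T) := fun T hT => Euler.unit_app_bijective ω U hT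
  -- the kernel
  haveI := QCoh.isQuasicoherent_kernel ι
  have hKs : CohB1.support (kernel ι) ⊆ (U : Set X)ᶜ := fun x hx hxU =>
    QCoh.notMem_support_kernel_of_injective ι (Euler.stalkLin_bijective_of_app_bijective ι hxU hbij).1 hx
  haveI hH1K : Subsingleton (Coh.HH X (kernel ι) 1) :=
    Euler.subsingleton_HH_of_finite_support _ (hfin.subset hKs) (fun x hx => hcl x (hKs hx)) 1 le_rfl
  haveI hmono : Mono ι := by
    refine Preadditive.mono_of_kernel_zero ((hω.2 (kernel ι) inferInstance).1 (LinearMap.ext fun x => ?_))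
    rw [Subsingleton.elim x 0, map_zero, map_zero]
  -- the cokernel
  haveI := QCoh.isQuasicoherent_cokernel ι
  have hQs : CohB1.support (cokernel ι) ⊆ (U : Set X)ᶜ := fun x hx hxU =>
    QCoh.notMem_support_cokernel_of_surjective ι (Euler.stalkLin_bijective_of_app_bijective ι hxU hbij).2 hx
  haveI hH1Q : Subsingleton (Coh.HH X (cokernel ι) 1) :=
    Euler.subsingleton_HH_of_finite_support _ (hfin.subset hQs) (fun x hx => hcl x (hQs hx)) 1 le_rfl
  let S : ShortComplex X.Modules := ShortComplex.mk ι (cokernel.π ι) (cokernel.condition ι)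
  have hS : S.ShortExact := { exact := ShortComplex.exact_cokernel ι }
  -- global sections of the cokernel are torsion
  have htors : ∀ q : Coh.HH X (cokernel ι) 0, ∃ r : R, r ≠ 0 ∧ r • q = 0 := by
    intro q
    let g : Γ(X, ⊤) := Coh.toGlobal (X ↘ Spec (CommRingCat.of R)) π
    let Q := cokernel ι
    let s : Γ(Q, ⊤) := ProjCoh.H0top Q q
    have hloc : ∀ x : X, ∃ n : ℕ, Q.presheaf.germ ⊤ x trivial (g ^ n • s) = 0 := by
      intro x
      obtain ⟨W, hW, hxW, -⟩ := exists_isAffineOpen_mem_and_subset (show x ∈ (⊤ : X.Opens) from trivial)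
      let gW : Γ(X, W) := X.presheaf.map (homOfLE le_top).op g
      let sW : Γ(Q, W) := Q.presheaf.map (homOfLE le_top).op s
      obtain ⟨n, hn⟩ := DirImg8.exists_pow_smul_eq_zero hW Q gW sW (by
        refine QCoh.section_eq_zero_of_germ Q _ fun v hv => ?_
        have : Subsingleton (Q.presheaf.stalk v) := QCoh.stalk_subsingleton_of_notMem fun hvQ => by
          have h2 : v ∈ X.basicOpen g := by
            have := hv
            rw [Scheme.basicOpen_res] at this
            exact this.2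
          exact hZ v (hQs hvQ) h2
        exact Subsingleton.elim _ _)
      refine ⟨n, ?_⟩
      rw [← QCoh.germ_map Q (homOfLE (le_top : W ≤ ⊤)) hxW (g ^ n • s), Scheme.Modules.map_smul, map_pow]
      show Q.presheaf.germ W x hxW (gW ^ n • sW) = 0
      rw [hn, map_zero]
    choose n hn using hloc
    let N := hfin.toFinset.sup n
    refine ⟨π ^ N, pow_ne_zero _ hπ, (ProjCoh.H0top Q).injective ?_⟩
    rw [ProjCoh.H0top_smul, map_zero, map_pow]
    show g ^ N • s = 0
    refine QCoh.section_eq_zero_of_germ Q _ fun x hx => ?_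
    by_cases hxU : x ∈ U
    · have : Subsingleton (Q.presheaf.stalk x) := QCoh.stalk_subsingleton_of_notMem fun h => hQs h hxU
      exact Subsingleton.elim _ _
    · have hle : n x ≤ N := Finset.le_sup (hfin.mem_toFinset.2 hxU)
      rw [← Nat.sub_add_cancel hle, pow_add, mul_smul]
      refine (PresheafOfModules.germ_smul Q.val x ⊤ trivial (g ^ (N - n x)) (g ^ n x • s)).trans ?_
      exact (congrArg (X.presheaf.germ ⊤ x trivial (g ^ (N - n x)) • ·) (hn x)).trans (smul_zero _)
  -- forms on `H¹(ω)` extend to `H¹(G)`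
  obtain ⟨l, hl⟩ : ∃ l : Coh.HH X G 1 →ₗ[R] R, ∀ x, l (Cohom.hhMap R ι 1 x) = tr x := by
    have hsurj : Function.Surjective (Cohom.hhMap R ι 1) := fun y =>
      (Cohom.exact₂ hS 1 y).1 (Subsingleton.elim (α := Coh.HH X (cokernel ι) 1) _ _)
    have hker : LinearMap.ker (Cohom.hhMap R ι 1) ≤ LinearMap.ker tr := by
      intro x hx
      obtain ⟨q, rfl⟩ := (Cohom.exact₁ (A := R) hS 0 x).1 hx
      obtain ⟨r, hr, hrq⟩ := htors q
      rw [LinearMap.mem_ker]
      have h := congrArg (fun y => tr (Cohom.hhDelta R hS 0 y)) hrq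
      simp only [map_smul, map_zero, smul_eq_mul, mul_eq_zero] at h
      exact h.resolve_left hr
    refine ⟨(LinearMap.ker (Cohom.hhMap R ι 1)).liftQ tr hker ∘ₗ
      ((Cohom.hhMap R ι 1).quotKerEquivOfSurjective hsurj).symm.toLinearMap, fun x => ?_⟩
    simp
  obtain ⟨ρ, hρ⟩ := (hω.2 G hG).2 l
  have hιρ : ι ≫ ρ = 𝟙 ω := by
    refine (hω.2 ω hω.1).1 (LinearMap.ext fun x => ?_)
    show tr (Canon.HHlin R (ι ≫ ρ) 1 x) = tr (Canon.HHlin R (𝟙 ω) 1 x)
    have h1 : Canon.HHlin R (ι ≫ ρ) 1 x = Canon.HHlin R ρ 1 (Cohom.hhMap R ι 1 x) :=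
      Euler.hhMap_comp ι ρ 1 x
    have h2 : Canon.HHlin R (𝟙 ω) 1 x = x := Euler.hhMap_id (A := R) ω 1 x
    rw [h1, h2, ← hl x]
    exact congr($hρ (Cohom.hhMap R ι 1 x))
  -- conclusion
  let res := fun (a : Γ(ω, V)) => ω.presheaf.map (homOfLE (inf_le_left : V ⊓ U ≤ V)).op a
  let resG := fun (a : Γ(G, V)) => G.presheaf.map (homOfLE (inf_le_left : V ⊓ U ≤ V)).op a
  have hretr : ∀ (T : X.Opens) (a : Γ(ω, T)), ρ.app T (ι.app T a) = a := fun T a => by
    rw [← ConcreteCategory.comp_apply, ← Scheme.Modules.Hom.comp_app, hιρ]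
    rfl
  have hnat : ∀ a : Γ(ω, V), ι.app (V ⊓ U) (res a) = resG (ι.app V a) := fun a =>
    PresheafOfModules.naturality_apply ι.val _ a
  have hGbij : Function.Bijective resG := by
    have key : ∀ (A B : (U : Scheme.{u}).Opens) (h : A ≤ B), A = B →
        Function.Bijective (((Scheme.Modules.restrictFunctor U.ι).obj ω).presheaf.map (homOfLE h).op) := by
      rintro A _ h rfl
      exact ⟨fun a b hab => by simpa [Cohom.map_self_apply] using hab, fun a => ⟨a, Cohom.map_self_apply ..⟩⟩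
    exact key (U.ι ⁻¹ᵁ (V ⊓ U)) (U.ι ⁻¹ᵁ V) (U.ι.preimage_mono inf_le_left) (by
      ext v
      exact ⟨fun h => h.1, fun h => ⟨h, v.2⟩⟩)
  refine ⟨fun a b hab => ?_, fun t => ?_⟩
  · have h := hGbij.1 (((hnat a).symm.trans (congrArg (ι.app (V ⊓ U)) hab)).trans (hnat b))
    rw [← hretr V a, ← hretr V b, h]
  · obtain ⟨t', ht'⟩ := hGbij.2 (ι.app (V ⊓ U) t)
    refine ⟨ρ.app V t', ?_⟩
    have h1 := PresheafOfModules.naturality_apply ρ.val (homOfLE (inf_le_left : V ⊓ U ≤ V)).op t'
    exact h1.symm.trans ((congrArg (ρ.app (V ⊓ U)) ht').trans (hretr _ t))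

end GrothLib.ArSurf29
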