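import Groth.Agent.Lib.ArSurf29.RelMinimal
import Groth.Agent.Lib.AlgSp.SchImage
import Groth.Agent.Lib.ProjQ9.Basic
import Groth.Agent.Lib.Chow.Prod

/-!
# A smooth projective scheme over the fraction field extends smoothly over a dense open of the base
-/

set_option autoImplicit false
set_option linter.all false
set_option backward.isDefEq.respectTransparency false

universe u

open CategoryTheory CategoryTheory.Limits AlgebraicGeometry TopologicalSpace IsLocalRing

noncomputable section

namespace GrothLib.ArSurf29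

/-- A morphism is the base change of its composition with a monomorphism along that monomorphism. -/
theorem isPullback_comp_mono {A B D : Scheme.{u}} (a : A ⟶ B) (m : B ⟶ D) [Mono m] :
    IsPullback (𝟙 A) a (a ≫ m) m := by
  have h1 : IsPullback (𝟙 A) a a (𝟙 B) := IsPullback.of_horiz_isIso ⟨by simp⟩
  have := h1.paste_vert (IsKernelPair.id_of_mono m : IsPullback (𝟙 B) (𝟙 B) m m)
  simpa using this

/-- Flat preimmersions induce isomorphisms of local rings. -/
theorem isIso_stalkMap_of_flat_preimmersion {A B : Scheme.{u}} (f : A ⟶ B) [IsPreimmersion f] [Flat f] (z : A) :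
    IsIso (f.stalkMap z) := by
  refine (ConcreteCategory.isIso_iff_bijective _).2 ⟨?_, f.stalkMap_surjective z⟩
  letI := (f.stalkMap z).hom.toAlgebra
  haveI : Module.Flat _ _ := Flat.stalkMap f z
  haveI : IsLocalHom (algebraMap (B.presheaf.stalk (f z)) (A.presheaf.stalk z)) :=
    inferInstanceAs (IsLocalHom (f.stalkMap z).hom)
  haveI := Module.FaithfullyFlat.of_flat_of_isLocalHom (A := B.presheaf.stalk (f z)) (B := A.presheaf.stalk z)
  exact (FaithfulSMul.algebraMap_injective _ _ :
    Function.Injective (algebraMap (B.presheaf.stalk (f z)) (A.presheaf.stalk z)))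

theorem exists_smooth_proper_spread {R : Type u} [CommRing R] [IsDomain R] [IsNoetherianRing R]
    (C : Over (Spec (CommRingCat.of (FractionRing R)))) [Smooth C.hom]
    (hproj : Neron.IsProjectiveOver (FractionRing R) C) :
    ∃ (U : (Spec (CommRingCat.of R)).Opens) (ξ : Spec (CommRingCat.of (FractionRing R)) ⟶ (U : Scheme.{u}))
      (𝒞 : Scheme.{u}) (π : 𝒞 ⟶ (U : Scheme.{u})),
      ξ ≫ U.ι = Neron.genPt R ∧ Smooth π ∧ IsProper π ∧
      Nonempty (Over.mk (pullback.snd π ξ) ≅ C) := by
  obtain ⟨n, i, hi, hiC⟩ := hproj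
  haveI := hi
  haveI : IsPreimmersion (Neron.genPt R) := IsPreimmersion.of_isLocalization (nonZeroDivisors R)
  haveI : Flat (Neron.genPt R) := Flat.SpecMap_iff.2
    (RingHom.flat_algebraMap_iff.2 (IsLocalization.flat _ (nonZeroDivisors R)))
  have hM := ProjQ9.isPullback_mapBase n (Neron.genPt R)
  let μ := ProjQ9.mapBase n (Neron.genPt R)
  haveI : Mono μ := MorphismProperty.of_isPullback (P := MorphismProperty.monomorphisms Scheme.{u}) hM.flip
    (inferInstanceAs (Mono (Neron.genPt R)))
  haveI : Flat μ := MorphismProperty.of_isPullback (P := @Flat) hM.flip inferInstance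
  haveI : IsAffineHom μ := MorphismProperty.of_isPullback (P := @IsAffineHom) hM.flip inferInstance
  let g := i ≫ μ
  have sq₀ := IsPullback.of_hasPullback g.imageι μ
  let nC : C.left ⟶ pullback g.imageι μ := sq₀.lift g.toImage i g.toImage_imageι
  have hker : i.ker = g.ker.comap μ := by
    exact GrothLib.AlgSp.ker_comap_of_flat (isPullback_comp_mono i μ)
  have hn : nC ≫ pullback.snd g.imageι μ = i := sq₀.lift_snd _ _ _
  haveI : IsClosedImmersion nC := by
    haveI : IsClosedImmersion (nC ≫ pullback.snd g.imageι μ) := by rw [hn]; exact hi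
    exact IsClosedImmersion.of_comp nC (pullback.snd g.imageι μ)
  haveI : IsIso nC := by
    have hk : (pullback.snd g.imageι μ).ker = i.ker := by
      rw [hker, ← pullbackSymmetry_hom_comp_fst g.imageι μ, Scheme.Hom.ker_comp_of_isIso]
      rfl
    exact IsClosedImmersion.isIso_of_ker_eq i (pullback.snd g.imageι μ) nC hn hk.symm
  let X := g.image
  let πX : X ⟶ Spec (CommRingCat.of R) := g.imageι ≫ CohB1.ProjSpaceOver.toBase n (Spec (CommRingCat.of R))
  haveI := GrothLib.Chow.isProper_toBase n (Spec (CommRingCat.of R))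
  haveI : IsProper πX := inferInstance
  haveI : LocallyOfFinitePresentation πX := LocallyOfFinitePresentation.iff_locallyOfFiniteType.2 inferInstance
  let w : C.left ⟶ X := g.toImage
  have hsq : IsPullback w C.hom πX (Neron.genPt R) := by
    have h1 : IsPullback w i g.imageι μ := IsPullback.of_iso_pullback ⟨g.toImage_imageι⟩ (asIso nC) (sq₀.lift_fst _ _ _) hn
    have := h1.paste_vert hM
    rwa [hiC] at this
  haveI : IsPreimmersion w := MorphismProperty.of_isPullback (P := @IsPreimmersion) hsq.flip inferInstance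
  haveI : Flat w := MorphismProperty.of_isPullback (P := @Flat) hsq.flip inferInstance
  let η : Spec (CommRingCat.of R) := (Neron.genPt R) (closedPoint (FractionRing R))
  have hsm : ∀ x, πX x = η → x ∈ πX.smoothLocus := by
    intro x hx
    obtain ⟨z, hz, -⟩ := Scheme.Pullback.exists_preimage_pullback (f := πX) (g := Neron.genPt R) x _ hx
    let c : C.left := hsq.isoPullback.inv z
    have hc : w c = x := by
      rw [← hz, ← Scheme.Hom.comp_apply, hsq.isoPullback_inv_fst]
    subst hc
    haveI := isIso_stalkMap_of_flat_preimmersion w c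
    haveI := isIso_stalkMap_of_flat_preimmersion (Neron.genPt R) (C.hom c)
    rw [Scheme.Hom.mem_smoothLocus, ← RingHom.FormallySmooth.respectsIso.cancel_right_isIso _ (w.stalkMap c)]
    have key : ∀ (a b : C.left ⟶ Spec (CommRingCat.of R)), a = b →
        (a.stalkMap c).hom.FormallySmooth → (b.stalkMap c).hom.FormallySmooth := by
      rintro a b rfl h; exact h
    have h2 : ((C.hom ≫ Neron.genPt R).stalkMap c).hom.FormallySmooth := by
      rw [Scheme.Hom.stalkMap_comp]
      exact (RingHom.FormallySmooth.respectsIso.cancel_left_isIso ((Neron.genPt R).stalkMap (C.hom c)) (C.hom.stalkMap c)).2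
        (Scheme.Hom.mem_smoothLocus.1 (C.hom.smoothLocus_eq_top.ge trivial))
    have h3 := key _ _ hsq.w.symm h2
    rwa [Scheme.Hom.stalkMap_comp] at h3
  let U : (Spec (CommRingCat.of R)).Opens :=
    ⟨(πX '' (πX.smoothLocus : Set X)ᶜ)ᶜ, (πX.isClosedMap _ πX.smoothLocus.2.isClosed_compl).isOpen_compl⟩
  have hξr : Set.range (Neron.genPt R) ⊆ Set.range U.ι := by
    rw [Scheme.Opens.range_ι]
    rintro _ ⟨z, rfl⟩ ⟨x, hx, hxz⟩
    obtain rfl : z = closedPoint (FractionRing R) := Subsingleton.elim _ _
    exact hx (hsm x hxz)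
  let ξ := IsOpenImmersion.lift U.ι (Neron.genPt R) hξr
  have hξ : ξ ≫ U.ι = Neron.genPt R := IsOpenImmersion.lift_fac _ _ _
  refine ⟨U, ξ, _, πX ∣_ U, hξ, ?_, inferInstance, ?_⟩
  · have h : πX ⁻¹ᵁ U ≤ πX.smoothLocus := fun x hx => by
      by_contra hns
      exact hx ⟨x, hns, rfl⟩
    haveI : Smooth ((πX ⁻¹ᵁ U).ι ≫ πX) := by
      rw [← Scheme.Hom.smoothLocus_eq_top_iff, ← Scheme.Hom.preimage_smoothLocus_eq]
      exact top_le_iff.1 fun x _ => h x.2
    haveI : Smooth ((πX ∣_ U) ≫ U.ι) := by rw [morphismRestrict_ι]; infer_instance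
    exact MorphismProperty.of_isPullback (P := @Smooth) (isPullback_comp_mono (πX ∣_ U) U.ι) inferInstance
  · have h0 : IsPullback (pullback.fst (πX ∣_ U) ξ ≫ (πX ⁻¹ᵁ U).ι) (pullback.snd (πX ∣_ U) ξ) πX (Neron.genPt R) := by
      have := (IsPullback.of_hasPullback (πX ∣_ U) ξ).paste_horiz (isPullback_morphismRestrict πX U).flip
      rwa [hξ] at this
    exact ⟨Over.isoMk (h0.isoIsPullback _ _ hsq) (IsPullback.isoIsPullback_hom_snd _ _ _ _)⟩

end GrothLib.ArSurf29
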