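import Groth.Agent.Lib.ArSurf29.RelMinimal
import Groth.Agent.Lib.ArSurf29.Spread
import Groth.Agent.Lib.GeomComp6.Global
import Groth.Agent.Lib.FBase7.Embeds
import Groth.Agent.Lib.FBase7.Irred
import Groth.Agent.Lib.NormalExt.Basic
import Mathlib.RingTheory.IntegralClosure.Algebra.Basic
import Mathlib.RingTheory.Algebraic.Integral

/-!
# Only finitely many closed fibres of an arithmetic surface contain contractible curves
-/

set_option autoImplicit false
set_option linter.all false
set_option backward.isDefEq.respectTransparency false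

universe u

open CategoryTheory CategoryTheory.Limits AlgebraicGeometry TopologicalSpace Opposite

noncomputable section

namespace GrothLib.ArSurf29

/-- The structure map of a scheme over `Spec R` on global functions. -/
abbrev struct {R : Type u} [CommRing R] {X : Scheme.{u}} (f : X ⟶ Spec (CommRingCat.of R)) : R →+* Γ(X, ⊤) :=
  ((Scheme.ΓSpecIso (CommRingCat.of R)).inv ≫ f.appTop).hom

theorem struct_comp {R : Type u} [CommRing R] {X Y : Scheme.{u}} (g : X ⟶ Y) (h : Y ⟶ Spec (CommRingCat.of R)) :
    struct (g ≫ h) = g.appTop.hom.comp (struct h) := rfl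

theorem toSpecΓ_struct {R : Type u} [CommRing R] {X : Scheme.{u}} (f : X ⟶ Spec (CommRingCat.of R)) :
    X.toSpecΓ ≫ Spec.map (CommRingCat.ofHom (struct f)) = f := by
  show X.toSpecΓ ≫ Spec.map ((Scheme.ΓSpecIso (CommRingCat.of R)).inv ≫ f.appTop) = f
  rw [Spec.map_comp, ← Category.assoc, ← Scheme.toSpecΓ_naturality, Category.assoc,
    toSpecΓ_SpecMap_ΓSpecIso_inv, Category.comp_id]

theorem exists_global_of_integral {A : Type u} [CommRing A] {X : Scheme.{u}} [IsIntegral X] [Nonempty (⊤ : X.Opens)]
    (hX : ∀ x : X, IsIntegrallyClosed (X.presheaf.stalk x)) (φ : A →+* Γ(X, ⊤)) (z : X.functionField)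
    (hz : ((X.germToFunctionField ⊤).hom.comp φ).IsIntegralElem z) :
    ∃ s : Γ(X, ⊤), X.germToFunctionField ⊤ s = z := by
  classical
  have hk : ∀ (U : X.affineOpens) [Nonempty U.1], ∃ d : Γ(X, U.1), X.germToFunctionField U.1 d = z := by
    intro U _
    haveI := NormalExt.isIntegrallyClosed_Γ hX U.1 U.2
    haveI := functionField_isFractionRing_of_isAffineOpen X U.1 U.2
    have hint : IsIntegral Γ(X, U.1) z := by
      obtain ⟨P, hP, hPc⟩ := hz
      refine ⟨P.map ((X.presheaf.map (homOfLE (le_top : U.1 ≤ ⊤)).op).hom.comp φ), hP.map _, ?_⟩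
      rw [Polynomial.eval₂_map, ← RingHom.comp_assoc]
      convert hPc using 3
      ext a
      exact X.presheaf.germ_res_apply _ _ _ a
    obtain ⟨d, hd⟩ := (isIntegrallyClosed_iff X.functionField).mp inferInstance hint
    exact ⟨d, hd⟩
  let J := {U : X.affineOpens // Nonempty U.1}
  choose d hd using fun U : J => @hk U.1 U.2
  have hcompat : TopCat.Presheaf.IsCompatible X.sheaf.1 (fun U : J => (U.1.1 : Opens X)) d := by
    intro U V
    by_cases hne : Nonempty ↥(U.1.1 ⊓ V.1.1 : X.Opens)
    · haveI := U.2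
      haveI := V.2
      refine @Scheme.germToFunctionField_injective X _ (U.1.1 ⊓ V.1.1) hne _ _ ?_
      exact ((X.presheaf.germ_res_apply _ _ _ _).trans (hd U)).trans
        ((X.presheaf.germ_res_apply _ _ _ _).trans (hd V)).symm
    · have : (U.1.1 ⊓ V.1.1 : X.Opens) = ⊥ := by
        rw [not_nonempty_iff] at hne
        exact Opens.ext (Set.eq_empty_of_forall_notMem fun z hz => hne.elim ⟨z, hz⟩)
      have hs : Subsingleton Γ(X, U.1.1 ⊓ V.1.1) := by rw [this]; infer_instance
      exact @Subsingleton.elim _ hs _ _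
  obtain ⟨s, hs, -⟩ := X.sheaf.existsUnique_gluing' (fun U : J => (U.1.1 : Opens X)) ⊤
    (fun U => homOfLE le_top) (fun z _ => by
      obtain ⟨U, hU, hzU, -⟩ := exists_isAffineOpen_mem_and_subset (Opens.mem_top z)
      exact Opens.mem_iSup.mpr ⟨⟨⟨U, hU⟩, ⟨⟨z, hzU⟩⟩⟩, hzU⟩) d hcompat
  obtain ⟨U, hU, hzU, -⟩ := exists_isAffineOpen_mem_and_subset (Opens.mem_top (genericPoint X))
  haveI : Nonempty U := ⟨⟨_, hzU⟩⟩
  refine ⟨s, ?_⟩
  refine Eq.trans ?_ (hd ⟨⟨U, hU⟩, inferInstance⟩)
  rw [← hs ⟨⟨U, hU⟩, inferInstance⟩]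
  exact (X.presheaf.germ_res_apply _ _ _ _).symm

theorem isPullback_pullback_comp_mono {A B W Z : Scheme.{u}} (a : A ⟶ W) (b : B ⟶ W) (m : W ⟶ Z) [Mono m]
    {a' : A ⟶ Z} {b' : B ⟶ Z} (ha : a' = a ≫ m) (hb : b' = b ≫ m) :
    IsPullback (pullback.fst a b) (pullback.snd a b) a' b' := by
  subst ha hb
  exact ⟨⟨pullback.condition_assoc m⟩, ⟨pullbackIsPullbackOfCompMono a b m⟩⟩

/-- The fibres over a dense open of the base of the map to the integral elements are irreducible. -/
theorem exists_irreducible_fibres {R : Type u} [CommRing R] [IsDomain R] {X : Scheme.{u}}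
    (f : X ⟶ Spec (CommRingCat.of R)) [LocallyOfFiniteType f] [QuasiCompact f] [IsIntegral X]
    (hN : ∀ x : X, IsIntegrallyClosed (X.presheaf.stalk x)) (hξ : (f (genericPoint X)).asIdeal = ⊥) :
    ∃ b : R, b ≠ 0 ∧ ∀ p : Spec (CommRingCat.of R), b ∉ p.asIdeal → p.asIdeal.IsMaximal → ∀ x x' : X,
      f x = p → f x' = p → (∀ r : Γ(X, ⊤), (struct f).IsIntegralElem r → x' ∈ X.basicOpen r → x ∈ X.basicOpen r) →
      ∃ ζ : X, f ζ = p ∧ ζ ⤳ x ∧ ζ ⤳ x' := by
  haveI : Nonempty (⊤ : X.Opens) := ⟨⟨genericPoint X, trivial⟩⟩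
  letI : Algebra R Γ(X, ⊤) := (struct f).toAlgebra
  let B := integralClosure R Γ(X, ⊤)
  haveI : IsDomain B := inferInstance
  let g : X ⟶ Spec (CommRingCat.of B) := X.toSpecΓ ≫ Spec.map (CommRingCat.ofHom B.val.toRingHom)
  let π₀ : Spec (CommRingCat.of B) ⟶ Spec (CommRingCat.of R) := Spec.map (CommRingCat.ofHom (algebraMap R B))
  have hg : g ≫ π₀ = f := by
    simp only [g, π₀, Category.assoc, ← Spec.map_comp, ← CommRingCat.ofHom_comp]
    exact toSpecΓ_struct f
  have hfg : ∀ x, π₀ (g x) = f x := fun x => by rw [← Scheme.Hom.comp_apply, hg]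
  haveI : LocallyOfFiniteType (g ≫ π₀) := by rw [hg]; infer_instance
  haveI : LocallyOfFiniteType g := locallyOfFiniteType_of_comp g π₀
  haveI : QuasiCompact (g ≫ π₀) := by rw [hg]; infer_instance
  haveI : QuasiCompact g := QuasiCompact.of_comp g π₀
  have hgmem : ∀ (x : X) (r : B), r ∉ (g x).asIdeal ↔ x ∈ X.basicOpen (r : Γ(X, ⊤)) := fun x r => by
    rw [← Scheme.toSpecΓ_preimage_basicOpen]
    rfl
  -- the function field over the fraction field of the integral elements
  let ιF : B →+* X.functionField := (X.germToFunctionField ⊤).hom.comp B.val.toRingHom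
  have hιF : Function.Injective ιF := (X.germToFunctionField_injective ⊤).comp Subtype.val_injective
  letI : Algebra B X.functionField := ιF.toAlgebra
  haveI : FaithfulSMul B X.functionField := (faithfulSMul_iff_algebraMap_injective B X.functionField).2 hιF
  let K' := FractionRing B
  letI : Algebra K' X.functionField := FractionRing.liftAlgebra B X.functionField
  letI : Algebra R X.functionField := ((X.germToFunctionField ⊤).hom.comp (struct f)).toAlgebra
  haveI : IsScalarTower R B X.functionField := IsScalarTower.of_algebraMap_eq fun _ => rfl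
  have hsep : separableClosure K' X.functionField = ⊥ := by
    refine le_bot_iff.1 fun α hα => ?_
    have halg : IsAlgebraic B α :=
      (IsFractionRing.isAlgebraic_iff B K' X.functionField).2 (mem_separableClosure_iff.1 hα).isIntegral.isAlgebraic
    obtain ⟨c, hc, hci⟩ := halg.exists_integral_multiple
    have hR : IsIntegral R (c • α) := isIntegral_trans _ hci
    obtain ⟨s, hs⟩ := exists_global_of_integral hN (struct f) (c • α) hR
    have hsB : s ∈ B := by
      obtain ⟨P, hP, hPs⟩ := hR
      refine ⟨P, hP, X.germToFunctionField_injective ⊤ ?_⟩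
      rw [map_zero, Polynomial.hom_eval₂, hs]
      exact hPs
    refine IntermediateField.mem_bot.2 ⟨algebraMap B K' ⟨s, hsB⟩ / algebraMap B K' c, ?_⟩
    rw [map_div₀, ← IsScalarTower.algebraMap_apply B K' X.functionField,
      ← IsScalarTower.algebraMap_apply B K' X.functionField]
    show X.germToFunctionField ⊤ s / _ = α
    rw [hs, Algebra.smul_def, mul_div_assoc, mul_comm, div_mul_cancel₀]
    exact (map_ne_zero_iff _ hιF).2 hc
  haveI hgi := FBase7.geometricallyIrreducible_specMap_of_sepClosedIn K' X.functionField hsep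
  -- the geometric generic fibre is irreducible
  let Ω := AlgebraicClosure K'
  have hinj : Function.Injective (algebraMap B Ω) := by
    rw [IsScalarTower.algebraMap_eq B K' Ω]
    exact (algebraMap K' Ω).injective.comp (IsFractionRing.injective B K')
  let σ := GeomComp6.specMap B Ω
  haveI : Flat σ := by
    haveI : Module.Flat B K' := IsLocalization.flat K' (nonZeroDivisors B)
    haveI : Module.Flat B Ω := Module.Flat.trans B K' Ω
    exact Flat.SpecMap_iff.2 (RingHom.flat_algebraMap_iff.2 inferInstance)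
  have hΩ : IrreducibleSpace ↥(pullback g σ) := by
    let j := X.fromSpecStalk (genericPoint X)
    have hj : j ≫ g = Spec.map (CommRingCat.ofHom (algebraMap K' X.functionField)) ≫
        Spec.map (CommRingCat.ofHom (algebraMap B K')) := by
      rw [← Spec.map_comp, ← CommRingCat.ofHom_comp, ← IsScalarTower.algebraMap_eq,
        show j ≫ g = (j ≫ X.toSpecΓ) ≫ _ from (Category.assoc _ _ _).symm, Scheme.fromSpecStalk_toSpecΓ,
        ← Spec.map_comp]
      rfl
    haveI : Mono (Spec.map (CommRingCat.ofHom (algebraMap B K'))) := by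
      haveI : IsPreimmersion (Spec.map (CommRingCat.ofHom (algebraMap B K'))) :=
        IsPreimmersion.of_isLocalization (nonZeroDivisors B)
      infer_instance
    have hσ : σ = Spec.map (CommRingCat.ofHom (algebraMap K' Ω)) ≫ Spec.map (CommRingCat.ofHom (algebraMap B K')) := by
      rw [← Spec.map_comp, ← CommRingCat.ofHom_comp, ← IsScalarTower.algebraMap_eq]
    let Q := pullback j (pullback.fst g σ)
    haveI : IrreducibleSpace ↥Q := by
      haveI : IrreducibleSpace ↥(pullback (Spec.map (CommRingCat.ofHom (algebraMap K' X.functionField)))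
          (Spec.map (CommRingCat.ofHom (algebraMap K' Ω)))) :=
        hgi.geometrically_irreducibleSpace _ _ _ (IsPullback.of_hasPullback _ _)
      let e : pullback (Spec.map (CommRingCat.ofHom (algebraMap K' X.functionField)))
          (Spec.map (CommRingCat.ofHom (algebraMap K' Ω))) ≅ Q :=
        (isPullback_pullback_comp_mono _ _ (Spec.map (CommRingCat.ofHom (algebraMap B K'))) hj hσ).isoPullback ≪≫
          (pullbackRightPullbackFstIso g σ j).symm
      exact e.hom.homeomorph.surjective.irreducibleSpace e.hom.continuous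
    let q := pullback.snd j (pullback.fst g σ)
    haveI : Nonempty ↥(pullback g σ) := ⟨q (Classical.arbitrary Q)⟩
    have hpre : IsPreirreducible (Set.range q) := by
      rw [← Set.image_univ]
      exact ((IrreducibleSpace.isIrreducible_univ _).image q q.continuous.continuousOn).2
    refine FBase7.isIrreducible_of_maximal_subset (S := Set.range q) hpre fun t ht => ?_
    haveI : Flat (pullback.fst g σ) := MorphismProperty.pullback_fst _ _ inferInstance
    obtain ⟨t', ht', htξ⟩ := Flat.generalizingMap (pullback.fst g σ) (genericPoint_specializes (pullback.fst g σ t))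
    rw [ht t' ht'] at htξ
    rw [Scheme.Pullback.range_snd, Set.mem_preimage, htξ, Scheme.range_fromSpecStalk]
    exact specializes_rfl
  obtain ⟨g₀, hg₀, hnear⟩ := GeomComp6.exists_count_constant_algebra Ω hinj g
  haveI : Algebra.IsIntegral R B := inferInstance
  obtain ⟨b, hb, hdvd⟩ := (Algebra.IsIntegral.isIntegral (R := R) g₀).isAlgebraic.exists_nonzero_dvd
    (mem_nonZeroDivisors_of_ne_zero hg₀)
  refine ⟨b, hb, fun p hbp hpmax x x' hx hx' hmem => ?_⟩
  have hmax : ∀ z : X, f z = p → (g z).asIdeal.IsMaximal := fun z hz => by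
    refine Ideal.isMaximal_of_isIntegral_of_isMaximal_comap (R := R) (g z).asIdeal ?_
    rw [show (g z).asIdeal.comap (algebraMap R B) = p.asIdeal from
      congrArg PrimeSpectrum.asIdeal ((hfg z).trans hz)]
    exact hpmax
  have hq : g x = g x' := by
    refine PrimeSpectrum.ext ((hmax x hx).eq_of_le (hmax x' hx').ne_top fun r hr => ?_)
    by_contra hr'
    exact (hgmem x r).2 (hmem r r.2 ((hgmem x' r).1 hr')) hr
  let q := g x
  have hgq : g₀ ∉ q.asIdeal := by
    intro hmem'
    obtain ⟨c, hc⟩ := hdvd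
    refine hbp ?_
    rw [← hx, ← hfg]
    show algebraMap R B b ∈ q.asIdeal
    rw [hc]
    exact q.asIdeal.mul_mem_right _ hmem'
  -- irreducibility of the fibre over `q`
  let F₀ := AlgebraicClosure q.asIdeal.ResidueField
  have hker : ∀ a : B, algebraMap B F₀ a = 0 ↔ a ∈ q.asIdeal := fun a => by
    rw [IsScalarTower.algebraMap_apply B q.asIdeal.ResidueField F₀, map_eq_zero, Ideal.algebraMap_residueField_eq_zero]
  have h1 : IrreducibleSpace ↥(pullback g (GeomComp6.specMap B F₀)) := by
    rw [← GeomComp6.encard_irreducibleComponents_eq_one_iff]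
    exact (congrArg Prod.fst (hnear F₀ fun h => hgq ((hker g₀).1 h))).trans
      (GeomComp6.encard_irreducibleComponents_eq_one_iff.2 hΩ)
  have hr : Set.range (pullback.fst g (GeomComp6.specMap B F₀)) = g ⁻¹' {q} := by
    rw [Scheme.Pullback.range_fst]
    congr 1
    ext s
    constructor
    · rintro ⟨t, rfl⟩
      refine PrimeSpectrum.ext (Ideal.ext fun a => ?_)
      show algebraMap B F₀ a ∈ (t : PrimeSpectrum F₀).asIdeal ↔ _
      rw [Ideal.eq_bot_of_prime (t : PrimeSpectrum F₀).asIdeal, Ideal.mem_bot, hker]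
    · rintro rfl
      refine ⟨⟨⊥, Ideal.isPrime_bot⟩, PrimeSpectrum.ext (Ideal.ext fun a => ?_)⟩
      show algebraMap B F₀ a ∈ (⊥ : Ideal F₀) ↔ _
      rw [Ideal.mem_bot, hker]
  have hirr : IsIrreducible (g ⁻¹' {q}) := by
    rw [← hr, ← Set.image_univ]
    exact (IrreducibleSpace.isIrreducible_univ _).image _ (Scheme.Hom.continuous _).continuousOn
  have hqc : IsClosed (g ⁻¹' {q}) :=
    ((PrimeSpectrum.isClosed_singleton_iff_isMaximal q).2 (hmax x hx)).preimage g.continuous
  obtain ⟨ζ, hζ⟩ := QuasiSober.sober hirr hqc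
  refine ⟨ζ, ?_, hζ.specializes rfl, hζ.specializes hq.symm⟩
  rw [← hfg ζ, show g ζ = q from hζ.mem, hfg, hx]

end GrothLib.ArSurf29
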