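import Groth.Agent.Lib.ArSurf29.Genus
import Groth.Agent.Lib.UnifVanish7.Main

/-!
# The genus formula
-/

set_option autoImplicit false
set_option linter.all false
set_option backward.isDefEq.respectTransparency false

universe u

open CategoryTheory CategoryTheory.Limits AlgebraicGeometry TopologicalSpace IsLocalRing

noncomputable section

namespace GrothLib.ArSurf29

variable {R : Type u} [CommRing R] [IsDomain R] [IsDiscreteValuationRing R]
  {X : Over (Spec (CommRingCat.of R))}

theorem chiD_top : chiD X (⊤ : X.left.IdealSheafData) = 0 := by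
  letI : X.left.Over (Spec (CommRingCat.of R)) := ⟨X.hom⟩
  let S := (⊤ : X.left.IdealSheafData).subscheme
  haveI : IsEmpty S := ⟨fun z => by
    have h := Set.mem_range_self (f := (⊤ : X.left.IdealSheafData).subschemeι) z
    rw [Scheme.IdealSheafData.range_subschemeι, Scheme.IdealSheafData.support_top] at h
    exact h⟩
  have h0 : 𝟙 (ClSub.quotMod (⊤ : X.left.IdealSheafData)) = 0 := by
    refine Scheme.Modules.hom_ext _ _ fun U => AddCommGrpCat.ext fun s => ?_
    haveI : Subsingleton Γ(S, (⊤ : X.left.IdealSheafData).subschemeι ⁻¹ᵁ U) := by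
      rw [show (⊤ : X.left.IdealSheafData).subschemeι ⁻¹ᵁ U = (⊥ : S.Opens) from Opens.ext (Subsingleton.elim _ _)]
      infer_instance
    exact Subsingleton.elim (α := Γ(S, (⊤ : X.left.IdealSheafData).subschemeι ⁻¹ᵁ U)) _ _
  have hz : ∀ q, Models.lengthH R X (ClSub.quotMod (⊤ : X.left.IdealSheafData)) q = 0 := fun q => by
    haveI := UnifVanish7.subsingleton_HH_of_id_eq_zero (A := R) h0 q
    simp [Models.lengthH, Module.length_eq_zero]
  simp [chiD, hz]

variable [IsProper X.hom] [Flat X.hom] [IsLocallyNoetherian X.left] (hX : Models.IsRegularScheme X.left)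
  {n : ℕ} {Γ : Fin n → ArSurf.VertComp R X} (hΓ : Models.IsComponentList R X Γ)
  {L : Fin n → X.left.Modules} (hL : ∀ j, ClSub.IsInverseOf (L j) (ClSub.idealMod (Γ j).ι.ker))
include hX hΓ hL

theorem two_mul_chiD (a : Fin n → ℕ) (ha : ∀ j, a j ≤ Models.mult R X (Γ j)) :
    2 * chiD X (∏ j, (Γ j).ι.ker ^ a j) =
      -(∑ i, ∑ j, (a i : ℤ) * a j * ArSurf.inter R X (L j) (Γ i)) +
        ∑ i, (a i : ℤ) * (ArSurf.inter R X (L i) (Γ i) + 2 * ((Models.wdeg R X (Γ i) : ℤ) - Models.h1 R X (Γ i))) := by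
  classical
  induction hs : ∑ j, a j using Nat.strong_induction_on generalizing a with
  | _ s ih =>
    subst hs
    by_cases h0 : ∀ j, a j = 0
    · rw [Finset.prod_eq_one (fun j _ => by rw [h0 j, pow_zero]), Scheme.IdealSheafData.one_eq_top, chiD_top]
      simp [h0]
    push Not at h0
    obtain ⟨i, hi⟩ := h0
    obtain ⟨b, hab⟩ : ∃ b : Fin n → ℕ, a = fun j => b j + if j = i then 1 else 0 :=
      ⟨Function.update a i (a i - 1), funext fun j => by
        rcases eq_or_ne j i with rfl | hji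
        · rw [Function.update_self, if_pos rfl]; omega
        · simp [Function.update_of_ne hji, if_neg hji]⟩
    subst hab
    have hlt : ∑ j, b j < ∑ j, (b j + if j = i then 1 else 0) := by
      rw [Finset.sum_add_distrib, Finset.sum_ite_eq' Finset.univ i (fun _ => 1), if_pos (Finset.mem_univ i)]
      omega
    have hb := ih _ hlt b (fun j => le_trans (Nat.le_add_right _ _) (ha j)) rfl
    have hstep := chiD_add hΓ hX hL b i ha
    have hsymm : ∀ p q, ArSurf.inter R X (L q) (Γ p) = ArSurf.inter R X (L p) (Γ q) := fun p q =>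
      inter_symm hX hΓ hL p q
    set A : Fin n → Fin n → ℤ := fun p q => ArSurf.inter R X (L q) (Γ p) with hA
    let e : Fin n → ℤ := fun j => if j = i then 1 else 0
    have hsum1 : ∀ v : Fin n → ℤ, ∑ j, e j * v j = v i := fun v => by simp [e]
    have hQ : ∑ p, ∑ q, ((b p : ℤ) + e p) * ((b q : ℤ) + e q) * A p q =
        (∑ p, ∑ q, (b p : ℤ) * b q * A p q) + 2 * ∑ q, (b q : ℤ) * A i q + A i i := by
      have h1 : ∑ p, ∑ q, e p * (b q : ℤ) * A p q = ∑ q, (b q : ℤ) * A i q := by
        simp only [mul_assoc, ← Finset.mul_sum, hsum1]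
      have h2 : ∑ p, ∑ q, (b p : ℤ) * e q * A p q = ∑ q, (b q : ℤ) * A i q := by
        refine Finset.sum_congr rfl fun p _ => ?_
        rw [show ∑ q, (b p : ℤ) * e q * A p q = (b p : ℤ) * ∑ q, e q * A p q by
          rw [Finset.mul_sum]; exact Finset.sum_congr rfl fun q _ => mul_assoc _ _ _, hsum1]
        exact congrArg _ (hsymm p i)
      have h3 : ∑ p, ∑ q, e p * e q * A p q = A i i := by
        simp only [mul_assoc, ← Finset.mul_sum, hsum1]
      simp only [add_mul, mul_add, Finset.sum_add_distrib]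
      rw [h1, h2, h3]
      ring
    have hlin : ∑ p, ((b p : ℤ) + e p) * (A p p + 2 * ((Models.wdeg R X (Γ p) : ℤ) - Models.h1 R X (Γ p))) =
        (∑ p, (b p : ℤ) * (A p p + 2 * ((Models.wdeg R X (Γ p) : ℤ) - Models.h1 R X (Γ p)))) +
          (A i i + 2 * ((Models.wdeg R X (Γ i) : ℤ) - Models.h1 R X (Γ i))) := by
      rw [Finset.sum_congr rfl fun p _ => add_mul _ _ _, Finset.sum_add_distrib, hsum1]
    have hcast : ∀ p, ((b p + if p = i then 1 else 0 : ℕ) : ℤ) = (b p : ℤ) + e p := fun p => by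
      simp only [e, Nat.cast_add]; split <;> simp
    simp only [hcast]
    simp only [hA] at hQ hlin hb hstep ⊢
    linear_combination hb + 2 * hstep + hQ - hlin

variable {C : Scheme.{u}} {f : C ⟶ Spec (CommRingCat.of (FractionRing R))} {g : C ⟶ X.left}
  (hg : IsPullback g f X.hom (Spec.map (CommRingCat.ofHom (algebraMap R (FractionRing R)))))
  (hH0 : IsIso f.appTop)
include hg hH0

theorem genus_formula :
    2 * (Models.curveGenus (FractionRing R) C f : ℤ) =
      2 + ∑ i, (Models.mult R X (Γ i) : ℤ) *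
        (2 * ((Models.h1 R X (Γ i) : ℤ) - (Models.wdeg R X (Γ i) : ℤ)) - ArSurf.inter R X (L i) (Γ i)) := by
  have h := two_mul_chiD hX hΓ hL (fun j => Models.mult R X (Γ j)) fun j => le_rfl
  rw [← fibre_eq_prod hΓ hX, chiD_fibre hΓ hg hH0] at h
  have h0 : ∑ i, ∑ j, (Models.mult R X (Γ i) : ℤ) * Models.mult R X (Γ j) * ArSurf.inter R X (L j) (Γ i) = 0 :=
    Finset.sum_eq_zero fun i _ => by
      simp only [mul_assoc, ← Finset.mul_sum, sum_mult_inter hX hΓ hL i, mul_zero]
  have h1 : ∑ i, (Models.mult R X (Γ i) : ℤ) *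
        (2 * ((Models.h1 R X (Γ i) : ℤ) - (Models.wdeg R X (Γ i) : ℤ)) - ArSurf.inter R X (L i) (Γ i)) =
      -∑ i, (Models.mult R X (Γ i) : ℤ) *
        (ArSurf.inter R X (L i) (Γ i) + 2 * ((Models.wdeg R X (Γ i) : ℤ) - Models.h1 R X (Γ i))) := by
    rw [← Finset.sum_neg_distrib]
    exact Finset.sum_congr rfl fun i _ => by ring
  rw [h0] at h
  linear_combination -h - h1

end GrothLib.ArSurf29
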