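import Groth.Agent.Lib.ArSurf29.GenusZeroComp
import Groth.Agent.Lib.ArSurf29.GenusFormula
import Groth.Agent.Lib.ArSurf29.Connected

/-!
# Two exceptional curves which meet
-/

set_option autoImplicit false
set_option linter.all false
set_option backward.isDefEq.respectTransparency false

universe u

open CategoryTheory CategoryTheory.Limits AlgebraicGeometry TopologicalSpace IsLocalRing

noncomputable section

namespace GrothLib.ArSurf29

variable {R : Type u} [CommRing R] [IsDomain R] [IsDiscreteValuationRing R]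
  {X : Over (Spec (CommRingCat.of R))} [IsProper X.hom] [IsLocallyNoetherian X.left]

/-- A divisor with one-dimensional functions over the residue field is a rational reduced point. -/
theorem exists_eq_ptIdeal_of_finrank_one {D : X.left.IdealSheafData} (hD : Models.specialFibreIdeal R X ≤ D)
    (hfin : (D.support : Set X.left).Finite)
    (hlen : Models.lengthH R X (ClSub.quotMod D) 0 = 1) :
    ∃ x : X.left, (D.support : Set X.left) = {x} ∧ D = ptIdeal x ∧
      Function.Surjective ((X.left.residue x).hom.comp (Models.stalkHom R X x)) := by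
  obtain ⟨s, hs⟩ := exists_toResidueField hD
  letI : D.subscheme.Over (Spec (CommRingCat.of (ResidueField R))) := ⟨s⟩
  haveI hsp : IsProper (D.subscheme ↘ Spec (CommRingCat.of (ResidueField R))) := isProper_toResidueField s hs
  rw [lengthH_quotMod (D := D) hs 0] at hlen
  letI := GlobalConst.algΓ (ResidueField R) (X := D.subscheme)
  rw [(GlobalConst.h0Equiv (ResidueField R) (X := D.subscheme)).finrank_eq] at hlen
  haveI : Nontrivial Γ(D.subscheme, ⊤) := Module.nontrivial_of_finrank_eq_succ (hlen.trans rfl)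
  have hb : Function.Bijective (algebraMap (ResidueField R) Γ(D.subscheme, ⊤)) := by
    refine ⟨(algebraMap (ResidueField R) Γ(D.subscheme, ⊤)).injective, fun y => ?_⟩
    obtain ⟨c, hc⟩ := (finrank_eq_one_iff_of_nonzero' (1 : Γ(D.subscheme, ⊤)) one_ne_zero).1 hlen y
    exact ⟨c, (Algebra.algebraMap_eq_smul_one c).trans hc⟩
  have hfld : IsField Γ(D.subscheme, ⊤) :=
    (RingEquiv.ofBijective _ hb).symm.toMulEquiv.isField (Field.toIsField (ResidueField R))
  haveI : Finite D.subscheme := by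
    have h : (Set.range D.subschemeι).Finite := by rw [Scheme.IdealSheafData.range_subschemeι]; exact hfin
    haveI := h.to_subtype
    exact Finite.of_injective (Set.rangeFactorization D.subschemeι) fun a b e =>
      D.subschemeι.isClosedEmbedding.injective (congrArg (fun t : Set.range D.subschemeι => (t : X.left)) e)
  haveI : IsProper s := hsp
  haveI : LocallyQuasiFinite s := LocallyQuasiFinite.of_finite_preimage_singleton _ fun _ => Set.toFinite _
  haveI : IsFinite s := IsFinite.of_isProper_of_locallyQuasiFinite _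
  haveI : IsAffine D.subscheme := isAffine_of_isAffineHom s
  haveI : IsDomain Γ(D.subscheme, ⊤) := hfld.isDomain
  haveI : Subsingleton (PrimeSpectrum Γ(D.subscheme, ⊤)) := ⟨fun p q => PrimeSpectrum.ext (by
    letI := hfld.toField
    rw [Ideal.eq_bot_of_prime p.asIdeal, Ideal.eq_bot_of_prime q.asIdeal])⟩
  haveI : Subsingleton D.subscheme :=
    (Scheme.homeoOfIso D.subscheme.isoSpec).injective.subsingleton (β := PrimeSpectrum Γ(D.subscheme, ⊤))
  haveI : Nonempty D.subscheme :=
    ⟨(Scheme.homeoOfIso D.subscheme.isoSpec).symm (⟨⊥, Ideal.isPrime_bot⟩ : PrimeSpectrum Γ(D.subscheme, ⊤))⟩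
  haveI : IrreducibleSpace D.subscheme :=
    { isPreirreducible_univ := fun _ _ _ _ ⟨a, _, ha⟩ ⟨b, _, hb'⟩ => ⟨a, trivial, ha, Subsingleton.elim b a ▸ hb'⟩
      toNonempty := inferInstance }
  haveI : IsReduced D.subscheme := by
    haveI : IsReduced (Spec Γ(D.subscheme, ⊤)) := inferInstance
    exact isReduced_of_isOpenImmersion D.subscheme.isoSpec.hom
  haveI : IsIntegral D.subscheme := isIntegral_of_irreducibleSpace_of_isReduced _
  obtain ⟨e0⟩ := ‹Nonempty D.subscheme›
  let x := D.subschemeι e0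
  have hgpt : DivPart.gpt D = x := congrArg D.subschemeι (Subsingleton.elim _ _)
  have hsupp : (D.support : Set X.left) = {x} := by
    rw [← D.range_subschemeι]
    refine Set.eq_singleton_iff_unique_mem.2 ⟨⟨e0, rfl⟩, ?_⟩
    rintro _ ⟨a, rfl⟩
    exact congrArg D.subschemeι (Subsingleton.elim a e0)
  refine ⟨x, hsupp, DivPart.eq_of_gpt_eq (hgpt.trans (gpt_ptIdeal x).symm), fun y => ?_⟩
  -- the residue field of the point is that of the base
  obtain ⟨a, rfl⟩ := IsLocalRing.residue_surjective (R := X.left.presheaf.stalk x) y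
  let b := D.subschemeι.stalkMap e0 a
  have hsurj : Function.Surjective (D.subscheme.presheaf.germ ⊤ e0 trivial) := by
    letI := hfld.toField
    intro c
    let _ := TopCat.Presheaf.algebra_section_stalk D.subscheme.presheaf (⟨e0, trivial⟩ : (⊤ : D.subscheme.Opens))
    haveI := (isAffineOpen_top D.subscheme).isLocalization_stalk ⟨e0, trivial⟩
    obtain ⟨⟨r, t⟩, hrt⟩ := IsLocalization.surj ((isAffineOpen_top D.subscheme).primeIdealOf ⟨e0, trivial⟩).asIdeal.primeCompl c
    have ht : (t : Γ(D.subscheme, ⊤)) ≠ 0 := fun h => t.2 (h ▸ Ideal.zero_mem _)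
    refine ⟨r * (t : Γ(D.subscheme, ⊤))⁻¹, ?_⟩
    show algebraMap Γ(D.subscheme, ⊤) _ (r * (t : Γ(D.subscheme, ⊤))⁻¹) = c
    rw [map_mul, ← hrt, mul_assoc, ← map_mul, mul_inv_cancel₀ ht, map_one, mul_one]
  obtain ⟨g, hg⟩ := hsurj b
  obtain ⟨c, rfl⟩ := hb.2 g
  obtain ⟨r, rfl⟩ := residue_surjective (R := R) c
  refine ⟨r, ?_⟩
  show X.left.residue x (Models.stalkHom R X x r) = X.left.residue x a
  apply (D.subschemeι.residueFieldMap e0).hom.injective
  have h1 := ConcreteCategory.congr_hom (Scheme.residue_residueFieldMap D.subschemeι e0) a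
  have h2 := ConcreteCategory.congr_hom (Scheme.residue_residueFieldMap D.subschemeι e0) (Models.stalkHom R X x r)
  refine Eq.trans h2 (Eq.trans ?_ h1.symm)
  refine congrArg (D.subscheme.residue e0) ?_
  refine Eq.trans ?_ hg
  refine (D.subschemeι.germ_stalkMap_apply ⊤ e0 trivial (Coh.toGlobal X.hom r)).trans ?_
  refine congrArg (D.subscheme.presheaf.germ ⊤ e0 trivial) ?_
  have h := congrArg (fun f => f.appTop ((Scheme.ΓSpecIso (CommRingCat.of R)).inv r)) hs
  refine Eq.trans h.symm ?_
  rw [Scheme.Hom.comp_appTop]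
  exact (congrArg s.appTop (ConcreteCategory.congr_hom (Scheme.ΓSpecIso_inv_naturality (CommRingCat.ofHom (residue R))) r).symm)

variable [Flat X.hom] (hX : Models.IsRegularScheme X.left)
  {n : ℕ} {Γ : Fin n → ArSurf.VertComp R X} (hΓ : Models.IsComponentList R X Γ)
  {L : Fin n → X.left.Modules} (hL : ∀ j, ClSub.IsInverseOf (L j) (ClSub.idealMod (Γ j).ι.ker))
  {C : Scheme.{u}} {f : C ⟶ Spec (CommRingCat.of (FractionRing R))} {g : C ⟶ X.left}
  (hg : IsPullback g f X.hom (Spec.map (CommRingCat.ofHom (algebraMap R (FractionRing R)))))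
  (hH0 : IsIso f.appTop)
include hX hΓ hL hg hH0

theorem excCurves_meet (i j : Fin n) (hij : i ≠ j) (hi : Models.IsExcCurve (Γ i).ι)
    (hj : Models.IsExcCurve (Γ j).ι)
    (hmeet : ¬ Disjoint (Set.range ((Γ i).ι.base : (Γ i).curve.left → X.left))
      (Set.range ((Γ j).ι.base : (Γ j).curve.left → X.left))) :
    n = 2 ∧ (∀ l, Models.mult R X (Γ l) = 1) ∧ (∀ l, Models.wdeg R X (Γ l) = 1) ∧
      (∀ l, Models.h1 R X (Γ l) = 0 ∧ ArSurf.inter R X (L l) (Γ l) = -1) ∧
      ArSurf.inter R X (L i) (Γ j) = 1 ∧ Models.curveGenus (FractionRing R) C f = 0 := by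
  classical
  have hE := fun l => isEffCartier_ker (isMaxComp hΓ l) hX
  obtain ⟨h1i, hsi⟩ := h1_inter_of_isExcCurve (Γ i) (hE i) (hL i) hi
  obtain ⟨h1j, hsj⟩ := h1_inter_of_isExcCurve (Γ j) (hE j) (hL j) hj
  have hnonneg := inter_nonneg_of_ne hX hΓ hL hij
  have hsym := inter_symm hX hΓ hL i j
  have ha : ArSurf.inter R X (L j) (Γ i) ≠ 0 := fun h => hmeet (hnonneg.2.1 h)
  have hQ := quad_nonpos (fun i j => ArSurf.inter R X (L j) (Γ i))
    (fun i => (Models.mult R X (Γ i) : ℤ)) (fun i => by exact_mod_cast mult_pos (isMaxComp hΓ i) hX)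
    (inter_symm hX hΓ hL) (fun i j h => (inter_nonneg_of_ne hX hΓ hL h).1)
    (fun i => le_of_eq ((Finset.sum_congr rfl fun j _ => mul_comm _ _).trans (sum_mult_inter hX hΓ hL i)))
    (Pi.single i 1 + Pi.single j 1)
  let v : Fin n → ℤ := Pi.single i 1 + Pi.single j 1
  have hQv : ∑ p, ∑ q, v p * v q * ArSurf.inter R X (L q) (Γ p) =
      ArSurf.inter R X (L i) (Γ i) + ArSurf.inter R X (L j) (Γ j) + 2 * ArSurf.inter R X (L j) (Γ i) := by
    have hv : ∀ p, v p = (if p = i then 1 else 0) + (if p = j then 1 else 0) := fun p => by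
      simp [v, Pi.single_apply]
    simp only [hv, add_mul, mul_add, Finset.sum_add_distrib, ite_mul, one_mul, zero_mul, mul_ite, mul_one, mul_zero,
      Finset.sum_ite_irrel, Finset.sum_ite_eq', Finset.mem_univ, if_true, Finset.sum_const_zero]
    have := hsym
    linarith
  obtain ⟨qi, hqi⟩ := wdeg_dvd_inter (Γ i) (isInvertible_inverse hX hΓ hL j)
  obtain ⟨qj, hqj⟩ := wdeg_dvd_inter (Γ j) (isInvertible_inverse hX hΓ hL i)
  have hwi : (0 : ℤ) < Models.wdeg R X (Γ i) := by exact_mod_cast wdeg_pos (Γ i)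
  have hwj : (0 : ℤ) < Models.wdeg R X (Γ j) := by exact_mod_cast wdeg_pos (Γ j)
  have hle : ∑ p, ∑ q, v p * v q * ArSurf.inter R X (L q) (Γ p) ≤ 0 := hQ
  rw [hQv, hsi, hsj] at hle
  have hapos : 0 < ArSurf.inter R X (L j) (Γ i) := lt_of_le_of_ne hnonneg.1 (Ne.symm ha)
  have hsym' : ArSurf.inter R X (L i) (Γ j) = ArSurf.inter R X (L j) (Γ i) := by linarith
  have hqi1 : 1 ≤ qi := by nlinarith
  have hqj1 : 1 ≤ qj := by nlinarith
  have hai : (Models.wdeg R X (Γ i) : ℤ) ≤ ArSurf.inter R X (L j) (Γ i) := by nlinarith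
  have haj : (Models.wdeg R X (Γ j) : ℤ) ≤ ArSurf.inter R X (L j) (Γ i) := by rw [← hsym']; nlinarith
  have hai' : ArSurf.inter R X (L j) (Γ i) = Models.wdeg R X (Γ i) := by linarith
  have haj' : ArSurf.inter R X (L j) (Γ i) = Models.wdeg R X (Γ j) := by linarith
  obtain ⟨c, hc⟩ := (form_eq_zero_iff hX hΓ hL (isPreconnected_fibre hg hH0) v).1 (by
    rw [hQv, hsi, hsj]; linarith)
  have hval : v i = 1 ∧ v j = 1 := by simp [v, hij, Ne.symm hij]
  have hc0 : c ≠ 0 := fun h => by have := hc i; simp [h, hval.1] at this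
  have hall : ∀ l, l = i ∨ l = j := fun l => by
    by_contra hl
    push Not at hl
    have h0 : v l = 0 := by simp [v, hl.1, hl.2]
    have := hc l
    rw [h0] at this
    simp [hc0, (mult_pos (isMaxComp hΓ l) hX).ne'] at this
  have hm : Models.mult R X (Γ i) = Models.mult R X (Γ j) := by
    have h1 := hc i
    have h2 := hc j
    rw [hval.1] at h1
    rw [hval.2] at h2
    exact_mod_cast mul_left_cancel₀ hc0 (h1.symm.trans h2)
  have huniv : (Finset.univ : Finset (Fin n)) = {i, j} :=
    Finset.ext fun l => by simpa using hall l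
  have hn : n = 2 := by
    have h := congrArg Finset.card huniv
    rwa [Finset.card_univ, Fintype.card_fin, Finset.card_pair hij] at h
  have hgen := genus_formula hX hΓ hL hg hH0
  rw [huniv, Finset.sum_pair hij, hsi, hsj, h1i, h1j, ← hm, show (Models.wdeg R X (Γ j) : ℤ) = Models.wdeg R X (Γ i) by linarith] at hgen
  push_cast at hgen
  have hmw : (1 : ℤ) ≤ (Models.mult R X (Γ i) : ℤ) * Models.wdeg R X (Γ i) := by
    have : (0 : ℤ) < Models.mult R X (Γ i) := by exact_mod_cast mult_pos (isMaxComp hΓ i) hX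
    nlinarith
  have hg0 : Models.curveGenus (FractionRing R) C f = 0 := by
    have : (Models.curveGenus (FractionRing R) C f : ℤ) ≤ 0 := by linarith
    omega
  rw [hg0] at hgen
  have hmw1 : Models.mult R X (Γ i) * Models.wdeg R X (Γ i) = 1 := by
    have : (Models.mult R X (Γ i) : ℤ) * Models.wdeg R X (Γ i) = 1 := by push_cast at hgen; linarith
    exact_mod_cast this
  obtain ⟨hm1, hw1⟩ := mul_eq_one.1 hmw1
  have hwj1 : Models.wdeg R X (Γ j) = 1 := by
    have : (Models.wdeg R X (Γ j) : ℤ) = (Models.wdeg R X (Γ i) : ℤ) := by linarith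
    rw [hw1] at this
    exact_mod_cast this
  refine ⟨hn, fun l => ?_, fun l => ?_, fun l => ?_, ?_, hg0⟩
  · rcases hall l with rfl | rfl
    · exact hm1
    · exact hm ▸ hm1
  · rcases hall l with rfl | rfl
    · exact hw1
    · exact hwj1
  · rcases hall l with rfl | rfl
    · exact ⟨h1i, by rw [hsi, hw1]; rfl⟩
    · exact ⟨h1j, by rw [hsj, hwj1]; rfl⟩
  · rw [hsym', hai', hw1]; rfl

end GrothLib.ArSurf29
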