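import Groth.Agent.Lib.ArSurf29.Points
import Groth.Agent.Lib.Birat.Basic
import Groth.Agent.Lib.Stein.Count
import Groth.Agent.Lib.BlowUp.EffCartier
import Mathlib.RingTheory.Polynomial.Basic
import Mathlib.RingTheory.UniqueFactorizationDomain.Finsupp
import Mathlib.RingTheory.Polynomial.UniqueFactorization

/-!
# Birational morphisms of surfaces factor through the blow-up of a point with a curve over it
-/

set_option autoImplicit false
set_option linter.all false
set_option backward.isDefEq.respectTransparency false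

universe u

open CategoryTheory CategoryTheory.Limits AlgebraicGeometry TopologicalSpace IsLocalRing Polynomial
open GrothLib.CartierDescent (stalkIdeal stalkIdeal_eq stalkIdeal_comap stalkIdeal_eq_top_iff)

noncomputable section

namespace GrothLib.ArSurf29

/-- A quotient of two coprime non-units is only a root of polynomials with non-unit coefficients. -/
theorem coeff_mem_of_aeval_eq_zero {B K : Type u} [CommRing B] [IsDomain B] [UniqueFactorizationMonoid B]
    [IsLocalRing B] [Field K] [Algebra B K] [IsFractionRing B K] {c d : B} (hc : c ∈ maximalIdeal B)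
    (hd : d ∈ maximalIdeal B) (hcd : IsRelPrime c d) (hc0 : c ≠ 0) (n : ℕ) :
    ∀ p : ℕ → B, ∑ i ∈ Finset.range (n + 1), p i * d ^ i * c ^ (n - i) = 0 →
      ∀ i ≤ n, p i ∈ maximalIdeal B := by
  induction n with
  | zero =>
    intro p hp i hi
    obtain rfl : i = 0 := by omega
    simp at hp
    simp [hp]
  | succ n ih =>
    intro p hp
    rw [Finset.sum_range_succ, Nat.sub_self, pow_zero, mul_one] at hp
    have hrest : ∑ i ∈ Finset.range (n + 1), p i * d ^ i * c ^ (n + 1 - i) =
        c * ∑ i ∈ Finset.range (n + 1), p i * d ^ i * c ^ (n - i) := by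
      rw [Finset.mul_sum]
      refine Finset.sum_congr rfl fun i hi => ?_
      rw [Nat.succ_sub (Nat.lt_succ_iff.1 (Finset.mem_range.1 hi)), pow_succ]
      ring
    rw [hrest] at hp
    have hdvd : c ∣ d ^ (n + 1) * p (n + 1) :=
      ⟨-∑ i ∈ Finset.range (n + 1), p i * d ^ i * c ^ (n - i), by linear_combination hp⟩
    obtain ⟨q, hq⟩ := (hcd.pow_right (n := n + 1)).dvd_of_dvd_mul_left hdvd
    let p' : ℕ → B := fun i => if i = n then p i + d * q else p i
    have hp' : ∑ i ∈ Finset.range (n + 1), p' i * d ^ i * c ^ (n - i) = 0 := by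
      refine (mul_eq_zero.1 (show c * ∑ i ∈ Finset.range (n + 1), p' i * d ^ i * c ^ (n - i) = 0 from ?_)).resolve_left hc0
      rw [Finset.sum_range_succ] at hp ⊢
      have h1 : ∑ i ∈ Finset.range n, p' i * d ^ i * c ^ (n - i) = ∑ i ∈ Finset.range n, p i * d ^ i * c ^ (n - i) :=
        Finset.sum_congr rfl fun i hi => by simp [p', (Finset.mem_range.1 hi).ne]
      rw [h1]
      simp only [p', if_pos, Nat.sub_self, pow_zero, mul_one] at hp ⊢
      rw [hq] at hp
      linear_combination hp
    intro i hi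
    have hm := ih p' hp'
    rcases Nat.lt_or_ge i n with h | h
    · simpa [p', h.ne] using hm i h.le
    · rcases Nat.eq_or_lt_of_le h with rfl | h'
      · have := hm n le_rfl
        simp only [p', if_pos] at this
        have h2 := Ideal.mul_mem_right q _ hd
        simpa using (maximalIdeal B).sub_mem this h2
      · obtain rfl : i = n + 1 := by omega
        rw [hq]
        exact Ideal.mul_mem_right _ _ hc

/-- If a two-dimensional local ring dominates another with the same fraction field and the closed fibre is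
not just the closed point, the maximal ideal becomes principal. -/
theorem exists_map_eq_span_of_dominating {A B : Type u} [CommRing A] [IsDomain A] [IsNoetherianRing A]
    [IsLocalRing A] [CommRing B] [IsDomain B] [UniqueFactorizationMonoid B] [IsLocalRing B]
    (hdim : ringKrullDim B ≤ 2) (K : Type u) [Field K] [Algebra B K] [IsFractionRing B K] (φ : A →+* B)
    [IsLocalHom φ] (hφ : Function.Injective φ)
    (hK : ∀ z : K, ∃ u v : A, v ≠ 0 ∧ z * algebraMap B K (φ v) = algebraMap B K (φ u))
    {a b : A} (hgen : maximalIdeal A = Ideal.span {a, b}) (ha : a ≠ 0)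
    (P' : Ideal B) [P'.IsPrime] (hP' : P' ≠ maximalIdeal B) (hab : φ a ∈ P' ∧ φ b ∈ P') :
    ∃ g, g ≠ 0 ∧ (maximalIdeal A).map φ = Ideal.span {g} := by
  classical
  obtain ⟨c, d, g, hrel, hca, hdb⟩ := UniqueFactorizationMonoid.exists_reduced_factors (φ a)
    (by rwa [ne_eq, map_eq_zero_iff φ hφ]) (φ b)
  have hφa : φ a ≠ 0 := by rwa [ne_eq, map_eq_zero_iff φ hφ]
  have hg0 : g ≠ 0 := fun h => hφa (by rw [← hca, h, zero_mul])
  have hc0 : c ≠ 0 := fun h => hφa (by rw [← hca, h, mul_zero])
  refine ⟨g, hg0, ?_⟩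
  rw [hgen, Ideal.map_span, Set.image_pair, ← hca, ← hdb]
  suffices h : IsUnit c ∨ IsUnit d by
    refine le_antisymm (Ideal.span_le.2 ?_) ((Ideal.span_singleton_le_iff_mem _).2 ?_)
    · rintro z (rfl | rfl)
      · exact Ideal.mul_mem_right _ _ (Ideal.mem_span_singleton_self g)
      · exact Ideal.mul_mem_right _ _ (Ideal.mem_span_singleton_self g)
    · rcases h with h | h
      · exact (Ideal.mul_unit_mem_iff_mem _ h).1 (Ideal.subset_span (Set.mem_insert _ _))
      · exact (Ideal.mul_unit_mem_iff_mem _ h).1 (Ideal.subset_span (Set.mem_insert_of_mem _ rfl))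
  by_contra hne
  push Not at hne
  have hcm : c ∈ maximalIdeal B := (mem_maximalIdeal _).2 hne.1
  have hdm : d ∈ maximalIdeal B := (mem_maximalIdeal _).2 hne.2
  have hgm : g ∈ maximalIdeal B := by
    by_contra hg
    have hgu : IsUnit g := notMem_maximalIdeal.1 hg
    have hcP : c ∈ P' := (Ideal.unit_mul_mem_iff_mem _ hgu).1 (hca.symm ▸ hab.1)
    have hdP : d ∈ P' := (Ideal.unit_mul_mem_iff_mem _ hgu).1 (hdb.symm ▸ hab.2)
    have h2 := Birat.two_le_height_of_coprime P' hc0 hcP hdP hrel.symm
    have hlt : P' < maximalIdeal B := lt_of_le_of_ne (le_maximalIdeal (Ideal.IsPrime.ne_top ‹_›)) hP'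
    have h3 := Ideal.height_add_one_le_of_lt_of_isPrime hlt
    have h4 : (maximalIdeal B).height ≤ 2 := by
      have h5 := (IsLocalRing.maximalIdeal_height_eq_ringKrullDim (R := B)).trans_le hdim
      exact WithBot.coe_le_coe.1 h5
    exact absurd (((add_le_add_left h2 1).trans h3).trans h4) (by decide)
  -- the ring `B[d/c]`
  let t : K := algebraMap B K d / algebraMap B K c
  have hck : algebraMap B K c ≠ 0 := (map_ne_zero_iff _ (IsFractionRing.injective B K)).2 hc0
  let ev : B[X] →+* K := Polynomial.eval₂RingHom (algebraMap B K) t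
  let θ₀ : B[X] →+* (ResidueField B)[X] := Polynomial.mapRingHom (residue B)
  have hker : ∀ p : B[X], ev p = 0 → θ₀ p = 0 := by
    intro p hp
    have hsum : ∑ i ∈ Finset.range (p.natDegree + 1), p.coeff i * d ^ i * c ^ (p.natDegree - i) = 0 := by
      apply IsFractionRing.injective B K
      rw [map_zero, map_sum, ← mul_zero (algebraMap B K c ^ p.natDegree), ← hp]
      show _ = _ * Polynomial.eval₂ _ _ p
      rw [Polynomial.eval₂_eq_sum_range, Finset.mul_sum]
      refine Finset.sum_congr rfl fun i hi => ?_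
      have hi' : i ≤ p.natDegree := Nat.lt_succ_iff.1 (Finset.mem_range.1 hi)
      rw [map_mul, map_mul, map_pow, map_pow, div_pow, ← Nat.sub_add_cancel hi', pow_add, Nat.add_sub_cancel]
      field_simp
    ext i
    show (p.map (residue B)).coeff i = _
    rw [Polynomial.coeff_map, Polynomial.coeff_zero, residue_eq_zero_iff]
    by_cases hi : i ≤ p.natDegree
    · exact coeff_mem_of_aeval_eq_zero (K := K) hcm hdm hrel hc0 _ _ hsum i hi
    · rw [Polynomial.coeff_eq_zero_of_natDegree_lt (not_le.1 hi)]
      exact Ideal.zero_mem _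
  let θ : ev.range →+* (ResidueField B)[X] :=
    ev.rangeRestrict.liftOfSurjective ev.rangeRestrict_surjective ⟨θ₀, fun p hp => by
      rw [RingHom.mem_ker] at hp ⊢
      exact hker p (congrArg Subtype.val hp)⟩
  have hθ : ∀ p, θ (ev.rangeRestrict p) = θ₀ p := fun p => RingHom.liftOfRightInverse_comp_apply _ _ _ _ _
  -- the ring `A[b/a]`
  let evA : A[X] →+* ev.range := ev.rangeRestrict.comp (Polynomial.mapRingHom φ)
  let A' := evA.range
  haveI : IsNoetherianRing A' := isNoetherianRing_of_surjective A[X] A' evA.rangeRestrict evA.rangeRestrict_surjective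
  let αA : A →+* A' := evA.rangeRestrict.comp Polynomial.C
  let τ : A' := evA.rangeRestrict Polynomial.X
  have hval : ∀ r : A, ((αA r : ev.range) : K) = algebraMap B K (φ r) := fun r => by
    show ev ((Polynomial.C r).map φ) = _
    rw [Polynomial.map_C]
    exact Polynomial.eval₂_C _ _
  have hba : αA b = αA a * τ := by
    apply Subtype.ext
    apply Subtype.ext
    show ((αA b : ev.range) : K) = ((αA a : ev.range) : K) * ev (Polynomial.X.map φ)
    rw [hval, hval, Polynomial.map_X, show ev Polynomial.X = t from Polynomial.eval₂_X _ _, ← hdb, ← hca, map_mul,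
      map_mul]
    simp only [t]
    field_simp
  let Q : Ideal A' := (RingHom.ker θ).comap A'.subtype
  haveI : (RingHom.ker θ).IsPrime := RingHom.ker_isPrime θ
  haveI : Q.IsPrime := Ideal.IsPrime.comap _
  have hQeq : Q = Ideal.span {αA a} := by
    refine le_antisymm (fun z hz => ?_) ((Ideal.span_singleton_le_iff_mem _).2 ?_)
    · obtain ⟨p, rfl⟩ := evA.rangeRestrict_surjective z
      have h0 : θ₀ (p.map φ) = 0 := (hθ _).symm.trans hz
      have hcoef : ∀ i, p.coeff i ∈ maximalIdeal A := fun i => by
        have := congrArg (fun q => Polynomial.coeff q i) h0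
        simp only [θ₀, Polynomial.coe_mapRingHom, Polynomial.coeff_map, Polynomial.coeff_zero, residue_eq_zero_iff] at this
        rw [mem_maximalIdeal] at this ⊢
        exact fun hu => this (hu.map φ)
      have hmem : p ∈ (maximalIdeal A).map Polynomial.C := Ideal.mem_map_C_iff.2 hcoef
      have h1 := Ideal.mem_map_of_mem evA.rangeRestrict hmem
      rw [Ideal.map_map, hgen, Ideal.map_span, Set.image_pair] at h1
      refine (Ideal.span_le.2 ?_) h1
      rintro w (rfl | rfl)
      · exact Ideal.mem_span_singleton_self (αA a)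
      · show αA b ∈ _
        rw [hba]
        exact Ideal.mul_mem_right _ _ (Ideal.mem_span_singleton_self _)
    · show θ (evA (Polynomial.C a)) = 0
      show θ (ev.rangeRestrict ((Polynomial.C a).map φ)) = 0
      rw [hθ, Polynomial.map_C]
      simp only [θ₀, Polynomial.coe_mapRingHom, Polynomial.map_C]
      rw [(residue_eq_zero_iff _).2 (hca ▸ Ideal.mul_mem_left _ g hcm), map_zero]
  have ha0 : αA a ≠ 0 := fun h => by
    have := congrArg (fun z : A' => ((z : ev.range) : K)) h
    rw [hval] at this
    exact hφa (IsFractionRing.injective B K (by simpa using this))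
  have hprime : Prime (αA a) := (Ideal.span_singleton_prime ha0).1 (hQeq ▸ inferInstance)
  have hsplit : ∀ z : A', z ≠ 0 → ∃ (i : ℕ) (u : A'), z = αA a ^ i * u ∧ u ∉ Q := fun z hz => by
    obtain ⟨u, hu, hu'⟩ := (FiniteMultiplicity.of_prime_left hprime hz).exists_eq_pow_mul_and_not_dvd
    exact ⟨_, u, hu, fun h => hu' (Ideal.mem_span_singleton.1 (hQeq ▸ h))⟩
  -- elements of `m_B` have positive order
  have horder : ∀ z : B, z ≠ 0 → z ∈ maximalIdeal B → ∃ (i j : ℕ) (u v : A'), u ∉ Q ∧ v ∉ Q ∧ j < i ∧
      ev.rangeRestrict (Polynomial.C z) * (A'.subtype (αA a ^ j * v)) = A'.subtype (αA a ^ i * u) := by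
    intro z hz hzm
    obtain ⟨u₀, v₀, hv₀, he⟩ := hK (algebraMap B K z)
    have hne : ∀ r : A, r ≠ 0 → αA r ≠ 0 := fun r hr h => by
      have := congrArg (fun z : A' => ((z : ev.range) : K)) h
      rw [hval] at this
      exact hr (hφ (IsFractionRing.injective B K (by simpa using this)))
    have hu₀ : u₀ ≠ 0 := fun h => by
      rw [h, map_zero, map_zero, mul_eq_zero] at he
      rcases he with he | he
      · exact hz (IsFractionRing.injective B K (by rw [he, map_zero]))
      · exact hv₀ (hφ (IsFractionRing.injective B K (by rw [he, map_zero, map_zero])))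
    obtain ⟨i, u, hu, huQ⟩ := hsplit _ (hne u₀ hu₀)
    obtain ⟨j, v, hv, hvQ⟩ := hsplit _ (hne v₀ hv₀)
    have heq : ev.rangeRestrict (Polynomial.C z) * (A'.subtype (αA a ^ j * v)) = A'.subtype (αA a ^ i * u) := by
      rw [← hu, ← hv]
      apply Subtype.ext
      show ev (Polynomial.C z) * ((αA v₀ : ev.range) : K) = ((αA u₀ : ev.range) : K)
      rw [hval, hval, show ev (Polynomial.C z) = algebraMap B K z from Polynomial.eval₂_C _ _, he]
    refine ⟨i, j, u, v, huQ, hvQ, ?_, heq⟩
    by_contra hij
    obtain ⟨k, rfl⟩ := Nat.exists_eq_add_of_le (not_lt.1 hij)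
    have h1 : A'.subtype (αA a) ^ i * (ev.rangeRestrict (Polynomial.C z) * (A'.subtype (αA a) ^ k * A'.subtype v)) =
        A'.subtype (αA a) ^ i * A'.subtype u := by
      rw [map_mul, map_mul, map_pow, map_pow, pow_add] at heq
      rw [← heq]
      ring
    have h2 := mul_left_cancel₀ (pow_ne_zero i (fun h => ha0 (Subtype.ext h))) h1
    refine huQ (show θ (A'.subtype u) = 0 from ?_)
    rw [← h2, map_mul, hθ]
    simp only [θ₀, Polynomial.coe_mapRingHom, Polynomial.map_C]
    rw [(residue_eq_zero_iff _).2 hzm, map_zero, zero_mul]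
  obtain ⟨i, j, u, v, hu, hv, hij, he⟩ := horder g hg0 hgm
  obtain ⟨i', j', u', v', hu', hv', hij', he'⟩ := horder c hc0 hcm
  have hmain : αA a ^ (j + j' + 1) * (v * v') = αA a ^ (i + i') * (u * u') := by
    apply (show Function.Injective A'.subtype from Subtype.val_injective)
    have hgc : ev.rangeRestrict (Polynomial.C g) * ev.rangeRestrict (Polynomial.C c) = A'.subtype (αA a) := by
      rw [← map_mul, ← map_mul, hca]
      apply Subtype.ext
      show ev (Polynomial.C (φ a)) = ((αA a : ev.range) : K)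
      rw [hval]
      exact Polynomial.eval₂_C _ _
    calc A'.subtype (αA a ^ (j + j' + 1) * (v * v'))
        = A'.subtype (αA a) * (A'.subtype (αA a ^ j * v) * A'.subtype (αA a ^ j' * v')) := by
          simp only [map_mul, map_pow]; ring
      _ = (ev.rangeRestrict (Polynomial.C g) * A'.subtype (αA a ^ j * v)) *
          (ev.rangeRestrict (Polynomial.C c) * A'.subtype (αA a ^ j' * v')) := by rw [← hgc]; ring
      _ = A'.subtype (αA a ^ (i + i') * (u * u')) := by
          rw [he, he']; simp only [map_mul, map_pow]; ring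
  obtain ⟨k, hk⟩ := Nat.exists_eq_add_of_le (show j + j' + 1 + 1 ≤ i + i' by omega)
  have hmain' : αA a ^ (j + j' + 1) * (v * v') = αA a ^ (j + j' + 1) * (αA a ^ (k + 1) * (u * u')) := by
    rw [hmain, hk]; ring
  have hvv := mul_left_cancel₀ (pow_ne_zero _ ha0) hmain'
  have : v * v' ∈ Q := by
    rw [hQeq, hvv, pow_add, pow_one]
    exact Ideal.mem_span_singleton.2 ⟨αA a ^ k * (u * u'), by ring⟩
  rcases (Ideal.IsPrime.mem_or_mem ‹_› this) with h | h
  · exact hv h
  · exact hv' h

/-- An ideal sheaf with principal nonzero stalks is an effective Cartier divisor. -/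
theorem isEffCartierIdeal_of_stalks {X : Scheme.{u}} [IsLocallyNoetherian X] [IsIntegral X] (I : X.IdealSheafData)
    (h : ∀ x, ∃ γ, γ ≠ 0 ∧ stalkIdeal I x = Ideal.span {γ}) : _root_.BlowUp.IsEffCartierIdeal I := by
  classical
  intro x
  obtain ⟨V, hxV, -⟩ := GrothLib.BlowUp.exists_affine_mem_le (W := (⊤ : X.Opens)) (x := x) trivial
  let _ := TopCat.Presheaf.algebra_section_stalk X.presheaf (⟨x, hxV⟩ : V.1)
  haveI := V.2.isLocalization_stalk ⟨x, hxV⟩
  let P := (V.2.primeIdealOf ⟨x, hxV⟩).asIdeal
  let π := algebraMap Γ(X, V.1) (X.presheaf.stalk x)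
  haveI : IsNoetherianRing Γ(X, V.1) := IsLocallyNoetherian.component_noetherian V
  obtain ⟨γ, hγ0, hγ⟩ := h x
  rw [stalkIdeal_eq I V hxV] at hγ
  change (I.ideal V).map π = _ at hγ
  obtain ⟨t₀, s, rfl⟩ := IsLocalization.exists_mk'_eq P.primeCompl γ
  have hγ' : (I.ideal V).map π = Ideal.span {π t₀} := by
    rw [hγ]
    show _ = Ideal.span {algebraMap _ _ t₀}
    rw [← IsLocalization.mk'_spec (X.presheaf.stalk x) t₀ s,
      Ideal.span_singleton_mul_right_unit (IsLocalization.map_units _ s)]
  obtain ⟨u₀, hu₀, hu₀t⟩ := (IsLocalization.algebraMap_mem_map_algebraMap_iff P.primeCompl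
    (X.presheaf.stalk x) _ _).1 (hγ' ▸ Ideal.mem_span_singleton_self (π t₀))
  let t := u₀ * t₀
  have hγt : (I.ideal V).map π = Ideal.span {π t} := by
    rw [hγ', show π t = π t₀ * π u₀ by rw [← map_mul, mul_comm],
      Ideal.span_singleton_mul_right_unit (IsLocalization.map_units _ (⟨u₀, hu₀⟩ : P.primeCompl))]
  obtain ⟨S, hS⟩ := IsNoetherian.noetherian (I.ideal V)
  have key : ∀ r ∈ I.ideal V, ∃ u ∉ P, u * r ∈ Ideal.span {t} := fun r hr => by
    have h1 : π r ∈ (Ideal.span {t}).map π := by
      rw [Ideal.map_span, Set.image_singleton, ← hγt]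
      exact Ideal.mem_map_of_mem π hr
    obtain ⟨u, hu, hur⟩ := (IsLocalization.algebraMap_mem_map_algebraMap_iff P.primeCompl
      (X.presheaf.stalk x) _ _).1 h1
    exact ⟨u, hu, hur⟩
  choose! u hu hut using key
  let e := ∏ r ∈ S, u r
  have he : e ∉ P := by
    rw [Ideal.IsPrime.prod_mem_iff]
    rintro ⟨r, hr, hur⟩
    exact hu r (hS ▸ Ideal.subset_span hr) hur
  have hxe : x ∈ X.basicOpen e := by
    rw [X.mem_basicOpen e x hxV]
    exact IsLocalization.map_units _ (⟨e, he⟩ : P.primeCompl)
  haveI : Nonempty (X.affineBasicOpen e).1 := ⟨⟨x, hxe⟩⟩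
  let res := (X.presheaf.map (homOfLE (X.basicOpen_le e)).op).hom
  refine ⟨X.affineBasicOpen e, hxe, res t, mem_nonZeroDivisors_of_ne_zero fun h0 => hγ0 ?_, ?_⟩
  · have h1 : π t = 0 := by
      have := congrArg (X.presheaf.germ (X.basicOpen e) x hxe) h0
      rwa [TopCat.Presheaf.germ_res_apply, map_zero] at this
    have h2 : π t₀ = 0 := by
      rw [show π t = π t₀ * π u₀ by rw [← map_mul, mul_comm]] at h1
      exact (IsUnit.mul_left_eq_zero (IsLocalization.map_units _ (⟨u₀, hu₀⟩ : P.primeCompl))).1 h1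
    refine (IsUnit.mul_left_eq_zero (IsLocalization.map_units (X.presheaf.stalk x) s)).1 ?_
    rw [IsLocalization.mk'_spec]
    exact h2
  · rw [← I.map_ideal_basicOpen V e]
    refine le_antisymm (Ideal.map_le_iff_le_comap.2 ?_) ((Ideal.span_singleton_le_iff_mem _).2 (Ideal.mem_map_of_mem _ hu₀t))
    rw [← hS]
    refine Ideal.span_le.2 fun r hr => ?_
    have h1 : res (u r) * res r ∈ Ideal.span {res t} := by
      rw [← map_mul, ← Set.image_singleton, ← Ideal.map_span]
      exact Ideal.mem_map_of_mem _ (hut r (hS ▸ Ideal.subset_span hr))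
    have hunit : IsUnit (res (u r)) := by
      refine isUnit_of_dvd_unit (map_dvd res (Finset.dvd_prod_of_mem u hr)) ?_
      exact RingedSpace.isUnit_res_basicOpen X.toLocallyRingedSpace.toRingedSpace e
    exact (Ideal.unit_mul_mem_iff_mem _ hunit).1 h1

end GrothLib.ArSurf29
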