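import Groth.Agent.Lib.ArSurf29.ExcFinite
import Groth.Agent.Lib.AlgSp.Dim

/-!
# Existence of relatively minimal regular models
-/

set_option autoImplicit false
set_option linter.all false
set_option backward.isDefEq.respectTransparency false

universe u

open CategoryTheory CategoryTheory.Limits AlgebraicGeometry TopologicalSpace Opposite

noncomputable section

namespace GrothLib.ArSurf29

/-- There are no specialization chains of four distinct points in dimension two. -/
theorem no_chain_four {X : Scheme.{u}} (hdim : topologicalKrullDim X ≤ 2) {a b c d : X}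
    (h1 : a ⤳ b) (h2 : b ⤳ c) (h3 : c ⤳ d) (n1 : a ≠ b) (n2 : b ≠ c) (n3 : c ≠ d) : False := by
  have k1 : d < c := lt_of_le_not_ge h3 fun h => n3 (h3.antisymm h).eq
  have k2 : c < b := lt_of_le_not_ge h2 fun h => n2 (h2.antisymm h).eq
  have k3 : b < a := lt_of_le_not_ge h1 fun h => n1 (h1.antisymm h).eq
  let l : LTSeries X := (((RelSeries.singleton _ d).snoc _ k1).snoc b
    (by rw [RelSeries.last_snoc]; exact k2)).snoc a (by rw [RelSeries.last_snoc]; exact k3)
  have hd : Snapper.DimLT (Set.univ : Set X) (2 + 1) := Snapper.dimLT_of_dim_le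
    ((IsHomeomorph.topologicalKrullDim_eq _ (Homeomorph.Set.univ X).isHomeomorph).le.trans hdim)
  have := hd l fun _ => trivial
  simp [l] at this

theorem two_le_dim {X : Scheme.{u}} {a b c : X} (h1 : a ⤳ b) (h2 : b ⤳ c) (n1 : a ≠ b) (n2 : b ≠ c) :
    (2 : WithBot ℕ∞) ≤ topologicalKrullDim X := by
  have k2 : c < b := lt_of_le_not_ge h2 fun h => n2 (h2.antisymm h).eq
  have k3 : b < a := lt_of_le_not_ge h1 fun h => n1 (h1.antisymm h).eq
  let l : LTSeries X := ((RelSeries.singleton _ c).snoc _ k2).snoc a (by rw [RelSeries.last_snoc]; exact k3)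
  refine le_trans ?_ ((Snapper.length_le_dim (Set.univ : Set X) l fun _ => trivial).trans
    (IsHomeomorph.topologicalKrullDim_eq _ (Homeomorph.Set.univ X).isHomeomorph).le)
  simp [l]

theorem exists_isClosed_specialization {X : Scheme.{u}} [IsLocallyNoetherian X] [CompactSpace X] (x : X) :
    ∃ c : X, x ⤳ c ∧ IsClosed ({c} : Set X) := by
  obtain ⟨c, hc, hcc⟩ := IsClosed.exists_closed_singleton (isClosed_closure (s := ({x} : Set X)))
    ⟨x, subset_closure rfl⟩
  exact ⟨c, specializes_iff_mem_closure.2 hc, hcc⟩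

variable {R : Type u} [CommRing R] [IsDedekindDomain R]

/-- In a surface over a Dedekind domain a non-closed vertical point has no generalization in its fibre. -/
theorem eq_of_specializes_vertical {X : Scheme.{u}} [IsIntegral X] [IsLocallyNoetherian X] [CompactSpace X]
    (f : X ⟶ Spec (CommRingCat.of R)) (hdim : topologicalKrullDim X ≤ 2) (hξ : (f (genericPoint X)).asIdeal = ⊥)
    {x w : X} (hx : ¬ IsClosed ({x} : Set X)) (hv : (f x).asIdeal ≠ ⊥) (hw : w ⤳ x) (hwf : f w = f x) :
    w = x := by
  by_contra hne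
  obtain ⟨c, hxc, hc⟩ := exists_isClosed_specialization x
  refine no_chain_four hdim (genericPoint_specializes w) hw hxc (fun h => hv ?_) hne fun h => hx (h ▸ hc)
  rw [← hwf, ← h, hξ]

/-- There are finitely many non-closed points over a closed point of the base. -/
theorem finite_nonclosed_fibre {X : Scheme.{u}} [IsIntegral X] [IsNoetherian X]
    (f : X ⟶ Spec (CommRingCat.of R)) (hdim : topologicalKrullDim X ≤ 2) (hξ : (f (genericPoint X)).asIdeal = ⊥)
    (p : Spec (CommRingCat.of R)) (hp : p.asIdeal ≠ ⊥) :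
    {x : X | f x = p ∧ ¬ IsClosed ({x} : Set X)}.Finite := by
  have hpc : IsClosed ({p} : Set (Spec (CommRingCat.of R))) :=
    (PrimeSpectrum.isClosed_singleton_iff_isMaximal p).2 (p.isPrime.isMaximal hp)
  have hF : IsClosed (f ⁻¹' {p}) := hpc.preimage f.continuous
  haveI : NoetherianSpace ↥(f ⁻¹' {p}) := inferInstance
  haveI : QuasiSober ↥(f ⁻¹' {p}) := hF.isClosedEmbedding_subtypeVal.quasiSober
  let φ : {x : X | f x = p ∧ ¬ IsClosed ({x} : Set X)} → irreducibleComponents ↥(f ⁻¹' {p}) := fun x =>
    ⟨irreducibleComponent ⟨x.1, x.2.1⟩, irreducibleComponent_mem_irreducibleComponents _⟩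
  haveI : Finite (irreducibleComponents ↥(f ⁻¹' {p})) :=
    NoetherianSpace.finite_irreducibleComponents.to_subtype
  refine Set.finite_coe_iff.1 (Finite.of_injective φ fun x x' h => ?_)
  have key : ∀ y : {x : X | f x = p ∧ ¬ IsClosed ({x} : Set X)}, ∀ w,
      IsGenericPoint w ((φ y : Set ↥(f ⁻¹' {p}))) → (w : X) = y.1 := fun y w hw =>
    eq_of_specializes_vertical f hdim hξ y.2.2 (by rw [y.2.1]; exact hp)
      ((hw.specializes (mem_irreducibleComponent)).map continuous_subtype_val)
      ((show f w.1 = p from w.2).trans y.2.1.symm)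
  obtain ⟨w, hw⟩ := QuasiSober.sober (S := (φ x : Set ↥(f ⁻¹' {p}))) isIrreducible_irreducibleComponent
    isClosed_irreducibleComponent
  exact Subtype.ext ((key x w hw).symm.trans (key x' w (h ▸ hw)))

section Target

variable {X Y : Over (Spec (CommRingCat.of R))} (g : X ⟶ Y) [IsIso ((Neron.genericFibre R).map g)]

theorem hom_genericPoint {X : Scheme.{u}} [IrreducibleSpace X] (f : X ⟶ Spec (CommRingCat.of R)) [Flat f] :
    (f (genericPoint X)).asIdeal = ⊥ := by
  obtain ⟨w, hw, hw'⟩ := Flat.generalizingMap f ((PrimeSpectrum.le_iff_specializes (⊥ : PrimeSpectrum R)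
    (f (genericPoint X))).1 bot_le)
  rw [show genericPoint X = w from ((genericPoint_specializes w).antisymm hw).eq, hw']
  rfl

variable [IsProper X.hom] [IsProper Y.hom] [Flat X.hom] [Flat Y.hom] [IsIntegral X.left]
  (hY : ∀ y : Y.left, IsRegularLocalRing (Y.left.presheaf.stalk y))
include g hY

/-- A regular flat proper scheme which is birational to an integral one is integral. -/
theorem target_integral : ∃ _ : IsIntegral Y.left, g.left (genericPoint X.left) = genericPoint Y.left ∧
    Function.Surjective g.left := by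
  haveI : IsProper (g.left ≫ Y.hom) := by rw [Over.w g]; infer_instance
  haveI : IsProper g.left := IsProper.of_comp g.left Y.hom
  have hdom : ∀ y : Y.left, g.left (genericPoint X.left) ⤳ y := fun y => by
    obtain ⟨ξ, hξ⟩ := QuasiSober.sober (isIrreducible_irreducibleComponent (x := y)) isClosed_irreducibleComponent
    obtain ⟨w, hw, hw'⟩ := Flat.generalizingMap Y.hom ((PrimeSpectrum.le_iff_specializes (⊥ : PrimeSpectrum R)
      (Y.hom ξ)).1 bot_le)
    obtain ⟨x, rfl⟩ := exists_over_generic g (show (Y.hom w).asIdeal = ⊥ by rw [hw']; rfl)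
    exact (((genericPoint_specializes x).map g.left.continuous).trans hw).trans (hξ.specializes mem_irreducibleComponent)
  haveI : Nonempty Y.left := ⟨g.left (genericPoint X.left)⟩
  haveI : IrreducibleSpace Y.left := by
    refine { isPreirreducible_univ := ?_, toNonempty := ⟨g.left (genericPoint X.left)⟩ }
    rw [← show closure {g.left (genericPoint X.left)} = Set.univ from
      Set.eq_univ_of_forall fun y => specializes_iff_mem_closure.1 (hdom y)]
    exact isIrreducible_singleton.closure.2
  haveI : ∀ y : Y.left, _root_.IsReduced (Y.left.presheaf.stalk y) := fun y => by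
    haveI := hY y
    haveI := CMFree.isDomain_of_isRegularLocalRing (Y.left.presheaf.stalk y)
    infer_instance
  haveI : IsReduced Y.left := isReduced_of_isReduced_stalk _
  haveI : IsIntegral Y.left := isIntegral_of_irreducibleSpace_of_isReduced _
  exact ⟨inferInstance, ((hdom _).antisymm (genericPoint_specializes _)).eq, fun u =>
    g.left.isClosedMap.isClosed_range.closure_subset_iff.2
      (Set.singleton_subset_iff.2 ⟨_, rfl⟩) (specializes_iff_mem_closure.1 (hdom u))⟩

omit hY in
theorem over_apply (x : X.left) : Y.hom (g.left x) = X.hom x := by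
  rw [← Scheme.Hom.comp_apply, Over.w g]

/-- The target of a birational morphism from a surface is a surface. -/
theorem target_dim (hdim : topologicalKrullDim X.left = 2) (hR : ¬ IsField R) :
    topologicalKrullDim Y.left = 2 := by
  obtain ⟨_, hgξ, hsurj⟩ := target_integral g hY
  haveI : IsProper (g.left ≫ Y.hom) := by rw [Over.w g]; infer_instance
  haveI : IsProper g.left := IsProper.of_comp g.left Y.hom
  refine le_antisymm ?_ ?_
  · exact (AlgSp.topologicalKrullDim_le_of_specializingMap g.left.continuous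
      g.left.isClosedMap.specializingMap hsurj).trans hdim.le
  have hX0 : X.hom (genericPoint X.left) = (⊥ : PrimeSpectrum R) := PrimeSpectrum.ext (hom_genericPoint X.hom)
  obtain ⟨c, hc0, hcne⟩ : ∃ c, X.hom c = (⊥ : PrimeSpectrum R) ∧ c ≠ genericPoint X.left := by
    by_contra h
    push Not at h
    obtain ⟨_, ⟨V, hV, rfl⟩, hV1, -⟩ := X.left.isBasis_affineOpens.exists_subset_of_mem_open
      (Set.mem_univ (genericPoint X.left)) isOpen_univ
    exact not_isFinite_dedekind X.hom hdim (isFinite_of_isolated_dedekind X.hom V hV _ hV1 _ hX0 fun v _ hv => h v hv)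
  obtain ⟨m, hm⟩ := Ideal.exists_maximal R
  have hm0 : m ≠ ⊥ := Ring.ne_bot_of_isMaximal_of_not_isField hm hR
  obtain ⟨e, hce, he⟩ := Y.hom.isClosedMap.specializingMap (a := g.left c) (show Y.hom (g.left c) ⤳ (⟨m, hm.isPrime⟩ : PrimeSpectrum R) by
    rw [over_apply g, hc0]
    exact (PrimeSpectrum.le_iff_specializes _ _).1 bot_le)
  refine two_le_dim (genericPoint_specializes (g.left c)) hce ?_ ?_
  · rw [← hgξ]
    exact fun h => hcne (injective_over_generic g (hom_genericPoint X.hom) (by rw [hc0]; rfl) h).symm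
  · intro h
    apply hm0
    have := congrArg Y.hom h
    rw [over_apply g, hc0, he] at this
    exact congrArg PrimeSpectrum.asIdeal this.symm

end Target

section Descent

/-- Integral global functions descend along birational morphisms to normal schemes. -/
theorem exists_appTop_eq {X Y : Scheme.{u}} [IsIntegral X] [IsIntegral Y]
    (hN : ∀ y : Y, IsIntegrallyClosed (Y.presheaf.stalk y)) (g : X ⟶ Y) (h : Y ⟶ Spec (CommRingCat.of R))
    (e : g (genericPoint X) = genericPoint Y) (hb : Function.Bijective (g.stalkMap (genericPoint X)).hom)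
    (r : Γ(X, ⊤)) (hr : (struct (g ≫ h)).IsIntegralElem r) : ∃ s : Γ(Y, ⊤), g.appTop s = r := by
  haveI : Nonempty (⊤ : X.Opens) := ⟨⟨genericPoint X, trivial⟩⟩
  haveI : Nonempty (⊤ : Y.Opens) := ⟨⟨genericPoint Y, trivial⟩⟩
  obtain ⟨z, hz⟩ := hb.2 (X.germToFunctionField ⊤ r)
  have hint : ((Y.presheaf.germ ⊤ (g (genericPoint X)) trivial).hom.comp (struct h)).IsIntegralElem z := by
    obtain ⟨P, hP, hPr⟩ := hr
    refine ⟨P, hP, hb.1 ?_⟩
    rw [map_zero, Polynomial.hom_eval₂, hz]
    have h0 := congrArg (X.germToFunctionField ⊤).hom hPr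
    rw [map_zero, Polynomial.hom_eval₂] at h0
    convert h0 using 2
    ext a
    exact Scheme.Hom.germ_stalkMap_apply g ⊤ (genericPoint X) trivial _
  have key : ∀ (v : Y), v = genericPoint Y → ∀ z : Y.presheaf.stalk v,
      ((Y.presheaf.germ ⊤ v trivial).hom.comp (struct h)).IsIntegralElem z →
      ∃ s, Y.presheaf.germ ⊤ v trivial s = z := by
    rintro v rfl z hz
    exact exists_global_of_integral hN (struct h) z hz
  obtain ⟨s, hs⟩ := key _ e z hint
  refine ⟨s, X.germToFunctionField_injective ⊤ ?_⟩
  rw [← hz, ← hs]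
  exact (Scheme.Hom.germ_stalkMap_apply g ⊤ (genericPoint X) trivial s).symm

end Descent

/-- The points contracted by a morphism over `R`. -/
def contractedPts {X Y : Over (Spec (CommRingCat.of R))} (g : X ⟶ Y) : Set X.left :=
  {x | ¬ IsClosed ({x} : Set X.left) ∧ (X.hom x).asIdeal ≠ ⊥ ∧ IsClosed ({g.left x} : Set Y.left)}

/-- All contractible curves of a normal surface lie in finitely many closed fibres. -/
theorem exists_bound_contracted {X : Over (Spec (CommRingCat.of R))} [IsProper X.hom] [Flat X.hom]
    [IsIntegral X.left] (hN : ∀ x : X.left, IsIntegrallyClosed (X.left.presheaf.stalk x))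
    (hdim : topologicalKrullDim X.left = 2) :
    ∃ T : Set X.left, T.Finite ∧ ∀ (Y : Over (Spec (CommRingCat.of R))) (g : X ⟶ Y),
      (∀ y : Y.left, IsRegularLocalRing (Y.left.presheaf.stalk y)) → IsProper Y.hom → Flat Y.hom →
      topologicalKrullDim Y.left = 2 → IsIso ((Neron.genericFibre R).map g) → contractedPts g ⊆ T := by
  haveI : IsLocallyNoetherian X.left := LocallyOfFiniteType.isLocallyNoetherian X.hom
  haveI : CompactSpace X.left := QuasiCompact.compactSpace_of_compactSpace X.hom
  haveI : IsNoetherian X.left := {}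
  have hξ := hom_genericPoint X.hom
  obtain ⟨b, hb, hirr⟩ := exists_irreducible_fibres X.hom hN hξ
  refine ⟨⋃ p ∈ {p : PrimeSpectrum R | b ∈ p.asIdeal}, {x | X.hom x = p ∧ ¬ IsClosed ({x} : Set X.left)}, ?_, ?_⟩
  · refine Set.Finite.biUnion ?_ fun p hp => finite_nonclosed_fibre X.hom hdim.le hξ p fun h =>
      hb (by simpa [h] using (show b ∈ p.asIdeal from hp))
    refine Set.Finite.of_finite_image (f := PrimeSpectrum.asIdeal) ?_ (fun _ _ _ _ h => PrimeSpectrum.ext h)
    refine (Ideal.finite_factors (I := Ideal.span {b}) (by simpa using hb) |>.image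
      IsDedekindDomain.HeightOneSpectrum.asIdeal).subset ?_
    rintro _ ⟨p, hp, rfl⟩
    refine ⟨⟨p.asIdeal, p.isPrime, fun h => hb (by simpa [h] using (show b ∈ p.asIdeal from hp))⟩, ?_, rfl⟩
    exact Ideal.dvd_iff_le.2 ((Ideal.span_singleton_le_iff_mem _).2 hp)
  intro Y g hY hYp hYf hYdim hg
  rintro x ⟨hxc, hxv, hgx⟩
  by_contra hxT
  have hbp : b ∉ (X.hom x).asIdeal := fun h => hxT (Set.mem_biUnion (x := X.hom x) h ⟨rfl, hxc⟩)
  obtain ⟨_, hgξ, hsurj⟩ := target_integral g hY
  haveI : IsProper (g.left ≫ Y.hom) := by rw [Over.w g]; infer_instance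
  haveI : IsProper g.left := IsProper.of_comp g.left Y.hom
  haveI : IsLocallyNoetherian Y.left := LocallyOfFiniteType.isLocallyNoetherian Y.hom
  haveI : CompactSpace Y.left := QuasiCompact.compactSpace_of_compactSpace Y.hom
  have hNY : ∀ y, IsIntegrallyClosed (Y.left.presheaf.stalk y) := fun y => by
    haveI := hY y
    exact RegLoc.isIntegrallyClosed_of_isRegularLocalRing _
  let y := g.left x
  let p := X.hom x
  have hpmax : p.asIdeal.IsMaximal := p.isPrime.isMaximal hxv
  obtain ⟨w, hwy, hwp, hne⟩ : ∃ w, w ⤳ y ∧ Y.hom w = p ∧ w ≠ y := by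
    by_contra h
    push Not at h
    have hFc : IsClosed (Y.hom ⁻¹' {p}) :=
      ((PrimeSpectrum.isClosed_singleton_iff_isMaximal p).2 hpmax).preimage Y.hom.continuous
    haveI : QuasiSober ↥(Y.hom ⁻¹' {p}) := hFc.isClosedEmbedding_subtypeVal.quasiSober
    haveI : IsNoetherian Y.left := {}
    let y' : ↥(Y.hom ⁻¹' {p}) := ⟨y, over_apply g x⟩
    let O : Set (Set ↥(Y.hom ⁻¹' {p})) := {W ∈ irreducibleComponents _ | y' ∉ W}
    have hOc : IsClosed (Subtype.val '' ⋃ W ∈ O, W) :=
      hFc.isClosedEmbedding_subtypeVal.isClosedMap _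
        ((NoetherianSpace.finite_irreducibleComponents.subset fun _ hW => hW.1).isClosed_biUnion
          fun W hW => isClosed_of_mem_irreducibleComponents W hW.1)
    have hyO : y ∈ (Subtype.val '' ⋃ W ∈ O, W)ᶜ := by
      rintro ⟨v, hv, hvy⟩
      obtain ⟨W, hW, hvW⟩ := Set.mem_iUnion₂.1 hv
      exact hW.2 ((show v = y' from Subtype.ext hvy) ▸ hvW)
    obtain ⟨_, ⟨U, hU, rfl⟩, hyU, hUO⟩ := Y.left.isBasis_affineOpens.exists_subset_of_mem_open hyO hOc.isOpen_compl
    refine not_isFinite_dedekind Y.hom hYdim (isFinite_of_isolated_dedekind Y.hom U hU y hyU p (over_apply g x) ?_)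
    intro v hvU hvp
    let v' : ↥(Y.hom ⁻¹' {p}) := ⟨v, hvp⟩
    by_cases hW : y' ∈ irreducibleComponent v'
    · obtain ⟨w, hw⟩ := QuasiSober.sober (S := irreducibleComponent v') isIrreducible_irreducibleComponent
        isClosed_irreducibleComponent
      have hwy : (w : Y.left) = y := h _ ((hw.specializes hW).map continuous_subtype_val) w.2
      exact ((hw.specializes mem_irreducibleComponent).map continuous_subtype_val).mem_closed hgx hwy
    · exact absurd ⟨v', Set.mem_iUnion₂.2 ⟨_, ⟨irreducibleComponent_mem_irreducibleComponents v', hW⟩,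
        mem_irreducibleComponent⟩, rfl⟩ (hUO hvU)
  obtain ⟨x', rfl⟩ := hsurj w
  have hX' : X.hom x' = p := by rw [← over_apply g]; exact hwp
  have hbij := bijective_stalkMap_of_generic g hξ
  obtain ⟨ζ, hζp, hζx', hζx⟩ := hirr p hbp hpmax x' x hX' rfl fun r hr hxr => by
    obtain ⟨s, rfl⟩ := exists_appTop_eq hNY g.left Y.hom hgξ hbij r (by rwa [Over.w g])
    rw [← Scheme.preimage_basicOpen_top] at hxr ⊢
    exact hwy.mem_open (Y.left.basicOpen s).2 hxr
  have hζ : ζ = x := eq_of_specializes_vertical X.hom hdim.le hξ hxc hxv hζx hζp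
  subst hζ
  exact hne ((hζx'.map g.left.continuous).mem_closed hgx rfl)

/-- A closed set of closed points of a noetherian sober space is discrete. -/
theorem isOpen_singleton_of_isClosed_points {F P : Type u} [TopologicalSpace F] [TopologicalSpace P]
    [NoetherianSpace P] [QuasiSober P] {ι : F → P} (hι : Topology.IsEmbedding ι) (hc : IsClosed (Set.range ι))
    (h : ∀ v ∈ Set.range ι, IsClosed ({v} : Set P)) (a : F) : IsOpen ({a} : Set F) := by
  haveI : QuasiSober ↥(Set.range ι) := hc.isClosedEmbedding_subtypeVal.quasiSober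
  have hfin : (Set.range ι).Finite := by
    have h1 : ∀ Z ∈ irreducibleComponents ↥(Set.range ι), Z.Finite := by
      intro Z hZ
      obtain ⟨z, hz⟩ := QuasiSober.sober hZ.1 (isClosed_of_mem_irreducibleComponents Z hZ)
      refine (Set.finite_singleton z).subset fun w hw => Subtype.ext ?_
      exact ((hz.specializes hw).map continuous_subtype_val).mem_closed (h z z.2) rfl
    have h2 : (Set.univ : Set ↥(Set.range ι)).Finite :=
      (NoetherianSpace.finite_irreducibleComponents.biUnion h1).subset fun c _ =>
        Set.mem_biUnion (irreducibleComponent_mem_irreducibleComponents c) mem_irreducibleComponent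
    exact Set.finite_coe_iff.1 (Set.finite_univ_iff.1 h2)
  have h3 : IsClosed (Set.range ι \ {ι a}) := by
    rw [← Set.biUnion_of_singleton (Set.range ι \ {ι a})]
    exact (hfin.diff (t := {ι a})).isClosed_biUnion fun v hv => h v hv.1
  convert (h3.preimage hι.continuous).isOpen_compl using 1
  ext b
  simp [hι.injective.eq_iff]

/-- A birational morphism to a regular scheme which contracts nothing is an isomorphism. -/
theorem isIso_of_contractedPts_eq_empty {X Y : Over (Spec (CommRingCat.of R))} [IsProper X.hom] [IsProper Y.hom]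
    [Flat X.hom] [Flat Y.hom] [IsIntegral X.left]
    (hY : ∀ y : Y.left, IsRegularLocalRing (Y.left.presheaf.stalk y))
    (g : X ⟶ Y) [IsIso ((Neron.genericFibre R).map g)] (hS : contractedPts g = ∅) : IsIso g := by
  obtain ⟨_, e, -⟩ := target_integral g hY
  haveI : IsProper (g.left ≫ Y.hom) := by rw [Over.w g]; infer_instance
  haveI : IsProper g.left := IsProper.of_comp g.left Y.hom
  haveI : IsLocallyNoetherian X.left := LocallyOfFiniteType.isLocallyNoetherian X.hom
  haveI : IsLocallyNoetherian Y.left := LocallyOfFiniteType.isLocallyNoetherian Y.hom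
  haveI : CompactSpace X.left := QuasiCompact.compactSpace_of_compactSpace X.hom
  haveI : IsNoetherian X.left := {}
  have hb := bijective_stalkMap_of_generic g (hom_genericPoint X.hom)
  have hN : ∀ y, IsIntegrallyClosed (Y.left.presheaf.stalk y) := fun y => by
    haveI := hY y
    exact RegLoc.isIntegrallyClosed_of_isRegularLocalRing _
  have hcl : ∀ x : X.left, IsClosed ({x} : Set X.left) → g.left.QuasiFiniteAt x := by
    intro x hx
    refine Scheme.Hom.quasiFiniteAt_iff_isOpen_singleton_asFiber.2 ?_
    by_cases hs : (X.hom x).asIdeal = ⊥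
    · haveI : Subsingleton ↥(g.left.fiber (g.left x)) := ⟨fun a b => by
        have h1 : ∀ c, g.left (g.left.fiberι _ c) = g.left x := fun c => (g.left.range_fiberι _).le ⟨c, rfl⟩
        exact (g.left.fiberι _).isEmbedding.injective
          (injective_over_generic g (by rw [← over_apply g, h1, over_apply g]; exact hs)
            (by rw [← over_apply g, h1, over_apply g]; exact hs) ((h1 a).trans (h1 b).symm))⟩
      exact isOpen_discrete _
    have hy : IsClosed ({g.left x} : Set Y.left) := by
      rw [← Set.image_singleton]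
      exact g.left.isClosedMap _ hx
    refine isOpen_singleton_of_isClosed_points (g.left.fiberι (g.left x)).isEmbedding ?_
      (fun v hv => ?_) _
    · rw [g.left.range_fiberι]
      exact hy.preimage g.left.continuous
    rw [g.left.range_fiberι] at hv
    have hv' : g.left v = g.left x := hv
    by_contra hc
    have hvs : (X.hom v).asIdeal ≠ ⊥ := by
      rw [← over_apply g, hv', over_apply g]
      exact hs
    have h3 : v ∈ contractedPts g := ⟨hc, hvs, by rw [hv']; exact hy⟩
    exact Set.eq_empty_iff_forall_notMem.1 hS v h3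
  haveI : LocallyQuasiFinite g.left := by
    have hall : ∀ x, g.left.QuasiFiniteAt x := fun x => by
      obtain ⟨x₀, hx₀, hcx₀⟩ := IsClosed.exists_closed_singleton (isClosed_closure (s := ({x} : Set X.left)))
        ⟨x, subset_closure rfl⟩
      exact (specializes_iff_mem_closure.2 hx₀).mem_open g.left.isOpen_quasiFiniteAt (hcl x₀ hcx₀)
    refine locallyQuasiFinite_iff_isDiscrete_preimage_singleton.2 fun y => ?_
    haveI : DiscreteTopology ↥(g.left.fiber y) := discreteTopology_iff_isOpen_singleton.2 fun a => by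
      obtain ⟨x, rfl⟩ : ∃ x, g.left x = y := ⟨_, (g.left.range_fiberι y).le ⟨a, rfl⟩⟩
      obtain ⟨v, hv⟩ : ∃ v, v = g.left.fiberι _ a := ⟨_, rfl⟩
      have hvy : g.left v = g.left x := hv ▸ (g.left.range_fiberι _).le ⟨a, rfl⟩
      have h1 := Scheme.Hom.quasiFiniteAt_iff_isOpen_singleton_asFiber.1 (hall v)
      have h2 : ∀ (y : Y.left) (a : ↥(g.left.fiber y)), y = g.left v → v = g.left.fiberι y a → IsOpen ({a} : Set ↥(g.left.fiber y)) := by
        rintro y a rfl hva
        rwa [show a = g.left.asFiber v from (g.left.fiberι _).isEmbedding.injective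
          (hva.symm.trans (g.left.fiberι_asFiber v).symm)]
      exact h2 _ a hvy.symm hv
    exact ⟨(g.left.fiberHomeo y).symm.isEmbedding.discreteTopology⟩
  haveI : IsFinite g.left := IsFinite.of_isProper_of_locallyQuasiFinite _
  haveI : IsIso g.left := Birat.isIso_of_finite_birational g.left e hb hN
  haveI : IsIso ((Over.forget _).map g) := ‹IsIso g.left›
  exact isIso_of_reflects_iso g (Over.forget _)


end GrothLib.ArSurf29
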