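import Groth.Agent.Lib.ArSurf29.FactorBlowUp
import Groth.Agent.Lib.ArSurf29.RelMinExists
import Groth.Agent.Lib.RegUFD.Basic
import Groth.Agent.Lib.Ref1.Extend
import Groth.Agent.Lib.Birat.LqfSep
import Groth.Agent.Lib.BlowUp.Exists
import Groth.Agent.Lib.BlowUp.Universal
import Groth.Agent.Lib.BlowUpProper.Basic
import Groth.Agent.Lib.BlowUpRegular.Main

/-!
# The ideal of a point with a curve over it becomes invertible
-/

set_option autoImplicit false
set_option linter.all false
set_option backward.isDefEq.respectTransparency false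

universe u

open CategoryTheory CategoryTheory.Limits AlgebraicGeometry TopologicalSpace IsLocalRing
open GrothLib.CartierDescent (stalkIdeal stalkIdeal_comap stalkIdeal_eq_top_iff stalkIdeal_map_specializes)

noncomputable section

namespace GrothLib.ArSurf29

/-- A point of a connected closed set with a second point is a proper specialization inside it. -/
theorem exists_generalization_of_isPreconnected {T : Type u} [TopologicalSpace T] [NoetherianSpace T] [QuasiSober T]
    {G : Set T} (hG : IsClosed G) (hconn : IsPreconnected G) {x z : T} (hx : x ∈ G) (hxc : IsClosed ({x} : Set T))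
    (hz : z ∈ G) (hne : z ≠ x) : ∃ w ∈ G, w ⤳ x ∧ w ≠ x := by
  by_contra h
  push Not at h
  haveI : QuasiSober G := hG.isClosedEmbedding_subtypeVal.quasiSober
  let O : Set (Set G) := {W ∈ irreducibleComponents G | (⟨x, hx⟩ : G) ∉ W}
  have hc : IsClosed (Subtype.val '' ⋃ W ∈ O, W) := hG.isClosedEmbedding_subtypeVal.isClosedMap _
    ((NoetherianSpace.finite_irreducibleComponents.subset fun _ hW => hW.1).isClosed_biUnion
      fun W hW => isClosed_of_mem_irreducibleComponents W hW.1)
  have hcover : G ⊆ {x} ∪ Subtype.val '' ⋃ W ∈ O, W := by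
    intro v hv
    by_cases hW : (⟨x, hx⟩ : G) ∈ irreducibleComponent (⟨v, hv⟩ : G)
    · left
      obtain ⟨w, hw⟩ := QuasiSober.sober (S := irreducibleComponent (⟨v, hv⟩ : G)) isIrreducible_irreducibleComponent
        isClosed_irreducibleComponent
      have hwx : (w : T) = x := h _ w.2 ((hw.specializes hW).map continuous_subtype_val)
      exact ((hw.specializes mem_irreducibleComponent).map continuous_subtype_val).mem_closed hxc hwx
    · exact Or.inr ⟨⟨v, hv⟩, Set.mem_iUnion₂.2 ⟨_, ⟨irreducibleComponent_mem_irreducibleComponents _, hW⟩,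
        mem_irreducibleComponent⟩, rfl⟩
  obtain ⟨v, hvG, hv1, hv2⟩ := (isPreconnected_closed_iff.1 hconn) _ _ hxc hc hcover ⟨x, hx, rfl⟩
    ⟨z, hz, (hcover hz).resolve_left hne⟩
  obtain ⟨v', hv', rfl⟩ := hv2
  obtain ⟨W, hW, hvW⟩ := Set.mem_iUnion₂.1 hv'
  exact hW.2 ((show v' = ⟨x, hx⟩ from Subtype.ext hv1) ▸ hvW)

theorem st_vanishingIdeal_point {Y : Scheme.{u}} {y : Y} (hy : IsClosed ({y} : Set Y)) :
    stalkIdeal (Scheme.IdealSheafData.vanishingIdeal ⟨{y}, hy⟩) y = maximalIdeal (Y.presheaf.stalk y) := by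
  rw [← st_ptIdeal y, ptIdeal]
  congr 2
  exact Closeds.ext hy.closure_eq.symm

section

variable {X Y : Scheme.{u}} [IsIntegral X] [IsIntegral Y] [IsLocallyNoetherian X] [CompactSpace X]
  [IsLocallyNoetherian Y] (f : X ⟶ Y) [IsProper f]
  (e : f (genericPoint X) = genericPoint Y) (hb : Function.Bijective (f.stalkMap (genericPoint X)).hom)
include e hb

theorem stalkMap_injective_birational (x : X) : Function.Injective (f.stalkMap x).hom := by
  intro a a' h
  have key : ∀ (v : X) (hv : v = genericPoint X) (hv' : f v ⤳ f x),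
      Function.Injective (Y.presheaf.stalkSpecializes hv').hom := by
    rintro v rfl hv'
    have : ∀ (w : Y), w = genericPoint Y → ∀ h : w ⤳ f x, Function.Injective (Y.presheaf.stalkSpecializes h).hom := by
      rintro w rfl h
      exact IsFractionRing.injective (Y.presheaf.stalk (f x)) Y.functionField
    exact this _ e hv'
  refine key _ rfl ((genericPoint_specializes x).map f.continuous) (hb.1 ?_)
  have h1 : ∀ r, f.stalkMap (genericPoint X) (Y.presheaf.stalkSpecializes ((genericPoint_specializes x).map f.continuous) r) =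
      X.presheaf.stalkSpecializes (genericPoint_specializes x) (f.stalkMap x r) := fun r =>
    ConcreteCategory.congr_hom (Scheme.Hom.stalkSpecializes_stalkMap f _ _ (genericPoint_specializes x)) r
  exact (h1 a).trans ((congrArg _ h).trans (h1 a').symm)

theorem exists_fraction_birational (x : X) (z : X.functionField) : ∃ u v : Y.presheaf.stalk (f x), v ≠ 0 ∧
    z * algebraMap (X.presheaf.stalk x) X.functionField (f.stalkMap x v) =
      algebraMap (X.presheaf.stalk x) X.functionField (f.stalkMap x u) := by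
  obtain ⟨z₀, hz₀⟩ := hb.2 z
  have key : ∀ (w : Y) (hw : w = genericPoint Y) (h : w ⤳ f x) (z₀ : Y.presheaf.stalk w),
      ∃ u v : Y.presheaf.stalk (f x), v ≠ 0 ∧
        z₀ * Y.presheaf.stalkSpecializes h v = Y.presheaf.stalkSpecializes h u := by
    rintro w rfl h z₀
    obtain ⟨u, v, hv, hz⟩ := IsFractionRing.div_surjective (A := Y.presheaf.stalk (f x)) (K := Y.functionField) z₀
    refine ⟨u, v, nonZeroDivisors.ne_zero hv, ?_⟩
    show z₀ * algebraMap _ Y.functionField v = algebraMap _ _ u
    rw [← hz, div_mul_cancel₀]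
    exact (map_ne_zero_iff _ (IsFractionRing.injective _ Y.functionField)).2 (nonZeroDivisors.ne_zero hv)
  obtain ⟨u, v, hv, huv⟩ := key _ e ((genericPoint_specializes x).map f.continuous) z₀
  refine ⟨u, v, hv, ?_⟩
  have h1 : ∀ r, algebraMap (X.presheaf.stalk x) X.functionField (f.stalkMap x r) =
      f.stalkMap (genericPoint X) (Y.presheaf.stalkSpecializes ((genericPoint_specializes x).map f.continuous) r) :=
    fun r => (ConcreteCategory.congr_hom (Scheme.Hom.stalkSpecializes_stalkMap f _ _ (genericPoint_specializes x)) r).symm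
  rw [h1, h1, ← huv, map_mul]
  exact congrArg (· * _) hz₀.symm

variable (hX : ∀ x : X, IsRegularLocalRing (X.presheaf.stalk x)) (hdim : topologicalKrullDim X ≤ 2)
  {y : Y} (hy : IsClosed ({y} : Set Y)) [IsRegularLocalRing (Y.presheaf.stalk y)]
  (hdimy : ringKrullDim (Y.presheaf.stalk y) ≤ 2) (hy0 : maximalIdeal (Y.presheaf.stalk y) ≠ ⊥)
  (hbig : ∃ x x' : X, x ≠ x' ∧ f x = y ∧ f x' = y)
include hX hdim hdimy hy0 hbig

/-- The ideal of a point with a curve over it pulls back to an invertible ideal. -/
theorem isEffCartier_comap_point :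
    _root_.BlowUp.IsEffCartierIdeal ((Scheme.IdealSheafData.vanishingIdeal ⟨{y}, hy⟩).comap f) := by
  classical
  haveI : IsNoetherian X := {}
  haveI : IsDomain (Y.presheaf.stalk y) := CMFree.isDomain_of_isRegularLocalRing _
  let G : Set X := f ⁻¹' {y}
  have hGc : IsClosed G := hy.preimage f.continuous
  have hGconn : _root_.IsPreconnected G := by
    haveI := Stein.connectedSpace_fiber_of_birational f e
      ((ConcreteCategory.isIso_iff_bijective _).2 hb) y (by
        haveI := RegLoc.isIntegrallyClosed_of_isRegularLocalRing (Y.presheaf.stalk y)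
        exact Stein.isLocalRing_integralClosure_of_isIntegrallyClosed)
    have h2 := isPreconnected_range (f.fiberι y).continuous
    rw [f.range_fiberι y] at h2
    exact h2
  have hm : ∃ a b : Y.presheaf.stalk y, maximalIdeal (Y.presheaf.stalk y) = Ideal.span {a, b} ∧ a ≠ 0 := by
    obtain ⟨s, hs, hsp⟩ := Submodule.FG.exists_span_finset_card_eq_spanFinrank
      (IsNoetherian.noetherian (maximalIdeal (Y.presheaf.stalk y)))
    have hcard : s.card ≤ 2 := by
      have h1 := (IsRegularLocalRing.spanFinrank_maximalIdeal (R := Y.presheaf.stalk y)).trans_le hdimy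
      rw [← hs] at h1
      exact_mod_cast h1
    change Ideal.span (s : Set (Y.presheaf.stalk y)) = _ at hsp
    obtain ⟨a, ha, ha0⟩ : ∃ a ∈ s, a ≠ 0 := by
      by_contra h
      push Not at h
      refine hy0 (le_bot_iff.1 (hsp ▸ Ideal.span_le.2 fun z hz => ?_))
      exact h z hz
    obtain ⟨b, hb'⟩ : ∃ b, (s : Set (Y.presheaf.stalk y)) ⊆ {a, b} ∧ b ∈ Ideal.span (s : Set (Y.presheaf.stalk y)) := by
      by_cases hsa : ∃ b ∈ s, b ≠ a
      · obtain ⟨b, hb1, hb2⟩ := hsa
        refine ⟨b, fun z hz => ?_, Ideal.subset_span hb1⟩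
        have h3 : ({a, b} : Finset _) = s := Finset.eq_of_subset_of_card_le
          (Finset.insert_subset ha (Finset.singleton_subset_iff.2 hb1)) (by rw [Finset.card_pair hb2.symm]; exact hcard)
        rw [← h3] at hz
        simpa using hz
      · push Not at hsa
        exact ⟨0, fun z hz => Or.inl (hsa z hz), Ideal.zero_mem _⟩
    refine ⟨a, b, le_antisymm (hsp ▸ Ideal.span_mono hb'.1) (Ideal.span_le.2 ?_), ha0⟩
    rintro z (rfl | rfl)
    · exact hsp ▸ Ideal.subset_span ha
    · exact hsp ▸ hb'.2
  have hst : stalkIdeal (Scheme.IdealSheafData.vanishingIdeal ⟨{y}, hy⟩) y = maximalIdeal (Y.presheaf.stalk y) :=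
    st_vanishingIdeal_point hy
  have hdX : ∀ x : X, ringKrullDim (X.presheaf.stalk x) ≤ 2 := fun x =>
    (Ref1.ringKrullDim_stalk_le_topologicalKrullDim x).trans hdim
  -- closed points over `y`
  have hclosed : ∀ x : X, IsClosed ({x} : Set X) → f x = y → ∃ γ, γ ≠ 0 ∧
      stalkIdeal ((Scheme.IdealSheafData.vanishingIdeal ⟨{y}, hy⟩).comap f) x = Ideal.span {γ} := by
    intro x hx hfx
    subst hfx
    obtain ⟨a, b, hgen, ha⟩ := hm
    obtain ⟨x₁, x₂, hne, h₁, h₂⟩ := hbig
    obtain ⟨z, hz, hzx⟩ : ∃ z ∈ G, z ≠ x := by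
      by_cases h : x₁ = x
      · exact ⟨x₂, h₂, fun h' => hne (h.trans h'.symm)⟩
      · exact ⟨x₁, h₁, h⟩
    obtain ⟨w, hwG, hwx, hwne⟩ := exists_generalization_of_isPreconnected hGc hGconn (show x ∈ G from rfl) hx hz hzx
    haveI := hX x
    haveI := CMFree.isDomain_of_isRegularLocalRing (X.presheaf.stalk x)
    haveI := RegUFD.ufd_of_isRegularLocalRing (X.presheaf.stalk x)
    obtain ⟨P, hP⟩ : w ∈ Set.range (X.fromSpecStalk x) := by
      rw [Scheme.range_fromSpecStalk]; exact hwx
    haveI : IsLocalHom (f.stalkMap x).hom := inferInstance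
    have hPm : P.asIdeal.comap (f.stalkMap x).hom = maximalIdeal (Y.presheaf.stalk (f x)) := by
      have h1 : Y.fromSpecStalk (f x) (Spec.map (f.stalkMap x) P) = Y.fromSpecStalk (f x) (closedPoint _) := by
        rw [Scheme.fromSpecStalk_closedPoint, ← Scheme.Hom.comp_apply, Scheme.SpecMap_stalkMap_fromSpecStalk,
          Scheme.Hom.comp_apply, hP]
        exact hwG
      exact congrArg PrimeSpectrum.asIdeal ((Y.fromSpecStalk (f x)).isEmbedding.injective h1)
    have hPne : P.asIdeal ≠ maximalIdeal (X.presheaf.stalk x) := fun h => by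
      refine hwne ?_
      rw [← hP, show P = closedPoint _ from PrimeSpectrum.ext h, Scheme.fromSpecStalk_closedPoint]
    obtain ⟨g, hg0, hg⟩ := exists_map_eq_span_of_dominating (hdX x) X.functionField (f.stalkMap x).hom
      (stalkMap_injective_birational f e hb x) (exists_fraction_birational f e hb x) hgen ha P.asIdeal hPne
      ⟨hPm.ge (hgen ▸ Ideal.subset_span (Set.mem_insert _ _)),
        hPm.ge (hgen ▸ Ideal.subset_span (Set.mem_insert_of_mem _ rfl))⟩
    exact ⟨g, hg0, by rw [stalkIdeal_comap, hst, hg]⟩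
  refine isEffCartierIdeal_of_stalks _ fun x => ?_
  by_cases hfx : f x = y
  · obtain ⟨c, hxc, hc⟩ := exists_isClosed_specialization x
    have hfc : f c = y := (hxc.map f.continuous).mem_closed hy hfx
    obtain ⟨γ, hγ, hI⟩ := hclosed c hc hfc
    refine ⟨X.presheaf.stalkSpecializes hxc γ, (map_ne_zero_iff _ ?_).2 hγ, ?_⟩
    · intro a a' h
      refine IsFractionRing.injective (X.presheaf.stalk c) X.functionField ?_
      have h2 := congrArg (X.presheaf.stalkSpecializes (genericPoint_specializes x)) h
      rwa [TopCat.Presheaf.stalkSpecializes_comp_apply, TopCat.Presheaf.stalkSpecializes_comp_apply] at h2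
    · rw [← stalkIdeal_map_specializes _ hxc, hI, Ideal.map_span, Set.image_singleton]
  · refine ⟨1, one_ne_zero, ?_⟩
    rw [Ideal.span_singleton_one, stalkIdeal_comap,
      (stalkIdeal_eq_top_iff _ _).2 (by
        rw [← SetLike.mem_coe, Scheme.IdealSheafData.coe_support_vanishingIdeal]
        exact hfx), Ideal.map_top]

end

end GrothLib.ArSurf29
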