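import Groth.Agent.Lib.ArSurf29.Codim1
import Groth.Agent.Lib.BlowUp.EffCartier
import Groth.Agent.Lib.QCoh.Pieces
import Groth.Agent.Lib.WeakAss.Structure
import Groth.Prelude.Def_ModelsG
import Mathlib.RingTheory.OrderOfVanishing.Noetherian

/-!
# Vertical prime divisors on a regular flat scheme over a discrete valuation ring
-/

set_option autoImplicit false
set_option linter.all false
set_option backward.isDefEq.respectTransparency false

universe u

open CategoryTheory AlgebraicGeometry TopologicalSpace IsLocalRing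

noncomputable section

namespace GrothLib.ArSurf29

open GrothLib.BlowUp (exists_affine_mem_le)
open GrothLib.CartierDescent (stalkIdeal stalkIdeal_eq stalkIdeal_eq_top_iff stalkIdeal_map_specializes
  exists_stalk_generator)

variable {R : Type u} [CommRing R] [IsDomain R] [IsDiscreteValuationRing R]
  {X : Over (Spec (CommRingCat.of R))}

/-- The order of an ideal sheaf at a point: the length of the quotient of the local ring. -/
def oAt {Y : Scheme.{u}} (I : Y.IdealSheafData) (x : Y) : ℕ :=
  (Module.length (Y.presheaf.stalk x) (Y.presheaf.stalk x ⧸ stalkIdeal I x)).toNat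

/-- A vertical prime divisor whose support is a component of the closed fibre. -/
def IsMaxComp (Γ : ArSurf.VertComp R X) : Prop :=
  Set.range (Γ.ι.base : Γ.curve.left → X.left) ∈ Models.fibreComponents R X

theorem oAt_eq_of_st_eq_pow {Y : Scheme.{u}} {I : Y.IdealSheafData} {x : Y} [IsDomain (Y.presheaf.stalk x)]
    [IsDiscreteValuationRing (Y.presheaf.stalk x)] {n : ℕ}
    (h : stalkIdeal I x = maximalIdeal (Y.presheaf.stalk x) ^ n) : oAt I x = n := by
  obtain ⟨ϖ, hϖ⟩ := IsDiscreteValuationRing.exists_irreducible (Y.presheaf.stalk x)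
  rw [oAt, h, hϖ.maximalIdeal_eq, Ideal.span_singleton_pow]
  show (Ring.ord (Y.presheaf.stalk x) (ϖ ^ n)).toNat = n
  rw [Ring.ord_pow (mem_nonZeroDivisors_of_ne_zero hϖ.ne_zero), Ring.ord_of_irreducible hϖ]
  simp

theorem isDVR_of_dim_one {A : Type u} [CommRing A] [IsDomain A] [IsLocalRing A] [IsNoetherianRing A]
    [IsIntegrallyClosed A] (h1 : ringKrullDim A = 1) : IsDiscreteValuationRing A := by
  have : Ring.KrullDimLE 1 A := Ring.krullDimLE_iff.2 h1.le
  have : Ring.DimensionLEOne A := ⟨fun hp hp' => Ideal.IsPrime.isMaximal_of_ne_bot hp' hp⟩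
  have hnf : ¬ IsField A := fun hF => by
    rw [ringKrullDim_eq_zero_of_isField hF] at h1
    exact zero_ne_one h1
  have : IsDedekindDomain A := {}
  exact ((IsDiscreteValuationRing.TFAE _ hnf).out 0 2).2 this

theorem mem_fibre_iff {x : X.left} :
    x ∈ Models.specialFibreSet R X ↔ X.hom.base x = closedPoint R := Iff.rfl

theorem fibreIdeal_ideal {π : R} (hπ : maximalIdeal R = Ideal.span {π}) (U : X.left.affineOpens) :
    (Models.specialFibreIdeal R X).ideal U = Ideal.span {X.hom.appLE ⊤ U le_top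
      ((Scheme.ΓSpecIso (CommRingCat.of R)).inv π)} := by
  refine (GrothLib.BlowUp.ideal_comap_eq_map (X := X.left) (Curv2.idealSheaf R (maximalIdeal R))
    X.hom ⟨⊤, isAffineOpen_top _⟩ U le_top).trans ?_
  rw [Curv2.idealSheaf, Scheme.IdealSheafData.ofIdealTop_ideal, hπ]
  simp only [Ideal.map_span, Set.image_singleton]
  rfl

theorem st_fibre (x : X.left) :
    stalkIdeal (Models.specialFibreIdeal R X) x = (maximalIdeal R).map (Models.stalkHom R X x) := by
  obtain ⟨π, hπ⟩ := IsDiscreteValuationRing.exists_irreducible R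
  obtain ⟨V, hx, -⟩ := exists_affine_mem_le (W := (⊤ : X.left.Opens)) (x := x) trivial
  rw [stalkIdeal_eq _ V hx, fibreIdeal_ideal hπ.maximalIdeal_eq V]
  rw [Ideal.map_span, Set.image_singleton, hπ.maximalIdeal_eq, Ideal.map_span, Set.image_singleton]
  refine congrArg (fun a => Ideal.span {a}) ?_
  exact TopCat.Presheaf.germ_res_apply X.left.presheaf _ x hx _

theorem support_fibre :
    ((Models.specialFibreIdeal R X).support : Set X.left) = Models.specialFibreSet R X := by
  rw [Models.specialFibreIdeal, Scheme.IdealSheafData.support_comap]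
  show X.hom ⁻¹' ((Curv2.idealSheaf R (maximalIdeal R)).support : Set (Spec (CommRingCat.of R))) = _
  rw [Models.specialFibreSet]
  congr 1
  rw [Curv2.idealSheaf, Scheme.IdealSheafData.coe_support_ofIdealTop, Spec_zeroLocus, ← Ideal.coe_comap]
  have : (Ideal.map (Scheme.ΓSpecIso (CommRingCat.of R)).inv.hom (maximalIdeal R)).comap
      (Scheme.ΓSpecIso (CommRingCat.of R)).inv.hom = maximalIdeal R :=
    Ideal.comap_map_of_bijective _ (ConcreteCategory.bijective_of_isIso (Scheme.ΓSpecIso (CommRingCat.of R)).inv)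
  rw [this]
  exact PrimeSpectrum.zeroLocus_eq_singleton _

theorem isEffCartier_fibre [Flat X.hom] :
    _root_.BlowUp.IsEffCartierIdeal (Models.specialFibreIdeal R X) := by
  obtain ⟨π, hπ⟩ := IsDiscreteValuationRing.exists_irreducible R
  intro x
  obtain ⟨V, hx, -⟩ := exists_affine_mem_le (W := (⊤ : X.left.Opens)) (x := x) trivial
  refine ⟨V, hx, _, ?_, fibreIdeal_ideal hπ.maximalIdeal_eq V⟩
  refine GrothLib.BlowUp.mem_nonZeroDivisors_of_flat _ (X.hom.flat_appLE (isAffineOpen_top _) V.2 le_top) ?_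
  refine mem_nonZeroDivisors_iff_right.2 fun b hb => ?_
  let e := (Scheme.ΓSpecIso (CommRingCat.of R)).commRingCatIsoToRingEquiv
  refine e.injective ?_
  have h2 := congrArg e hb
  rw [map_mul, map_zero, show e ((Scheme.ΓSpecIso (CommRingCat.of R)).inv π) = π from e.apply_symm_apply π] at h2
  rw [map_zero]
  exact (mul_eq_zero.1 h2).resolve_right hπ.ne_zero

section VertComp

variable (Γ : ArSurf.VertComp R X)

theorem range_eq_closure :
    Set.range (Γ.ι.base : Γ.curve.left → X.left) = closure {Models.genPtOf R X Γ} :=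
  (QCoh.closure_singleton_eq_range Γ.ι).symm

theorem mem_range_iff {x : X.left} :
    x ∈ Set.range (Γ.ι.base : Γ.curve.left → X.left) ↔ Models.genPtOf R X Γ ⤳ x := by
  rw [range_eq_closure, specializes_iff_mem_closure]

theorem range_subset_fibre :
    Set.range (Γ.ι.base : Γ.curve.left → X.left) ⊆ Models.specialFibreSet R X := by
  rintro _ ⟨z, rfl⟩
  show X.hom.base (Γ.ι.base z) = closedPoint R
  have h : X.hom.base (Γ.ι.base z) = (Γ.ι ≫ X.hom).base z := rfl
  rw [h, Γ.w]
  show (Spec.map (CommRingCat.ofHom (residue R))) (Γ.curve.hom z) = closedPoint R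
  rw [Subsingleton.elim (Γ.curve.hom z) (closedPoint (ResidueField R))]
  haveI : IsLocalHom (CommRingCat.ofHom (residue R)).hom :=
    inferInstanceAs (IsLocalHom (residue R))
  exact comap_closedPoint _

theorem genPt_mem_fibre : Models.genPtOf R X Γ ∈ Models.specialFibreSet R X :=
  range_subset_fibre Γ ⟨_, rfl⟩

theorem ker_eq : Γ.ι.ker =
    Scheme.IdealSheafData.vanishingIdeal ⟨closure {Models.genPtOf R X Γ}, isClosed_closure⟩ :=
  QCoh.ker_eq_vanishingIdeal_closure Γ.ι

theorem support_ker : (Γ.ι.ker.support : Set X.left) = Set.range (Γ.ι.base : Γ.curve.left → X.left) := by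
  rw [range_eq_closure, ker_eq, Scheme.IdealSheafData.coe_support_vanishingIdeal]
  rfl

instance isIntegral_kerSubscheme : IsIntegral Γ.ι.ker.subscheme :=
  IsIntegral.of_isIso (asIso Γ.ι.toImage).hom

theorem gpt_ker : DivPart.gpt Γ.ι.ker = Models.genPtOf R X Γ := by
  refine (inseparable_iff_closure_eq.2 ?_).eq
  rw [← range_eq_closure]
  exact (QCoh.closure_singleton_eq_range Γ.ι.ker.subschemeι).trans
    ((Γ.ι.ker.range_subschemeι).trans (support_ker Γ))

theorem st_ker_genPt :
    stalkIdeal Γ.ι.ker (Models.genPtOf R X Γ) = maximalIdeal (X.left.presheaf.stalk (Models.genPtOf R X Γ)) := by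
  have h := DivPart.stalkIdeal_gpt (D := Γ.ι.ker)
  have e := gpt_ker Γ
  revert h
  rw [e]
  exact id

variable {Γ} (hΓ : IsMaxComp Γ)
include hΓ

theorem eq_genPt {y : X.left} (hy : y ∈ Models.specialFibreSet R X) (h : y ⤳ Models.genPtOf R X Γ) :
    y = Models.genPtOf R X Γ := by
  have hsub : closure ({y} : Set X.left) ⊆ Models.specialFibreSet R X :=
    closure_minimal (Set.singleton_subset_iff.2 hy) (Models.isClosed_specialFibreSet R X)
  have hle : Set.range (Γ.ι.base : Γ.curve.left → X.left) ⊆ closure {y} := fun x hx =>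
    specializes_iff_mem_closure.1 (h.trans ((mem_range_iff Γ).1 hx))
  have he := hΓ.2 ⟨isIrreducible_singleton.closure, hsub⟩ hle (subset_closure rfl)
  exact (h.antisymm ((mem_range_iff Γ).1 he)).eq

variable [IsLocallyNoetherian X.left] [Flat X.hom]

theorem dim_genPt : ringKrullDim (X.left.presheaf.stalk (Models.genPtOf R X Γ)) = 1 := by
  obtain ⟨γ, hγ, hF⟩ := CartierDescent.exists_stalk_generator (isEffCartier_fibre (X := X)) (Models.genPtOf R X Γ)
  have hsupp : Models.genPtOf R X Γ ∈ (Models.specialFibreIdeal R X).support :=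
    (support_fibre (X := X)).ge (genPt_mem_fibre Γ)
  have hne : Ideal.span {γ} ≠ ⊤ := by
    rw [← hF]
    exact fun h => (CartierDescent.stalkIdeal_eq_top_iff _ _).1 h hsupp
  have hmin : maximalIdeal (X.left.presheaf.stalk (Models.genPtOf R X Γ)) ∈ (Ideal.span {γ}).minimalPrimes := by
    refine ⟨⟨inferInstance, le_maximalIdeal hne⟩, fun P ⟨hP, hγP⟩ _ => ?_⟩
    haveI := hP
    obtain ⟨y, hy, hPy, -⟩ := CartierDescent.exists_specializes_eq (Models.genPtOf R X Γ) P
    have hyF : y ∈ Models.specialFibreSet R X := by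
      rw [← support_fibre]
      by_contra hc
      have h2 := CartierDescent.stalkIdeal_map_specializes (Models.specialFibreIdeal R X) hy
      rw [(CartierDescent.stalkIdeal_eq_top_iff _ _).2 hc, hF] at h2
      have h3 : (Ideal.span {γ}).map (X.left.presheaf.stalkSpecializes hy).hom ≤
          maximalIdeal (X.left.presheaf.stalk y) := Ideal.map_le_iff_le_comap.2 (hγP.trans hPy.le)
      rw [h2] at h3
      exact (maximalIdeal.isMaximal _).ne_top (top_le_iff.1 h3)
    obtain rfl := eq_genPt hΓ hyF hy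
    rw [hPy]
    intro a ha
    simpa [TopCat.Presheaf.stalkSpecializes_refl] using ha
  have hle : (maximalIdeal (X.left.presheaf.stalk (Models.genPtOf R X Γ))).height ≤ 1 :=
    Ideal.height_le_one_of_isPrincipal_of_mem_minimalPrimes _ _ hmin
  have hge : (maximalIdeal (X.left.presheaf.stalk (Models.genPtOf R X Γ))).height ≠ 0 := fun h0 => by
    have hm := Ideal.height_eq_zero_iff.1 h0
    exact Set.disjoint_left.1 (Ideal.disjoint_nonZeroDivisors_of_mem_minimalPrimes hm)
      (le_maximalIdeal hne (Ideal.mem_span_singleton_self γ)) hγ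
  rw [← IsLocalRing.maximalIdeal_height_eq_ringKrullDim]
  exact_mod_cast le_antisymm hle (ENat.one_le_iff_ne_zero.2 hge)

variable (hX : Models.IsRegularScheme X.left)
include hX

theorem isDVR_genPt :
    ∃ _ : IsDomain (X.left.presheaf.stalk (Models.genPtOf R X Γ)),
      IsDiscreteValuationRing (X.left.presheaf.stalk (Models.genPtOf R X Γ)) := by
  obtain ⟨_, _⟩ := isNormalScheme_of_regular hX (Models.genPtOf R X Γ)
  exact ⟨inferInstance, isDVR_of_dim_one (dim_genPt hΓ)⟩

theorem isEffCartier_ker : _root_.BlowUp.IsEffCartierIdeal Γ.ι.ker := by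
  intro x
  haveI := hX x
  haveI := CMFree.isDomain_of_isRegularLocalRing (X.left.presheaf.stalk x)
  haveI : UniqueFactorizationMonoid (X.left.presheaf.stalk x) := RegUFD.ufd_of_isRegularLocalRing _
  obtain ⟨U, hxU, hU⟩ := GrothLib.BlowUp.exists_cartierOn_of_ufd Γ.ι.ker (fun z hz => by
    rw [WeakAss.isWeakAssPoint_structure_iff] at hz
    obtain rfl : genericPoint Γ.ι.ker.subscheme = z := hz _ (genericPoint_specializes z)
    rw [show Γ.ι.ker.subschemeι (genericPoint Γ.ι.ker.subscheme) = Models.genPtOf R X Γ from gpt_ker Γ]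
    exact dim_genPt hΓ) x
  exact ⟨U, hxU, hU⟩

theorem st_eq_pow_oAt {A : X.left.IdealSheafData} (hA : _root_.BlowUp.IsEffCartierIdeal A) :
    stalkIdeal A (Models.genPtOf R X Γ) =
      maximalIdeal (X.left.presheaf.stalk (Models.genPtOf R X Γ)) ^ oAt A (Models.genPtOf R X Γ) := by
  obtain ⟨_, _⟩ := isDVR_genPt hΓ hX
  obtain ⟨γ, hγ, hA'⟩ := CartierDescent.exists_stalk_generator hA (Models.genPtOf R X Γ)
  obtain ⟨ϖ, hϖ⟩ := IsDiscreteValuationRing.exists_irreducible (X.left.presheaf.stalk (Models.genPtOf R X Γ))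
  obtain ⟨n, hn⟩ := IsDiscreteValuationRing.ideal_eq_span_pow_irreducible
    (show stalkIdeal A (Models.genPtOf R X Γ) ≠ ⊥ by
      rw [hA', Ne, Ideal.span_singleton_eq_bot]; exact nonZeroDivisors.ne_zero hγ) hϖ
  rw [← Ideal.span_singleton_pow, ← hϖ.maximalIdeal_eq] at hn
  rw [hn, oAt_eq_of_st_eq_pow hn]

theorem mult_eq : Models.mult R X Γ = oAt (Models.specialFibreIdeal R X) (Models.genPtOf R X Γ) := by
  rw [oAt, st_fibre]
  rfl

theorem mult_pos : 0 < Models.mult R X Γ := by
  rw [mult_eq hΓ hX]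
  by_contra h
  rw [not_lt, Nat.le_zero] at h
  have h2 := st_eq_pow_oAt hΓ hX (isEffCartier_fibre (X := X))
  rw [h, pow_zero, Ideal.one_eq_top, stalkIdeal_eq_top_iff] at h2
  exact h2 ((support_fibre (X := X)).ge (genPt_mem_fibre Γ))

end VertComp

section List

variable {n : ℕ} {Γ : Fin n → ArSurf.VertComp R X} (hΓ : Models.IsComponentList R X Γ)
include hΓ

theorem isMaxComp (i : Fin n) : IsMaxComp (Γ i) := hΓ.2.le ⟨i, rfl⟩

theorem genPt_injective : Function.Injective fun i => Models.genPtOf R X (Γ i) := fun i j h => by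
  refine hΓ.1 ?_
  simp only [range_eq_closure]
  simp only at h
  rw [h]

theorem notMem_range_of_ne {i j : Fin n} (h : i ≠ j) :
    Models.genPtOf R X (Γ j) ∉ Set.range ((Γ i).ι.base : (Γ i).curve.left → X.left) := fun hm =>
  h (genPt_injective hΓ (eq_genPt (isMaxComp hΓ j) (genPt_mem_fibre (Γ i)) ((mem_range_iff _).1 hm)))

variable [QuasiCompact X.hom] [IsLocallyNoetherian X.left]

theorem exists_mem_range {x : X.left} (hx : x ∈ Models.specialFibreSet R X) :
    ∃ i, x ∈ Set.range ((Γ i).ι.base : (Γ i).curve.left → X.left) := by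
  haveI : CompactSpace X.left := QuasiCompact.compactSpace_of_compactSpace X.hom
  haveI : IsNoetherian X.left := {}
  obtain ⟨z, hz, hzx, hmax⟩ := DivPart.exists_maximal_generization (Models.isClosed_specialFibreSet R X) hx
  have hmem : closure ({z} : Set X.left) ∈ Models.fibreComponents R X := by
    refine ⟨⟨isIrreducible_singleton.closure,
      closure_minimal (Set.singleton_subset_iff.2 hz) (Models.isClosed_specialFibreSet R X)⟩, fun S ⟨hS, hSsub⟩ hle => ?_⟩
    obtain ⟨w, hw⟩ := QuasiSober.sober hS.closure isClosed_closure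
    have hwF : w ∈ Models.specialFibreSet R X :=
      closure_minimal hSsub (Models.isClosed_specialFibreSet R X) hw.mem
    obtain rfl := hmax w hwF (hw.specializes (subset_closure (hle (subset_closure rfl))))
    exact subset_closure.trans hw.def.ge
  obtain ⟨i, hi⟩ := hΓ.2.ge hmem
  refine ⟨i, ?_⟩
  simp only at hi
  rw [hi]
  exact specializes_iff_mem_closure.1 hzx

variable [Flat X.hom] (hX : Models.IsRegularScheme X.left)
include hX

theorem exists_eq_genPt {y : X.left} (hdim : ringKrullDim (X.left.presheaf.stalk y) = 1)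
    (hy : y ∈ Models.specialFibreSet R X) : ∃ i, y = Models.genPtOf R X (Γ i) := by
  obtain ⟨i, hi⟩ := exists_mem_range hΓ hy
  refine ⟨i, ?_⟩
  by_contra hne
  haveI := hX y
  haveI := CMFree.isDomain_of_isRegularLocalRing (X.left.presheaf.stalk y)
  obtain ⟨γ, hγ, hF⟩ := CartierDescent.exists_stalk_generator (isEffCartier_fibre (X := X)) y
  have hsp := (mem_range_iff (Γ i)).1 hi
  have hu := CartierDescent.isUnit_stalkSpecializes hdim.le hsp (fun h => hne h.symm)
    (nonZeroDivisors.ne_zero hγ)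
  have h2 := CartierDescent.stalkIdeal_map_specializes (Models.specialFibreIdeal R X) hsp
  rw [hF, Ideal.map_span, Set.image_singleton, Ideal.span_singleton_eq_top.2 hu] at h2
  exact (CartierDescent.stalkIdeal_eq_top_iff _ _).1 h2.symm
    ((support_fibre (X := X)).ge (genPt_mem_fibre (Γ i)))

theorem isEffCartier_prod (a : Fin n → ℕ) :
    _root_.BlowUp.IsEffCartierIdeal (∏ i, (Γ i).ι.ker ^ a i) := by
  refine Finset.prod_induction (M := X.left.IdealSheafData) _ (fun I => _root_.BlowUp.IsEffCartierIdeal I)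
    (fun I J hI hJ => GrothLib.BlowUp.isEffCartierIdeal_mul hI hJ)
    GrothLib.BlowUp.isEffCartierIdeal_top fun i _ => ?_
  induction a i with
  | zero =>
    rw [pow_zero, Scheme.IdealSheafData.one_eq_top]
    exact GrothLib.BlowUp.isEffCartierIdeal_top
  | succ m ih =>
    rw [pow_succ]
    exact GrothLib.BlowUp.isEffCartierIdeal_mul ih (isEffCartier_ker (isMaxComp hΓ i) hX)

theorem st_prod_genPt (a : Fin n → ℕ) (j : Fin n) :
    stalkIdeal (∏ i, (Γ i).ι.ker ^ a i) (Models.genPtOf R X (Γ j)) =
      maximalIdeal (X.left.presheaf.stalk (Models.genPtOf R X (Γ j))) ^ a j := by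
  show DivPart.stalkHom _ (∏ i, (Γ i).ι.ker ^ a i) = _
  rw [map_prod, Finset.prod_eq_single j, map_pow]
  · exact congrArg (· ^ a j) (st_ker_genPt (Γ j))
  · intro i _ hij
    rw [map_pow, show DivPart.stalkHom _ (Γ i).ι.ker = ⊤ from
      (stalkIdeal_eq_top_iff _ _).2 fun h => notMem_range_of_ne hΓ hij ((support_ker (Γ i)).le h),
      Ideal.top_pow, Ideal.one_eq_top]
  · exact fun h => absurd (Finset.mem_univ j) h

theorem oAt_prod (a : Fin n → ℕ) (j : Fin n) :
    oAt (∏ i, (Γ i).ι.ker ^ a i) (Models.genPtOf R X (Γ j)) = a j := by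
  obtain ⟨_, _⟩ := isDVR_genPt (isMaxComp hΓ j) hX
  exact oAt_eq_of_st_eq_pow (st_prod_genPt hΓ hX a j)

/-- An effective divisor supported in the closed fibre is a combination of its components. -/
theorem eq_prod {A : X.left.IdealSheafData} (hA : _root_.BlowUp.IsEffCartierIdeal A)
    (hsupp : (A.support : Set X.left) ⊆ Models.specialFibreSet R X) :
    A = ∏ i, (Γ i).ι.ker ^ oAt A (Models.genPtOf R X (Γ i)) := by
  refine eq_of_codim_one (isNormalScheme_of_regular hX) hA (isEffCartier_prod hΓ hX _) fun y hy => ?_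
  by_cases hyF : y ∈ Models.specialFibreSet R X
  · obtain ⟨j, rfl⟩ := exists_eq_genPt hΓ hX hy hyF
    rw [st_prod_genPt hΓ hX]
    exact st_eq_pow_oAt (isMaxComp hΓ j) hX hA
  · rw [(stalkIdeal_eq_top_iff _ _).2 fun h => hyF (hsupp h)]
    show _ = DivPart.stalkHom _ (∏ i, (Γ i).ι.ker ^ oAt A (Models.genPtOf R X (Γ i)))
    rw [map_prod]
    refine ((Finset.prod_eq_one fun i _ => ?_).trans Ideal.one_eq_top).symm
    rw [map_pow, show DivPart.stalkHom _ (Γ i).ι.ker = ⊤ from
      (stalkIdeal_eq_top_iff _ _).2 fun h => hyF (range_subset_fibre _ ((support_ker (Γ i)).le h)),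
      Ideal.top_pow, Ideal.one_eq_top]

theorem fibre_eq_prod :
    Models.specialFibreIdeal R X = ∏ i, (Γ i).ι.ker ^ Models.mult R X (Γ i) := by
  simp only [mult_eq (isMaxComp hΓ _) hX]
  exact eq_prod hΓ hX (isEffCartier_fibre (X := X)) (support_fibre (X := X)).le

end List

end GrothLib.ArSurf29
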