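import Groth.Agent.Lib.ArSurf29.Inter
import Groth.Agent.Lib.ArSurf29.Setup
import Groth.Agent.Lib.CohFlat0.Main
import Groth.Agent.Lib.NumType.Matrix

/-!
# The intersection form of the closed fibre
-/

set_option autoImplicit false
set_option linter.all false
set_option backward.isDefEq.respectTransparency false

universe u

open CategoryTheory CategoryTheory.Limits AlgebraicGeometry TopologicalSpace IsLocalRing

noncomputable section

namespace GrothLib.ArSurf29

open GrothLib.Cube (Pic clsMod)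

/-- A symmetric form with non-negative off-diagonal entries and non-positive on a positive vector is non-positive. -/
theorem quad_nonpos {n : ℕ} (A : Fin n → Fin n → ℤ) (m : Fin n → ℤ) (hm : ∀ i, 0 < m i)
    (hsymm : ∀ i j, A i j = A j i) (hoff : ∀ i j, i ≠ j → 0 ≤ A i j) (hAm : ∀ i, ∑ j, A i j * m j ≤ 0)
    (a : Fin n → ℤ) : ∑ i, ∑ j, a i * a j * A i j ≤ 0 := by
  let M : Matrix (Fin n) (Fin n) ℚ := fun i j => (A i j : ℚ)
  have hM : M.IsSymm := Matrix.IsSymm.ext fun i j => by show (A j i : ℚ) = A i j; rw [hsymm]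
  have hmq : ∀ i, (0 : ℚ) < m i := fun i => by exact_mod_cast hm i
  let y : Fin n → ℚ := fun i => (a i : ℚ) / m i
  have h := NumType.quad_identity M hM (fun i => (m i : ℚ)) y
  have hy : ∀ i, y i * (m i : ℚ) = a i := fun i => div_mul_cancel₀ _ (hmq i).ne'
  simp only [hy] at h
  have h1 : ∑ i, y i ^ 2 * ((m i : ℚ) * ∑ j, M i j * (m j : ℚ)) ≤ 0 := Finset.sum_nonpos fun i _ => by
    refine mul_nonpos_of_nonneg_of_nonpos (sq_nonneg _) (mul_nonpos_of_nonneg_of_nonpos (hmq i).le ?_)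
    show ∑ j, (A i j : ℚ) * m j ≤ 0
    exact_mod_cast hAm i
  have h2 : 0 ≤ ∑ i, ∑ j, M i j * (m i : ℚ) * (m j : ℚ) * (y i - y j) ^ 2 :=
    Finset.sum_nonneg fun i _ => Finset.sum_nonneg fun j _ => by
      rcases eq_or_ne i j with rfl | hij
      · simp
      · exact mul_nonneg (mul_nonneg (mul_nonneg (by show (0 : ℚ) ≤ A i j; exact_mod_cast hoff i j hij)
          (hmq i).le) (hmq j).le) (sq_nonneg _)
  have h3 : ((∑ i, ∑ j, a i * a j * A i j : ℤ) : ℚ) = ∑ i, ∑ j, M i j * (a i : ℚ) * (a j : ℚ) := by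
    push_cast
    exact Finset.sum_congr rfl fun i _ => Finset.sum_congr rfl fun j _ => by
      show _ = (A i j : ℚ) * a i * a j
      ring
  have h4 : ((∑ i, ∑ j, a i * a j * A i j : ℤ) : ℚ) ≤ 0 := by rw [h3]; linarith
  exact_mod_cast h4

variable {R : Type u} [CommRing R] [IsDomain R] [IsDiscreteValuationRing R]
  {X : Over (Spec (CommRingCat.of R))} [IsProper X.hom] [Flat X.hom] [IsLocallyNoetherian X.left]

omit [IsProper X.hom] [Flat X.hom] [IsLocallyNoetherian X.left] in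
theorem notMem_support_ker_of_ne {Γ₁ Γ₂ : ArSurf.VertComp R X} (h₁ : IsMaxComp Γ₁)
    (h : Set.range Γ₁.ι.base ≠ Set.range Γ₂.ι.base) : Models.genPtOf R X Γ₁ ∉ Γ₂.ι.ker.support := fun hm => by
  have := eq_genPt h₁ (genPt_mem_fibre Γ₂) ((mem_range_iff Γ₂).1 ((support_ker Γ₂).le hm))
  exact h (by rw [range_eq_closure, range_eq_closure, this])

variable (hX : Models.IsRegularScheme X.left)
include hX

theorem inter_symm_of_ne {Γ₁ Γ₂ : ArSurf.VertComp R X} (h₁ : IsMaxComp Γ₁) (h₂ : IsMaxComp Γ₂)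
    (h : Set.range Γ₁.ι.base ≠ Set.range Γ₂.ι.base) {L₁ L₂ : X.left.Modules}
    (hL₁ : ClSub.IsInverseOf L₁ (ClSub.idealMod Γ₁.ι.ker)) (hL₂ : ClSub.IsInverseOf L₂ (ClSub.idealMod Γ₂.ι.ker)) :
    ArSurf.inter R X L₂ Γ₁ = ArSurf.inter R X L₁ Γ₂ := by
  rw [inter_eq_lengthH Γ₁ (isEffCartier_ker h₂ hX) (notMem_support_ker_of_ne h₁ h) hL₂,
    inter_eq_lengthH Γ₂ (isEffCartier_ker h₁ hX) (notMem_support_ker_of_ne h₂ h.symm) hL₁, sup_comm]

omit hX [IsLocallyNoetherian X.left] in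
theorem cls_fibre (h : PicF.IsInvertible (ClSub.idealMod (Models.specialFibreIdeal R X))) : clsMod h = 1 := by
  obtain ⟨π, hπ⟩ := IsDiscreteValuationRing.exists_irreducible R
  letI : X.left.Over (Spec (CommRingCat.of R)) := ⟨X.hom⟩
  haveI : Flat (X.left ↘ Spec (CommRingCat.of R)) := inferInstanceAs (Flat X.hom)
  obtain ⟨hz, hS⟩ := CohFlat0.exists_shortExact R (X := X.left) hπ.maximalIdeal_eq
    (mem_nonZeroDivisors_of_ne_zero hπ.ne_zero)
  exact (Cube.clsMod_eq_one_iff h).2 ⟨IsLimit.conePointUniqueUpToIso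
    (kernelIsKernel (ClSub.toSubscheme (Models.specialFibreIdeal R X))) hS.fIsKernel⟩

variable {n : ℕ} {Γ : Fin n → ArSurf.VertComp R X} (hΓ : Models.IsComponentList R X Γ)
  {L : Fin n → X.left.Modules} (hL : ∀ j, ClSub.IsInverseOf (L j) (ClSub.idealMod (Γ j).ι.ker))
include hΓ hL

theorem isInvertible_inverse (j : Fin n) : PicF.IsInvertible (L j) :=
  isInvertible_of_isInverseOf (isEffCartier_ker (isMaxComp hΓ j) hX) (hL j)

theorem inter_symm (i j : Fin n) : ArSurf.inter R X (L j) (Γ i) = ArSurf.inter R X (L i) (Γ j) := by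
  rcases eq_or_ne i j with rfl | h
  · rfl
  · exact inter_symm_of_ne hX (isMaxComp hΓ i) (isMaxComp hΓ j) (fun e => h (hΓ.1 e)) (hL i) (hL j)

theorem inter_nonneg_of_ne {i j : Fin n} (h : i ≠ j) :
    0 ≤ ArSurf.inter R X (L j) (Γ i) ∧ (ArSurf.inter R X (L j) (Γ i) = 0 ↔
      Disjoint (Set.range (Γ i).ι.base) (Set.range (Γ j).ι.base)) := by
  have hD := isEffCartier_ker (isMaxComp hΓ j) hX
  have hn := notMem_support_ker_of_ne (Γ₂ := Γ j) (isMaxComp hΓ i) fun e => h (hΓ.1 e)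
  refine ⟨inter_nonneg (Γ i) hD hn (hL j), ?_⟩
  rw [inter_eq_zero_iff (Γ i) hD hn (hL j), support_ker]

theorem cls_prod_inverse_pow : ∏ j, clsMod (isInvertible_inverse hX hΓ hL j) ^ Models.mult R X (Γ j) = 1 := by
  have hI := fun j => IdealModSec.isInvertible_of_isEffCartier (isEffCartier_ker (isMaxComp hΓ j) hX)
  choose hP hPe using fun j => cls_idealMod_pow (isEffCartier_ker (isMaxComp hΓ j) hX) (Models.mult R X (Γ j))
  obtain ⟨h, e⟩ := cls_idealMod_prod Finset.univ (fun j => (Γ j).ι.ker ^ Models.mult R X (Γ j)) hP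
  have hF := IdealModSec.isInvertible_of_isEffCartier (isEffCartier_fibre (X := X))
  have h0 : clsMod h = clsMod hF := cls_idealMod_congr (fibre_eq_prod hΓ hX).symm h hF
  have h1 : ∏ j, clsMod (hI j) ^ Models.mult R X (Γ j) = 1 := by
    refine Eq.trans ?_ ((h0.trans (cls_fibre hF)))
    exact (Finset.prod_congr rfl fun j _ => (hPe j).symm).trans e.symm
  have h2 : ∀ j, clsMod (isInvertible_inverse hX hΓ hL j) ^ Models.mult R X (Γ j) =
      (clsMod (hI j) ^ Models.mult R X (Γ j))⁻¹ := fun j => by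
    rw [cls_of_isInverseOf (isInvertible_inverse hX hΓ hL j) (hI j) (hL j), inv_pow]
  rw [Finset.prod_congr rfl fun j _ => h2 j, Finset.prod_inv_distrib, h1, inv_one]

theorem sum_mult_inter (i : Fin n) : ∑ j, (Models.mult R X (Γ j) : ℤ) * ArSurf.inter R X (L j) (Γ i) = 0 := by
  have h := congrArg (icl (Γ i)) (cls_prod_inverse_pow hX hΓ hL)
  rw [icl_prod, icl_one] at h
  simp only [icl_pow, ← inter_eq_icl] at h
  exact h

theorem sum_mult_inter' (j : Fin n) : ∑ i, (Models.mult R X (Γ i) : ℤ) * ArSurf.inter R X (L j) (Γ i) = 0 := by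
  refine Eq.trans (Finset.sum_congr rfl fun i _ => ?_) (sum_mult_inter hX hΓ hL j)
  rw [inter_symm hX hΓ hL i j]

end GrothLib.ArSurf29
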