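import Groth.Agent.Lib.ArSurf29.Fibre
import Groth.Agent.Lib.Stein.Main
import Mathlib.RingTheory.DiscreteValuationRing.Basic

/-!
# The generic fibre and global functions of a model
-/

set_option autoImplicit false
set_option linter.all false
set_option backward.isDefEq.respectTransparency false

universe u

open CategoryTheory CategoryTheory.Limits AlgebraicGeometry TopologicalSpace IsLocalRing

noncomputable section

namespace GrothLib.ArSurf29

variable {R : Type u} [CommRing R] [IsDomain R] [IsDiscreteValuationRing R]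
  {X : Over (Spec (CommRingCat.of R))}

theorem mem_closedPoint_iff {π : R} (hπ : Irreducible π) (q : PrimeSpectrum R) :
    π ∈ q.asIdeal ↔ q = closedPoint R := by
  refine ⟨fun h => PrimeSpectrum.ext ?_, fun h => by rw [h]; exact (hπ.maximalIdeal_eq).ge (Ideal.mem_span_singleton_self π)⟩
  exact eq_maximalIdeal (q.2.isMaximal_of_ne_bot fun e => hπ.ne_zero (by rw [e] at h; exact h))

theorem basicOpen_unif {π : R} (hπ : Irreducible π) :
    (X.left.basicOpen (show Γ(X.left, ⊤) from Coh.toGlobal X.hom π) : Set X.left) =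
      (Models.specialFibreSet R X)ᶜ := by
  show (X.left.basicOpen (X.hom.app ⊤ ((Scheme.ΓSpecIso (CommRingCat.of R)).inv π)) : Set X.left) = _
  rw [← Scheme.preimage_basicOpen]
  ext x
  show X.hom x ∈ (Spec (CommRingCat.of R)).basicOpen _ ↔ ¬ X.hom.base x = closedPoint R
  rw [basicOpen_eq_of_affine', PrimeSpectrum.mem_basicOpen,
    show (Scheme.ΓSpecIso (CommRingCat.of R)).hom ((Scheme.ΓSpecIso (CommRingCat.of R)).inv π) = π from
      (Scheme.ΓSpecIso (CommRingCat.of R)).commRingCatIsoToRingEquiv.apply_symm_apply π,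
    mem_closedPoint_iff hπ]

theorem isLocalizationAway_fractionRing {π : R} (hπ : Irreducible π) :
    IsLocalization.Away π (FractionRing R) := by
  haveI : IsLocalization (Submonoid.powers π) (FractionRing R) :=
    IsLocalization.iff_of_le_of_exists_dvd (M := Submonoid.powers π) (N := nonZeroDivisors R)
      (S := FractionRing R) (Submonoid.powers_le.2 (mem_nonZeroDivisors_of_ne_zero hπ.ne_zero))
      (fun x hx => by
        obtain ⟨n, hn⟩ := IsDiscreteValuationRing.associated_pow_irreducible (nonZeroDivisors.ne_zero hx) hπ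
        exact ⟨π ^ n, ⟨n, rfl⟩, hn.dvd⟩) |>.2 inferInstance
  exact this

variable {C : Scheme.{u}} {f : C ⟶ Spec (CommRingCat.of (FractionRing R))} {g : C ⟶ X.left}
  (hg : IsPullback g f X.hom (Spec.map (CommRingCat.ofHom (algebraMap R (FractionRing R)))))
include hg

theorem isOpenImmersion_generic : IsOpenImmersion g := by
  obtain ⟨π, hπ⟩ := IsDiscreteValuationRing.exists_irreducible R
  haveI := isLocalizationAway_fractionRing hπ
  haveI : IsOpenImmersion (Spec.map (CommRingCat.ofHom (algebraMap R (FractionRing R)))) :=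
    IsOpenImmersion.of_isLocalization π
  exact MorphismProperty.of_isPullback hg.flip this

theorem range_generic : Set.range g.base = (Models.specialFibreSet R X)ᶜ := by
  obtain ⟨π, hπ⟩ := IsDiscreteValuationRing.exists_irreducible R
  haveI := isLocalizationAway_fractionRing hπ
  have h : Set.range (Spec.map (CommRingCat.ofHom (algebraMap R (FractionRing R)))) =
      (PrimeSpectrum.basicOpen π : Set (PrimeSpectrum R)) :=
    PrimeSpectrum.localization_away_comap_range (FractionRing R) π
  ext x
  constructor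
  · rintro ⟨c, rfl⟩ hc
    have h1 : X.hom (g c) ∈ (PrimeSpectrum.basicOpen π : Set (PrimeSpectrum R)) := by
      rw [← h]
      exact ⟨f c, (congrArg (fun φ : C ⟶ Spec (CommRingCat.of R) => φ.base c) hg.w).symm⟩
    exact h1 ((mem_closedPoint_iff hπ _).2 hc)
  · intro hx
    have h1 : X.hom x ∈ (PrimeSpectrum.basicOpen π : Set (PrimeSpectrum R)) :=
      fun hm => hx ((mem_closedPoint_iff hπ _).1 hm)
    rw [← h] at h1
    obtain ⟨t, ht⟩ := h1
    obtain ⟨c, hc, -⟩ := Scheme.Pullback.exists_preimage_pullback x t ht.symm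
    refine ⟨hg.isoPullback.inv c, ?_⟩
    rw [← hc, ← Scheme.Hom.comp_apply, IsPullback.isoPullback_inv_fst]

variable [Flat X.hom]

omit hg in
theorem eq_zero_of_res_unif {π : R} (hπ : Irreducible π) (b : Γ(X.left, ⊤))
    (h : X.left.presheaf.map
      (homOfLE (le_top : X.left.basicOpen (show Γ(X.left, ⊤) from Coh.toGlobal X.hom π) ≤ ⊤)).op b = 0) : b = 0 := by
  refine X.left.IsSheaf.section_ext fun x _ => ?_
  obtain ⟨V, hxV, -⟩ := GrothLib.BlowUp.exists_affine_mem_le (W := (⊤ : X.left.Opens)) (x := x) trivial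
  refine ⟨V.1, le_top, hxV, ?_⟩
  rw [map_zero]
  let a : Γ(X.left, V.1) := X.hom.appLE ⊤ V.1 le_top ((Scheme.ΓSpecIso (CommRingCat.of R)).inv π)
  have ha : a ∈ nonZeroDivisors Γ(X.left, V.1) := by
    refine GrothLib.BlowUp.mem_nonZeroDivisors_of_flat _ (X.hom.flat_appLE (isAffineOpen_top _) V.2 le_top) ?_
    refine mem_nonZeroDivisors_iff_right.2 fun c hc => ?_
    let e := (Scheme.ΓSpecIso (CommRingCat.of R)).commRingCatIsoToRingEquiv
    refine e.injective ?_
    have h2 := congrArg e hc
    rw [map_mul, map_zero, show e ((Scheme.ΓSpecIso (CommRingCat.of R)).inv π) = π from e.apply_symm_apply π] at h2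
    rw [map_zero]
    exact (mul_eq_zero.1 h2).resolve_right hπ.ne_zero
  have hle : X.left.basicOpen a ≤ X.left.basicOpen (show Γ(X.left, ⊤) from Coh.toGlobal X.hom π) := by
    show X.left.basicOpen (X.left.presheaf.map (homOfLE le_top).op
      (show Γ(X.left, ⊤) from Coh.toGlobal X.hom π)) ≤ _
    rw [Scheme.basicOpen_res]
    exact inf_le_right
  haveI := V.2.isLocalization_basicOpen a
  refine IsLocalization.injective Γ(X.left, X.left.basicOpen a) (M := Submonoid.powers a) (Submonoid.powers_le.2 ha) ?_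
  rw [map_zero]
  show (X.left.presheaf.map (homOfLE (le_top : V.1 ≤ ⊤)).op ≫ X.left.presheaf.map _) b = 0
  rw [← Functor.map_comp, Subsingleton.elim ((homOfLE (le_top : V.1 ≤ ⊤)).op ≫ _)
    ((homOfLE (le_top : X.left.basicOpen (show Γ(X.left, ⊤) from Coh.toGlobal X.hom π) ≤ ⊤)).op ≫ (homOfLE hle).op),
    Functor.map_comp]
  show X.left.presheaf.map _ (X.left.presheaf.map _ b) = 0
  rw [h, map_zero]

theorem appTop_generic_injective : Function.Injective g.appTop := by
  haveI := isOpenImmersion_generic hg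
  obtain ⟨π, hπ⟩ := IsDiscreteValuationRing.exists_irreducible R
  refine (injective_iff_map_eq_zero _).2 fun b hb => eq_zero_of_res_unif hπ b ?_
  refine TopCat.Presheaf.section_ext X.left.sheaf _ _ _ fun x hx => ?_
  obtain ⟨c, rfl⟩ : x ∈ Set.range g.base := by
    rw [range_generic hg, ← basicOpen_unif hπ]
    exact hx
  have h0 : X.left.presheaf.germ ⊤ (g c) trivial b = 0 := by
    refine (ConcreteCategory.bijective_of_isIso (g.stalkMap c)).1 ?_
    show g.stalkMap c (X.left.presheaf.germ ⊤ (g c) trivial b) = g.stalkMap c 0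
    rw [Scheme.Hom.germ_stalkMap_apply, map_zero]
    show C.presheaf.germ ⊤ c trivial (g.appTop b) = 0
    rw [hb, map_zero]
  show X.left.presheaf.germ _ _ hx (X.left.presheaf.map _ b) = X.left.presheaf.germ _ _ hx 0
  rw [TopCat.Presheaf.germ_res_apply, map_zero, h0]

variable [UniversallyClosed X.hom]

/-- Global functions on a model with `H⁰(C, O_C) = K` come from the base. -/
theorem toGlobal_surjective (hH0 : IsIso f.appTop) : Function.Surjective (Coh.toGlobal X.hom) := by
  haveI := hH0
  intro b
  let ψ : Γ(C, ⊤) ⟶ CommRingCat.of (FractionRing R) :=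
    inv f.appTop ≫ (Scheme.ΓSpecIso (CommRingCat.of (FractionRing R))).hom
  let φ := g.appTop ≫ ψ
  have hφ : ∀ r : R, φ (Coh.toGlobal X.hom r) = algebraMap R (FractionRing R) r := fun r => by
    show ((Scheme.ΓSpecIso (CommRingCat.of R)).inv ≫ X.hom.appTop ≫ g.appTop ≫ ψ) r = _
    rw [← Scheme.Hom.comp_appTop_assoc, hg.w, Scheme.Hom.comp_appTop_assoc]
    simp only [ψ, IsIso.hom_inv_id_assoc, Scheme.ΓSpecIso_naturality, Iso.inv_hom_id_assoc]
    rfl
  have hint : (Coh.toGlobal X.hom).IsIntegralElem (show Coh.Γtop X.left from b) := by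
    have h := GrothLib.Stein.isIntegral_section_preimage X.hom (isAffineOpen_top _) (show Γ(X.left, X.hom ⁻¹ᵁ ⊤) from b)
    obtain ⟨q, hqm, hq⟩ := h
    let e := (Scheme.ΓSpecIso (CommRingCat.of R)).commRingCatIsoToRingEquiv
    refine ⟨q.map e.toRingHom, hqm.map _, ?_⟩
    rw [Polynomial.eval₂_map]
    refine Eq.trans ?_ hq
    congr 1
    ext z
    show X.hom.appTop (e.symm (e z)) = _
    rw [e.symm_apply_apply]
    rfl
  have hint' : IsIntegral R (φ b) := by
    obtain ⟨q, hqm, hq⟩ := hint
    refine ⟨q, hqm, ?_⟩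
    have := congrArg φ.hom hq
    rw [Polynomial.hom_eval₂, map_zero] at this
    rw [show φ.hom.comp (Coh.toGlobal X.hom) = algebraMap R (FractionRing R) from RingHom.ext hφ] at this
    exact this
  obtain ⟨r, hr⟩ := (IsIntegrallyClosed.isIntegral_iff (R := R) (K := FractionRing R)).1 hint'
  refine ⟨r, ?_⟩
  refine appTop_generic_injective hg ((ConcreteCategory.bijective_of_isIso ψ).1 ?_)
  exact (hφ r).trans hr

omit [UniversallyClosed X.hom] in
/-- The closed fibre of a model with `H⁰(C, O_C) = K` is connected. -/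
theorem isPreconnected_fibre [IsProper X.hom] (hH0 : IsIso f.appTop) :
    _root_.IsPreconnected (Models.specialFibreSet R X) := by
  have h : Set.range (X.hom.fiberι (closedPoint R)) = Models.specialFibreSet R X := X.hom.range_fiberι _
  haveI := GrothLib.Stein.preconnectedSpace_fiber X.hom (closedPoint R) fun V _ hV => by
    obtain rfl : V = ⊤ := Opens.ext (Set.eq_univ_of_forall fun z => (IsLocalRing.specializes_closedPoint z).mem_open V.2 hV)
    intro b
    obtain ⟨r, hr⟩ := toGlobal_surjective hg hH0 b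
    exact ⟨(Scheme.ΓSpecIso (CommRingCat.of R)).inv r, hr⟩
  rw [← h]
  exact isPreconnected_range (X.hom.fiberι (closedPoint R)).continuous

end GrothLib.ArSurf29
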