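import Groth.Agent.Lib.ArSurf29.Horizontal
import Groth.Agent.Lib.ArSurf29.Form
import Groth.Agent.Lib.ArSurf29.Global
import Groth.Agent.Lib.LocProp.SmoothRegularScheme
import Groth.Agent.Lib.ProjCohom.Corollaries
import Groth.Agent.Lib.CMReg.StructureRegular
import Groth.Agent.Lib.Euler.Basic

/-!
# Smooth proper models: the closed fibre is reduced, integral, and contains no exceptional curve
-/

set_option autoImplicit false
set_option linter.all false
set_option backward.isDefEq.respectTransparency false

universe u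

open CategoryTheory CategoryTheory.Limits AlgebraicGeometry TopologicalSpace IsLocalRing

noncomputable section

namespace GrothLib.ArSurf29

open GrothLib.CartierDescent (stalkIdeal stalkIdeal_eq stalkIdeal_eq_top_iff exists_stalk_generator)

/-- The twisting sheaf of the projective line is not trivial. -/
theorem not_twist_one_iso_structure (k : Type u) [Field k] :
    ¬ Nonempty (Twist.twistProjSpace 1 k 1 ≅ Coh.structureModule (CohB1.ProjSpace 1 k)) := by
  rintro ⟨e⟩
  obtain ⟨e0⟩ := CMReg.nonempty_twist_zero (n := 1) (k := k)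
  have h := (Euler.hhEquiv (A := k) (e ≪≫ e0.symm) 0).finrank_eq
  obtain ⟨a1⟩ := ProjCohom.nonempty_HH_zero (n := 1) (R := k) 1
  obtain ⟨a0⟩ := ProjCohom.nonempty_HH_zero (n := 1) (R := k) 0
  rw [Nat.cast_one] at a1
  rw [Nat.cast_zero] at a0
  rw [a1.finrank_eq, a0.finrank_eq, ProjCohom.finrank_forms, ProjCohom.finrank_forms] at h
  exact absurd h (by decide)

variable {R : Type u} [CommRing R] [IsDomain R] [IsDiscreteValuationRing R]
  {X : Over (Spec (CommRingCat.of R))}

theorem ker_fst_residue :
    (pullback.fst X.hom (Spec.map (CommRingCat.ofHom (residue R)))).ker = Models.specialFibreIdeal R X := by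
  haveI : IsClosedImmersion (Spec.map (CommRingCat.ofHom (residue R))) :=
    IsClosedImmersion.spec_of_surjective _ residue_surjective
  rw [Scheme.IdealSheafData.ker_fst_of_isClosedImmersion, Models.specialFibreIdeal]
  refine congrArg (fun I => Scheme.IdealSheafData.comap I X.hom) (le_antisymm spec_residue_ker_le ?_)
  refine Scheme.IdealSheafData.le_of_isAffine ?_
  rw [Curv2.idealSheaf, Scheme.IdealSheafData.ofIdealTop_ideal, Scheme.Hom.ker_apply]
  simp only [homOfLE_refl, op_id, CategoryTheory.Functor.map_id, CommRingCat.hom_id, Ideal.map_id]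
  rw [Ideal.map_le_iff_le_comap]
  intro a ha
  show (Spec.map (CommRingCat.ofHom (residue R))).appTop ((Scheme.ΓSpecIso (CommRingCat.of R)).inv a) = 0
  have h := ConcreteCategory.congr_hom (Scheme.ΓSpecIso_inv_naturality (CommRingCat.ofHom (residue R))) a
  refine h.symm.trans ?_
  show (Scheme.ΓSpecIso (CommRingCat.of (ResidueField R))).inv ((residue R) a) = 0
  rw [residue_eq_zero_iff _ |>.2 ha, map_zero]

/-- Along the closed fibre of a smooth scheme the fibre ideal is prime. -/
theorem isPrime_st_fibre [Smooth X.hom] {x : X.left} (hx : x ∈ Models.specialFibreSet R X) :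
    (stalkIdeal (Models.specialFibreIdeal R X) x).IsPrime := by
  haveI : IsClosedImmersion (Spec.map (CommRingCat.ofHom (residue R))) :=
    IsClosedImmersion.spec_of_surjective _ residue_surjective
  let i := pullback.fst X.hom (Spec.map (CommRingCat.ofHom (residue R)))
  let s := pullback.snd X.hom (Spec.map (CommRingCat.ofHom (residue R)))
  haveI : Smooth s := inferInstanceAs (Smooth (pullback.snd _ _))
  have hxi : x ∈ Set.range i := by
    refine (Scheme.Pullback.range_fst X.hom _).ge ?_
    exact ⟨closedPoint (ResidueField R), (hx : X.hom x = closedPoint R).symm ▸ (by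
      refine PrimeSpectrum.ext ?_
      show Ideal.comap (residue R) (maximalIdeal (ResidueField R)) = maximalIdeal R
      rw [Ideal.eq_bot_of_prime (maximalIdeal (ResidueField R))]
      exact ker_residue)⟩
  obtain ⟨z, rfl⟩ := hxi
  have hsm : z ∈ s.smoothLocus := by
    rw [Scheme.Hom.smoothLocus_eq_top_iff.2 inferInstance]
    trivial
  haveI : IsRegularLocalRing ((Spec (CommRingCat.of (ResidueField R))).presheaf.stalk (s z)) :=
    WeilExt.isRegularLocalRing_stalk_spec (ResidueField R) _
  haveI := (LocProp.isRegularLocalRing_stalk_iff_of_mem_smoothLocus s z hsm).2 inferInstance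
  haveI := CMFree.isDomain_of_isRegularLocalRing
    ((pullback X.hom (Spec.map (CommRingCat.ofHom (residue R)))).presheaf.stalk z)
  rw [← ker_fst_residue, ← ker_stalkMap_eq_stalkIdeal]
  exact RingHom.ker_isPrime _

variable [IsProper X.hom] [Flat X.hom] [IsLocallyNoetherian X.left]

/-- A smooth proper scheme with connected closed fibre has no exceptional vertical curve. -/
theorem not_isExcCurve_of_smooth [Smooth X.hom] (hX : Models.IsRegularScheme X.left)
    (hconn : _root_.IsPreconnected (Models.specialFibreSet R X)) (Γ : ArSurf.VertComp R X) :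
    ¬ Models.IsExcCurve Γ.ι := by
  rintro ⟨hE, k, _, e, ⟨φ⟩⟩
  haveI := Γ.isClosedImmersion
  haveI := Γ.isIntegral
  let F := Models.specialFibreIdeal R X
  have hF : _root_.BlowUp.IsEffCartierIdeal F := isEffCartier_fibre
  have hZF : Set.range Γ.ι.base ⊆ Models.specialFibreSet R X := range_subset_fibre Γ
  have hle : F ≤ Γ.ι.ker := by
    rw [ker_eq Γ, ← Scheme.IdealSheafData.le_support_iff_le_vanishingIdeal]
    exact closure_minimal (Set.singleton_subset_iff.2 ((support_fibre (X := X)).ge (genPt_mem_fibre Γ)))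
      F.support.isClosed
  have heq : ∀ x ∈ Set.range Γ.ι.base, stalkIdeal F x = stalkIdeal Γ.ι.ker x := fun x hx => by
    haveI := hX x
    haveI := CMFree.isDomain_of_isRegularLocalRing (X.left.presheaf.stalk x)
    haveI hP := isPrime_st_fibre (X := X) (hZF hx)
    haveI hQ := DivPart.stalkIdeal_isPrime (D := Γ.ι.ker) (x := x) (by
      show x ∈ (Γ.ι.ker.support : Set X.left)
      rw [support_ker]; exact hx)
    obtain ⟨a, ha, hFa⟩ := exists_stalk_generator hF x
    obtain ⟨b, hb, hGb⟩ := exists_stalk_generator hE x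
    have hab : Ideal.span {a} ≤ Ideal.span {b} := hFa ▸ hGb ▸ DivPart.stalkIdeal_mono hle x
    rw [hFa, hGb]
    rw [hFa] at hP
    rw [hGb] at hQ
    have hpa : Prime a := (Ideal.span_singleton_prime (nonZeroDivisors.ne_zero ha)).1 hP
    have hpb : Prime b := (Ideal.span_singleton_prime (nonZeroDivisors.ne_zero hb)).1 hQ
    exact Ideal.span_singleton_eq_span_singleton.2
      (Prime.associated_of_dvd hpb hpa (Ideal.span_singleton_le_span_singleton.1 hab)).symm
  have huniv : Models.specialFibreSet R X ⊆ Set.range Γ.ι.base := by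
    choose V hxV hV using fun x : Set.range Γ.ι.base => DivPart.exists_nhd_stalkIdeal_eq hle (heq x.1 x.2)
    let U : Set X.left := ⋃ x, (V x : Set X.left)
    have hU : IsOpen U := isOpen_iUnion fun x => (V x).2
    have hsub : ∀ y ∈ Models.specialFibreSet R X, y ∈ U → y ∈ Set.range Γ.ι.base := fun y hy hyU => by
      obtain ⟨x, hyx⟩ := Set.mem_iUnion.1 hyU
      rw [← support_ker]
      by_contra hc
      have h := hV x y hyx
      rw [(stalkIdeal_eq_top_iff _ _).2 hc, stalkIdeal_eq_top_iff] at h
      exact h ((support_fibre (X := X)).ge hy)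
    intro y hy
    by_contra hc
    have hcl : IsClosed (Set.range Γ.ι.base) := Γ.ι.isClosedEmbedding.isClosed_range
    obtain ⟨w, hwF, hwU, hwc⟩ := hconn U (Set.range Γ.ι.base)ᶜ hU hcl.isOpen_compl
      (fun w hw => by
        by_cases h : w ∈ Set.range Γ.ι.base
        · exact Or.inl (Set.mem_iUnion.2 ⟨⟨w, h⟩, hxV _⟩)
        · exact Or.inr h)
      ⟨_, genPt_mem_fibre Γ, Set.mem_iUnion.2 ⟨⟨_, ⟨genericPoint _, rfl⟩⟩, hxV _⟩⟩ ⟨y, hy, hc⟩
    exact hwc (hsub w hwF hwU)
  have hEq : Γ.ι.ker = F := le_antisymm (DivPart.le_of_stalkIdeal fun y => by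
    by_cases hy : y ∈ Set.range Γ.ι.base
    · exact (heq y hy).ge
    · rw [(stalkIdeal_eq_top_iff F y).2 fun h => hy (huniv ((support_fibre (X := X)).le h))]
      exact le_top) hle
  have hI := IdealModSec.isInvertible_of_isEffCartier hE
  obtain ⟨t⟩ := (Cube.clsMod_eq_one_iff hI).1 (by
    obtain ⟨h', e'⟩ : ∃ h : PicF.IsInvertible (ClSub.idealMod F), Cube.clsMod h = 1 :=
      ⟨IdealModSec.isInvertible_of_isEffCartier hF, cls_fibre _⟩
    exact (cls_idealMod_congr hEq hI h').trans e')
  refine not_twist_one_iso_structure k ⟨φ.symm ≪≫ (Scheme.Modules.pullback (e.hom ≫ Γ.ι)).mapIso t ≪≫ ?_⟩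
  exact ((Cube.clsMod_eq_one_iff (Kleiman.isInv_pullback (e.hom ≫ Γ.ι) (Euler.isInvertible_structure (X := X.left)))).1 (by
    rw [Cube.clsMod_pullback (e.hom ≫ Γ.ι) Euler.isInvertible_structure,
      show Cube.clsMod (Euler.isInvertible_structure (X := X.left)) = 1 from
        (Cube.clsMod_eq_one_iff _).2 ⟨Iso.refl _⟩, map_one])).some

end GrothLib.ArSurf29
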