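import Groth.Agent.Lib.ArSurf29.GcdDivisor
import Groth.Agent.Lib.ArSurf29.Torsion
import Groth.Agent.Lib.ArSurf29.SmoothFibre
import Groth.Agent.Lib.GlobalConst.Scheme

/-!
# Functions on a closed fibre with coprime multiplicities
-/

set_option autoImplicit false
set_option linter.all false
set_option backward.isDefEq.respectTransparency false

universe u

open CategoryTheory CategoryTheory.Limits AlgebraicGeometry TopologicalSpace IsLocalRing

noncomputable section

namespace GrothLib.ArSurf29

variable {R : Type u} [CommRing R] [IsDomain R] [IsDiscreteValuationRing R]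
  {X : Over (Spec (CommRingCat.of R))} [IsProper X.hom] [Flat X.hom] [IsLocallyNoetherian X.left]
  (hX : Models.IsRegularScheme X.left)
  {n : ℕ} {Γ : Fin n → ArSurf.VertComp R X} (hΓ : Models.IsComponentList R X Γ)
  (hconn : _root_.IsPreconnected (Models.specialFibreSet R X))
include hX hΓ hconn

/-- With coprime multiplicities the functions on the closed fibre form a field. -/
theorem isField_fibre [Nonempty (Fin n)] (hgcd : Models.multGcd R X Γ = 1) :
    IsField Γ((Models.specialFibreIdeal R X).subscheme, ⊤) := by
  obtain ⟨L, hL⟩ := exists_inverses hX hΓ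
  have hF : ∏ j, (Γ j).ι.ker ^ (Models.mult R X (Γ j) / Models.multGcd R X Γ) = Models.specialFibreIdeal R X := by
    simp only [hgcd, Nat.div_one]
    exact (fibre_eq_prod hΓ hX).symm
  exact hF ▸ isField_gcdDivisor hX hΓ hL hconn

/-- The same for the fibre product with the residue field. -/
theorem isField_pullback [Nonempty (Fin n)] (hgcd : Models.multGcd R X Γ = 1) :
    IsField Γ(pullback X.hom (Spec.map (CommRingCat.ofHom (residue R))), ⊤) := by
  haveI : IsClosedImmersion (Spec.map (CommRingCat.ofHom (residue R))) :=
    IsClosedImmersion.spec_of_surjective _ residue_surjective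
  have h : IsField Γ((pullback.fst X.hom (Spec.map (CommRingCat.ofHom (residue R)))).ker.subscheme, ⊤) := by
    rw [ker_fst_residue]
    exact isField_fibre hX hΓ hconn hgcd
  exact MulEquiv.isField h (asIso (pullback.fst X.hom (Spec.map (CommRingCat.ofHom (residue R)))).toImage.appTop).commRingCatIsoToRingEquiv.symm.toMulEquiv

end GrothLib.ArSurf29
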