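import Groth.Agent.Lib.ArSurf29.GcdDivisor
import Groth.Agent.Lib.ArSurf29.Constants

/-!
# Constants on a closed fibre with a component without extra constants
-/

set_option autoImplicit false
set_option linter.all false
set_option backward.isDefEq.respectTransparency false

universe u

open CategoryTheory CategoryTheory.Limits AlgebraicGeometry TopologicalSpace IsLocalRing

noncomputable section

namespace GrothLib.ArSurf29

variable {R : Type u} [CommRing R] [IsDomain R] [IsDiscreteValuationRing R]
  {X : Over (Spec (CommRingCat.of R))} [IsProper X.hom] [Flat X.hom] [IsLocallyNoetherian X.left]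
  (hX : Models.IsRegularScheme X.left)
  {n : ℕ} {Γ : Fin n → ArSurf.VertComp R X} (hΓ : Models.IsComponentList R X Γ)
  {L : Fin n → X.left.Modules} (hL : ∀ j, ClSub.IsInverseOf (L j) (ClSub.idealMod (Γ j).ι.ker))
  (hconn : _root_.IsPreconnected (Models.specialFibreSet R X))
include hX hΓ hL hconn

/-- With coprime multiplicities and a component with constants `k`, the fibre has constants `k`. -/
theorem lengthH_fibre_zero_eq_one (hgcd : Models.multGcd R X Γ = 1) (i : Fin n)
    (hw : Models.wdeg R X (Γ i) = 1) :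
    Models.lengthH R X (ClSub.quotMod (Models.specialFibreIdeal R X)) 0 = 1 := by
  obtain ⟨ρ, hρ, v, hv, hρv⟩ := exists_injective_gcdDivisor hX hΓ hL hconn i
  have hF : ∏ j, (Γ j).ι.ker ^ (Models.mult R X (Γ j) / Models.multGcd R X Γ) = Models.specialFibreIdeal R X := by
    simp only [hgcd, Nat.div_one]
    exact (fibre_eq_prod hΓ hX).symm
  rw [← hF]
  haveI := (Γ i).isClosedImmersion
  haveI := (Γ i).isIntegral
  haveI := isProper_curve (Γ i)
  let D := ∏ j, (Γ j).ι.ker ^ (Models.mult R X (Γ j) / Models.multGcd R X Γ)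
  obtain ⟨s, hs⟩ := exists_toResidueField (X := X) (D := D) hF.ge
  letI : D.subscheme.Over (Spec (CommRingCat.of (ResidueField R))) := ⟨s⟩
  haveI : IsProper (D.subscheme ↘ Spec (CommRingCat.of (ResidueField R))) := isProper_toResidueField s hs
  rw [lengthH_quotMod (D := D) hs 0]
  letI := GlobalConst.algΓ (ResidueField R) (X := D.subscheme)
  letI := GlobalConst.algΓ (ResidueField R) (X := (Γ i).curve.left)
  rw [(GlobalConst.h0Equiv (ResidueField R) (X := D.subscheme)).finrank_eq]
  let w : (Γ i).curve.left ⟶ D.subscheme := (Γ i).ι.toImage ≫ v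
  haveI : IsClosedImmersion (Spec.map (CommRingCat.ofHom (residue R))) :=
    IsClosedImmersion.spec_of_surjective _ residue_surjective
  have hw' : w ≫ s = (Γ i).curve.hom := by
    rw [← cancel_mono (Spec.map (CommRingCat.ofHom (residue R))), Category.assoc, hs, ← (Γ i).w]
    simp only [w, Category.assoc]
    rw [show v ≫ D.subschemeι ≫ X.hom = (Γ i).ι.ker.subschemeι ≫ X.hom from
      (Category.assoc _ _ _).symm.trans (congrArg (· ≫ X.hom) hv)]
    rw [show (Γ i).ι.toImage ≫ (Γ i).ι.ker.subschemeι ≫ X.hom = (Γ i).ι ≫ X.hom from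
      (Category.assoc _ _ _).symm.trans (congrArg (· ≫ X.hom) (Γ i).ι.toImage_imageι)]
  have hinj : Function.Injective w.appTop := by
    rw [Scheme.Hom.comp_appTop]
    exact (ConcreteCategory.bijective_of_isIso (Γ i).ι.toImage.appTop).1.comp (by rw [hρv] at hρ; exact hρ)
  have hfr : Module.finrank (ResidueField R) Γ((Γ i).curve.left, ⊤) = 1 := (wdeg_eq (Γ i)).symm.trans hw
  haveI : Nontrivial Γ((Γ i).curve.left, ⊤) := Module.nontrivial_of_finrank_eq_succ (hfr.trans rfl)
  haveI : Nontrivial Γ(D.subscheme, ⊤) := w.appTop.hom.domain_nontrivial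
  have hcomp : ∀ c : ResidueField R, w.appTop (algebraMap (ResidueField R) Γ(D.subscheme, ⊤) c) =
      algebraMap (ResidueField R) Γ((Γ i).curve.left, ⊤) c := fun c => by
    show w.appTop (s.appTop ((Scheme.ΓSpecIso (CommRingCat.of (ResidueField R))).inv c)) =
      (Γ i).curve.hom.appTop ((Scheme.ΓSpecIso (CommRingCat.of (ResidueField R))).inv c)
    rw [← hw', Scheme.Hom.comp_appTop]
    rfl
  have hb : Function.Bijective (Algebra.linearMap (ResidueField R) Γ(D.subscheme, ⊤)) := by
    refine ⟨(algebraMap (ResidueField R) Γ(D.subscheme, ⊤)).injective, fun b => ?_⟩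
    obtain ⟨c, hc⟩ := (finrank_eq_one_iff_of_nonzero' (1 : Γ((Γ i).curve.left, ⊤)) one_ne_zero).1 hfr (w.appTop b)
    exact ⟨c, hinj ((hcomp c).trans ((Algebra.algebraMap_eq_smul_one c).trans hc))⟩
  rw [← (LinearEquiv.ofBijective _ hb).finrank_eq, Module.finrank_self]

end GrothLib.ArSurf29
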