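import Groth.Agent.Lib.BCCoh.CohFlatZero
import Groth.Agent.Lib.AssPts.Flat
import Groth.Agent.Lib.HomSh.Coherent

/-!
# Functions on the closed fibre lift when they form an étale algebra
-/

set_option autoImplicit false
set_option linter.all false
set_option maxHeartbeats 1000000

universe u

open CategoryTheory CategoryTheory.Limits AlgebraicGeometry Opposite TopologicalSpace TensorProduct Polynomial IsLocalRing
open GrothLib.BCCoh

attribute [local instance] HasDerivedCategory.standard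

namespace GrothLib.ArSurf29

variable {A : Type u} [CommRing A]

theorem mem_map_ker_of_app_eq_zero {X : Scheme.{u}} (f : X ⟶ Spec (CommRingCat.of A)) {κ : Type u} [CommRing κ]
    (φ : A →+* κ) (hφ : Function.Surjective φ) {X' : Scheme.{u}} (f' : X' ⟶ Spec (CommRingCat.of κ))
    (g : X' ⟶ X) (H : IsPullback g f' f (Spec.map (CommRingCat.ofHom φ))) (U : X.affineOpens) (s : Γ(X, U.1))
    (hs : g.app U.1 s = 0) : s ∈ (RingHom.ker φ).map (psi f U.1) := by
  have hs' : g.appLE U.1 (g ⁻¹ᵁ U.1) le_rfl s = 0 := by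
    rwa [Scheme.Hom.appLE_eq_app]
  let S := Γ(X, U.1)
  let S' := Γ(X', g ⁻¹ᵁ U.1)
  letI : Algebra A κ := φ.toAlgebra
  letI : Algebra A S := (psiS f U.1).toAlgebra
  letI : Algebra κ S' := (psiS f' (g ⁻¹ᵁ U.1)).toAlgebra
  letI : Algebra S S' := (g.appLE U.1 (g ⁻¹ᵁ U.1) le_rfl).hom.toAlgebra
  letI : Algebra A S' := ((psiS f' (g ⁻¹ᵁ U.1)).comp φ).toAlgebra
  haveI : IsScalarTower A κ S' := IsScalarTower.of_algebraMap_eq fun _ => rfl
  haveI : IsScalarTower A S S' :=
    IsScalarTower.of_algebraMap_eq fun a => (appLE_psiS φ f f' g H U.1 _ le_rfl a).symm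
  have hP : IsPushout (f.appLE ⊤ U.1 le_top) ((Spec.map (CommRingCat.ofHom φ)).appLE ⊤ ⊤ le_top)
      (g.appLE U.1 (g ⁻¹ᵁ U.1) le_rfl) (f'.appLE ⊤ (g ⁻¹ᵁ U.1) le_top) :=
    (AlgebraicGeometry.isIso_pushoutSection_iff H (US := ⊤) (UT := ⊤) (UX := U.1) (UY := g ⁻¹ᵁ U.1)
      le_top le_top (by simp)).1
      (AlgebraicGeometry.isIso_pushoutSection_of_isAffineOpen H le_top le_top (by simp)
        (isAffineOpen_top _) (isAffineOpen_top _) U.2)
  have hP' : IsPushout (CommRingCat.ofHom (algebraMap A κ)) (CommRingCat.ofHom (algebraMap A S))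
      (CommRingCat.ofHom (algebraMap κ S')) (CommRingCat.ofHom (algebraMap S S')) := by
    refine hP.flip.of_iso (Scheme.ΓSpecIso (CommRingCat.of A)) (Scheme.ΓSpecIso (CommRingCat.of κ))
      (Iso.refl _) (Iso.refl _) ?_ ?_ ?_ ?_
    · have e1 : (Spec.map (CommRingCat.ofHom φ)).appLE ⊤ ⊤ le_top = (Spec.map (CommRingCat.ofHom φ)).appTop :=
        Scheme.Hom.appLE_eq_app _
      rw [e1]
      exact Scheme.ΓSpecIso_naturality (CommRingCat.ofHom φ)
    · rw [← Iso.inv_comp_eq]
      rfl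
    · rw [← Iso.inv_comp_eq]
      rfl
    · rw [Iso.refl_hom, Iso.refl_hom, Category.comp_id]
      exact (Category.id_comp _).symm
  haveI : Algebra.IsPushout A κ S S' := CommRingCat.isPushout_iff_isPushout.1 hP'
  have hb : IsBaseChange κ (IsScalarTower.toAlgHom A S S').toLinearMap := Algebra.IsPushout.out
  have h1 : (1 : κ) ⊗ₜ[A] s = 0 := by
    apply hb.equiv.injective
    rw [hb.equiv_tmul, one_smul, map_zero]
    exact hs'
  let q : (A ⧸ RingHom.ker φ) ≃ₐ[A] κ := Ideal.quotientKerAlgEquivOfSurjective (f := Algebra.ofId A κ) hφ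
  have h2 : (Ideal.Quotient.mk (RingHom.ker φ) 1) ⊗ₜ[A] s = (0 : (A ⧸ RingHom.ker φ) ⊗[A] S) := by
    apply (TensorProduct.congr q.toLinearEquiv (LinearEquiv.refl A S)).injective
    rw [TensorProduct.congr_tmul, map_zero]
    show q (Ideal.Quotient.mk _ 1) ⊗ₜ[A] s = 0
    rw [map_one, map_one]
    exact h1
  have h3 := congrArg (TensorProduct.quotTensorEquivQuotSMul S (RingHom.ker φ)) h2
  rw [map_zero, TensorProduct.quotTensorEquivQuotSMul_mk_tmul, one_smul, Submodule.Quotient.mk_eq_zero,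
    Ideal.smul_top_eq_map] at h3
  exact h3

/-- Over a Noetherian local ring, functions on the closed fibre of a proper flat scheme lift when they form
an étale algebra over the residue field. -/
theorem exists_lift_of_etale [IsLocalRing A] [IsNoetherianRing A] {X : Scheme.{u}} [X.Over (Spec (CommRingCat.of A))]
    [IsProper (X ↘ Spec (CommRingCat.of A))] [Flat (X ↘ Spec (CommRingCat.of A))]
    {κ : Type u} [Field κ] (ψ : A →+* κ) (hψ : Function.Surjective ψ)
    {X' : Scheme.{u}} (f' : X' ⟶ Spec (CommRingCat.of κ)) (g : X' ⟶ X)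
    (H : IsPullback g f' (X ↘ Spec (CommRingCat.of A)) (Spec.map (CommRingCat.ofHom ψ)))
    (het : letI : Algebra κ Γ(X', ⊤) := (psiS f' ⊤).toAlgebra; Algebra.Etale κ Γ(X', ⊤)) :
    Function.Surjective g.appTop := by
  set f := X ↘ Spec (CommRingCat.of A) with hf
  haveI : IsLocallyNoetherian X := LocallyOfFiniteType.isLocallyNoetherian f
  haveI : X.IsSeparated := ⟨by rw [← terminal.comp_from f]; infer_instance⟩
  have hC : Coh.IsCoh (Coh.structureModule X) := GrothLib.HomSh.isCoh_structureModule X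
  have hO : (Coh.structureModule X).IsQuasicoherent := hC.1
  have hfl : FlatMod.IsFlatOver f (Coh.structureModule X) := fun x => GrothLib.AssPts.isFlatOverAt_structure f x
  obtain ⟨m⟩ := GrothLib.BCCoh.nonempty_model f _ hC hfl
  haveI := hO
  haveI := m.flatL
  haveI := fun i => (m.finFree i).1
  haveI hepi := m.preservesEpi_zero_of_etale hO ψ hψ f' g H het
  have hker : RingHom.ker ψ = maximalIdeal A :=
    IsLocalRing.eq_maximalIdeal (RingHom.ker_isMaximal_of_surjective ψ hψ)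
  let I := maximalIdeal A
  let φ : ModuleCat.of A (A ⧸ (⊥ : Ideal A)) ⟶ ModuleCat.of A (A ⧸ I) :=
    ModuleCat.ofHom (Submodule.mapQ (⊥ : Ideal A) I LinearMap.id bot_le)
  have hφ : φ (Submodule.Quotient.mk 1) = (Submodule.Quotient.mk 1 : A ⧸ I) := rfl
  haveI : Epi φ := (ModuleCat.epi_iff_surjective _).2 fun y => by
    obtain ⟨a, rfl⟩ := Submodule.Quotient.mk_surjective _ y
    exact ⟨Submodule.Quotient.mk a, rfl⟩
  obtain ⟨e, -, hnat⟩ := m.exists_equiv 0
  have hsur : Function.Surjective ((CohIII.TFun m.L ((0 : ℕ) : ℤ)).map φ).hom :=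
    (ModuleCat.epi_iff_surjective _).1 (Functor.map_epi _ _)
  let Eq0 := fun (G : X.Modules) =>
    (show Coh.HH X G 0 ≃+ Γ(G, ⊤) from Sheaf.H.equiv₀ (Coh.toAb G) (T := (⊤ : X.Opens)) isTerminalTop)
  have hT : Function.Surjective (((TF f (Coh.structureModule X)).map φ).app ⊤) := by
    intro t
    obtain ⟨y, hy⟩ := hsur ((e _).symm ((Eq0 _).symm t))
    refine ⟨Eq0 _ (e _ y), ?_⟩
    have h2 := hnat φ y
    rw [hy, AddEquiv.apply_symm_apply] at h2
    refine (Sheaf.H.equiv₀_naturality isTerminalTop ((SheafOfModules.toSheaf X.ringCatSheaf).map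
      ((TF f (Coh.structureModule X)).map φ)) (e _ y)).trans ?_
    exact (congrArg (Eq0 _) h2.symm).trans ((Eq0 _).apply_symm_apply t)
  haveI : IsClosedImmersion (Spec.map (CommRingCat.ofHom ψ)) := IsClosedImmersion.spec_of_surjective _ hψ
  haveI : IsClosedImmersion g := MorphismProperty.of_isPullback (P := @IsClosedImmersion) H.flip inferInstance
  have hkerI : ∀ (U : X.affineOpens) (a : Γ(X, U.1)), g.app U.1 a = 0 ↔ a ∈ I.map (psi f U.1) := by
    intro U a
    refine ⟨fun h => ?_, fun h => ?_⟩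
    · show a ∈ (maximalIdeal A).map _
      rw [← hker]
      exact mem_map_ker_of_app_eq_zero f ψ hψ f' g H U a h
    · have : I.map (psi f U.1) ≤ RingHom.ker (g.app U.1).hom := by
        rw [Ideal.map_le_iff_le_comap]
        intro b hb
        show g.app U.1 (psi f U.1 b) = 0
        rw [← Scheme.Hom.appLE_eq_app]
        refine (appLE_psiS ψ f f' g H U.1 _ le_rfl b).trans ?_
        rw [show ψ b = 0 from RingHom.mem_ker.1 (hker ▸ hb), map_zero]
      exact this h
  have hnatg : ∀ {U V : X.Opens} (h : V ≤ U) (a : Γ(X, U)), g.app V (X.presheaf.map (homOfLE h).op a) =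
      X'.presheaf.map (homOfLE (g.preimage_mono h)).op (g.app U a) := fun h a =>
    ConcreteCategory.congr_hom (g.naturality (homOfLE h).op) a
  intro s
  choose r hr using fun U : X.affineOpens =>
    g.app_surjective U.1 U.2 (X'.presheaf.map (homOfLE (le_top : g ⁻¹ᵁ U.1 ≤ ⊤)).op s)
  set T₁ := (TF f (Coh.structureModule X)).obj (ModuleCat.of A (A ⧸ I))
  set T₂ := (TF f (Coh.structureModule X)).obj (ModuleCat.of A (A ⧸ (⊥ : Ideal A)))
  let opensU : X.affineOpens → X.Opens := fun U => U.1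
  obtain ⟨t, ht, -⟩ := TopCat.Sheaf.existsUnique_gluing' ⟨T₁.presheaf, T₁.isSheaf⟩ opensU ⊤
    (fun U => homOfLE le_top) (iSup_affineOpens_eq_top X).ge (fun U => sigma I U.1 (r U))
    fun U V => by
      let W : X.affineOpens := ⟨U.1 ⊓ V.1, U.2.inf V.2⟩
      show T₁.presheaf.map (homOfLE (inf_le_left : W.1 ≤ U.1)).op (sigma I U.1 (r U)) =
        T₁.presheaf.map (homOfLE (inf_le_right : W.1 ≤ V.1)).op (sigma I V.1 (r V))
      rw [sigma_res, sigma_res, sigma_eq_iff hO I W.2]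
      refine (hkerI W _).1 ?_
      rw [map_sub, hnatg, hnatg, hr, hr, sub_eq_zero]
      show (X'.presheaf.map _ ≫ X'.presheaf.map _) s = (X'.presheaf.map _ ≫ X'.presheaf.map _) s
      rw [← Functor.map_comp, ← Functor.map_comp]
      rfl
  obtain ⟨u, rfl⟩ := hT t
  choose ρ hρ using fun U : X.affineOpens =>
    sigma_surjective hO (⊥ : Ideal A) U.2 (T₂.presheaf.map (homOfLE (le_top : U.1 ≤ ⊤)).op u)
  obtain ⟨R, hR, -⟩ := TopCat.Sheaf.existsUnique_gluing' X.sheaf opensU ⊤
    (fun U => homOfLE le_top) (iSup_affineOpens_eq_top X).ge ρ fun U V => by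
      let W : X.affineOpens := ⟨U.1 ⊓ V.1, U.2.inf V.2⟩
      show X.presheaf.map (homOfLE (inf_le_left : W.1 ≤ U.1)).op (ρ U) =
        X.presheaf.map (homOfLE (inf_le_right : W.1 ≤ V.1)).op (ρ V)
      rw [← sub_eq_zero]
      have h : sigma (⊥ : Ideal A) W.1 (X.presheaf.map (homOfLE (inf_le_left : W.1 ≤ U.1)).op (ρ U)) =
          sigma (⊥ : Ideal A) W.1 (X.presheaf.map (homOfLE (inf_le_right : W.1 ≤ V.1)).op (ρ V)) := by
        rw [← sigma_res, ← sigma_res, hρ, hρ]
        show (T₂.presheaf.map _ ≫ T₂.presheaf.map _) u = (T₂.presheaf.map _ ≫ T₂.presheaf.map _) u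
        rw [← Functor.map_comp, ← Functor.map_comp]
        rfl
      rwa [sigma_eq_iff hO _ W.2, Ideal.map_bot, Ideal.mem_bot] at h
  refine ⟨R, ?_⟩
  have hcov : (⊤ : X'.Opens) ≤ ⨆ U : X.affineOpens, g ⁻¹ᵁ U.1 := by
    intro x _
    have hx : g x ∈ (⊤ : X.Opens) := trivial
    rw [← iSup_affineOpens_eq_top X] at hx
    obtain ⟨U, hU⟩ := Opens.mem_iSup.1 hx
    exact Opens.mem_iSup.2 ⟨U, hU⟩
  refine TopCat.Sheaf.eq_of_locally_eq' X'.sheaf (fun U : X.affineOpens => g ⁻¹ᵁ U.1) ⊤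
    (fun U => homOfLE le_top) hcov _ _ fun U => ?_
  show X'.presheaf.map _ (g.app ⊤ R) = X'.presheaf.map _ s
  refine (hnatg (le_top : U.1 ≤ ⊤) R).symm.trans ?_
  rw [show X.presheaf.map (homOfLE (le_top : U.1 ≤ ⊤)).op R = ρ U from hR U, ← hr U, ← sub_eq_zero, ← map_sub]
  refine (hkerI U _).2 ?_
  rw [← sigma_eq_iff hO I U.2, ← sigma_map φ hφ U.1 (ρ U), hρ]
  refine Eq.trans ?_ (ht U)
  exact ConcreteCategory.congr_hom (((TF f (Coh.structureModule X)).map φ).mapPresheaf.naturality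
    (homOfLE (le_top : U.1 ≤ ⊤)).op) u

end GrothLib.ArSurf29
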