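import Groth.Agent.Lib.ArSurf29.GenusZeroComp
import Groth.Agent.Lib.ArSurf29.GenusFormula
import Groth.Agent.Lib.ArSurf29.Connected
import Groth.Agent.Lib.ConnH0.Basic

/-!
# The reduced closed fibre of a minimal model
-/

set_option autoImplicit false
set_option linter.all false
set_option backward.isDefEq.respectTransparency false

universe u

open CategoryTheory CategoryTheory.Limits AlgebraicGeometry TopologicalSpace IsLocalRing

noncomputable section

namespace GrothLib.ArSurf29

open GrothLib.CartierDescent (stalkIdeal stalkIdeal_eq_top_iff exists_stalk_generator stalkIdeal_map_specializes)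

variable {R : Type u} [CommRing R] [IsDomain R] [IsDiscreteValuationRing R]
  {X : Over (Spec (CommRingCat.of R))} [IsProper X.hom] [Flat X.hom] [IsLocallyNoetherian X.left]
  (hX : Models.IsRegularScheme X.left)
  {n : ℕ} {Γ : Fin n → ArSurf.VertComp R X} (hΓ : Models.IsComponentList R X Γ)
include hX hΓ

/-- The reduced closed fibre is the sum of the components. -/
theorem redFibre_eq_prod : Models.redFibreIdeal R X = ∏ j, (Γ j).ι.ker := by
  classical
  refine le_antisymm (DivPart.le_of_stalkIdeal fun x => ?_) ?_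
  · haveI := hX x
    haveI := CMFree.isDomain_of_isRegularLocalRing (X.left.presheaf.stalk x)
    haveI : UniqueFactorizationMonoid (X.left.presheaf.stalk x) := RegUFD.ufd_of_isRegularLocalRing _
    choose γ hγ hγI using fun j => exists_stalk_generator (isEffCartier_ker (isMaxComp hΓ j) hX) x
    intro a ha
    show a ∈ DivPart.stalkHom x _
    have hj : ∀ j, a ∈ stalkIdeal (Γ j).ι.ker x := fun j => by
      refine DivPart.stalkIdeal_mono ?_ x ha
      rw [ker_eq (Γ j), Models.redFibreIdeal]
      refine Scheme.IdealSheafData.vanishingIdeal_antimono ?_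
      exact closure_minimal (Set.singleton_subset_iff.2 (genPt_mem_fibre (Γ j)))
        (Models.isClosed_specialFibreSet R X)
    rw [map_prod, Finset.prod_congr rfl fun j _ => show DivPart.stalkHom x (Γ j).ι.ker = Ideal.span {γ j} from hγI j,
      Ideal.prod_span_singleton, Ideal.mem_span_singleton]
    refine Finset.prod_dvd_of_isRelPrime (fun p _ q _ hpq => ?_) fun j _ =>
      Ideal.mem_span_singleton.1 ((hγI j).le (hj j))
    simp only [Function.onFun]
    by_cases hup : IsUnit (γ p)
    · exact hup.isRelPrime_left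
    by_cases huq : IsUnit (γ q)
    · exact huq.isRelPrime_right
    have hxsupp : ∀ j, ¬ IsUnit (γ j) → x ∈ (Γ j).ι.ker.support := fun j hu => by
      by_contra hc
      exact hu (Ideal.span_singleton_eq_top.1 ((hγI j).symm.trans ((stalkIdeal_eq_top_iff _ _).2 hc)))
    have hprime : ∀ j, ¬ IsUnit (γ j) → Prime (γ j) := fun j hu => by
      haveI := DivPart.stalkIdeal_isPrime (D := (Γ j).ι.ker) (hxsupp j hu)
      exact (Ideal.span_singleton_prime (nonZeroDivisors.ne_zero (hγ j))).1 (hγI j ▸ inferInstance)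
    refine (hprime p hup).irreducible.isRelPrime_iff_not_dvd.2 fun hdvd => ?_
    have heq : stalkIdeal (Γ p).ι.ker x = stalkIdeal (Γ q).ι.ker x := by
      rw [hγI, hγI]
      exact Ideal.span_singleton_eq_span_singleton.2 (Prime.associated_of_dvd (hprime p hup) (hprime q huq) hdvd)
    have hsp : Models.genPtOf R X (Γ p) ⤳ x :=
      (mem_range_iff _).1 ((support_ker (Γ p)).le (hxsupp p hup))
    have h2 : stalkIdeal (Γ p).ι.ker (Models.genPtOf R X (Γ p)) = stalkIdeal (Γ q).ι.ker (Models.genPtOf R X (Γ p)) := by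
      rw [← stalkIdeal_map_specializes _ hsp, heq, stalkIdeal_map_specializes]
    rw [st_ker_genPt, (stalkIdeal_eq_top_iff (Γ q).ι.ker _).2 fun h =>
      notMem_range_of_ne hΓ (Ne.symm hpq) ((support_ker (Γ q)).le h)] at h2
    exact (maximalIdeal.isMaximal _).ne_top h2
  · rw [Models.redFibreIdeal, ← Scheme.IdealSheafData.le_support_iff_le_vanishingIdeal]
    intro x hx
    show x ∈ ((∏ j, (Γ j).ι.ker).support : Set X.left)
    obtain ⟨i, hi⟩ := exists_mem_range hΓ (hx : x ∈ Models.specialFibreSet R X)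
    refine Scheme.IdealSheafData.support_antitone (show ∏ j, (Γ j).ι.ker ≤ (Γ i).ι.ker by
      rw [← Finset.mul_prod_erase Finset.univ _ (Finset.mem_univ i)]
      exact mul_le_left' _ _) ((support_ker (Γ i)).ge hi)

variable {L : Fin n → X.left.Modules} (hL : ∀ j, ClSub.IsInverseOf (L j) (ClSub.idealMod (Γ j).ι.ker))
  (hconn : _root_.IsPreconnected (Models.specialFibreSet R X))
include hL hconn

/-- A component of a fibre with several components has negative self-intersection. -/
theorem inter_self_neg [Nontrivial (Fin n)] (i : Fin n) : ArSurf.inter R X (L i) (Γ i) < 0 := by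
  classical
  have hnp := quad_nonpos (fun i j => ArSurf.inter R X (L j) (Γ i))
    (fun i => (Models.mult R X (Γ i) : ℤ)) (fun i => by exact_mod_cast mult_pos (isMaxComp hΓ i) hX)
    (inter_symm hX hΓ hL) (fun i j h => (inter_nonneg_of_ne hX hΓ hL h).1)
    (fun i => le_of_eq ((Finset.sum_congr rfl fun j _ => mul_comm _ _).trans (sum_mult_inter hX hΓ hL i)))
    (Pi.single i 1)
  have heq : ∑ p, ∑ q, (Pi.single i 1 : Fin n → ℤ) p * (Pi.single i 1 : Fin n → ℤ) q * ArSurf.inter R X (L q) (Γ p) =
      ArSurf.inter R X (L i) (Γ i) := by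
    rw [Finset.sum_eq_single i (fun p _ hp => by simp [hp]) (fun h => absurd (Finset.mem_univ _) h),
      Finset.sum_eq_single i (fun q _ hq => by simp [hq]) (fun h => absurd (Finset.mem_univ _) h)]
    simp
  rw [heq] at hnp
  refine lt_of_le_of_ne hnp fun h0 => ?_
  obtain ⟨c, hc⟩ := (form_eq_zero_iff hX hΓ hL hconn (Pi.single i 1)).1 (heq.trans h0)
  obtain ⟨j, hj⟩ := exists_ne i
  have h1 := hc i
  have h2 := hc j
  simp [hj] at h1 h2
  rcases h2 with rfl | h2
  · simp at h1
  · exact absurd h2 (mult_pos (isMaxComp hΓ j) hX).ne'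

/-- On a minimal model every component has nonnegative canonical degree. -/
theorem canonical_deg_nonneg [Nontrivial (Fin n)]
    (hmin : ∀ Γ' : ArSurf.VertComp R X, ¬ Models.IsExcCurve Γ'.ι) (i : Fin n) :
    ArSurf.inter R X (L i) (Γ i) + 2 * ((Models.wdeg R X (Γ i) : ℤ) - Models.h1 R X (Γ i)) ≤ 0 := by
  by_contra hc
  have hneg := inter_self_neg hX hΓ hL hconn i
  have hlt : Models.h1 R X (Γ i) < Models.wdeg R X (Γ i) := by omega
  have h1 : Models.h1 R X (Γ i) = 0 := Nat.eq_zero_of_dvd_of_lt (wdeg_dvd_h1 (Γ i)) hlt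
  obtain ⟨q, hq⟩ := wdeg_dvd_inter (Γ i) (isInvertible_inverse hX hΓ hL i)
  have hw : (0 : ℤ) < Models.wdeg R X (Γ i) := by exact_mod_cast wdeg_pos (Γ i)
  have hq1 : q = -1 := by
    rw [h1, hq] at hc
    rw [hq] at hneg
    have hqn : q < 0 := by
      by_contra h
      nlinarith
    have : -2 < q := by
      by_contra h
      push_cast at hc
      nlinarith
    omega
  refine hmin (Γ i) (isExcCurve_of_h1_inter (Γ i) (isEffCartier_ker (isMaxComp hΓ i) hX) (hL i) h1 ?_)
  rw [hq, hq1]
  ring

/-- `χ(X_red) ≥ χ(X_k)`, strictly unless the fibre is a multiple of its reduction. -/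
theorem chiD_redFibre_ge [Nontrivial (Fin n)]
    (hmin : ∀ Γ' : ArSurf.VertComp R X, ¬ Models.IsExcCurve Γ'.ι) :
    chiD X (Models.specialFibreIdeal R X) ≤ chiD X (Models.redFibreIdeal R X) ∧
      ((∃ i j, Models.mult R X (Γ i) ≠ Models.mult R X (Γ j)) →
        chiD X (Models.specialFibreIdeal R X) < chiD X (Models.redFibreIdeal R X)) := by
  classical
  have h1 := two_mul_chiD hX hΓ hL (fun _ => 1) fun j => mult_pos (isMaxComp hΓ j) hX
  simp only [pow_one] at h1
  rw [← redFibre_eq_prod hX hΓ] at h1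
  have h2 := two_mul_chiD hX hΓ hL (fun j => Models.mult R X (Γ j)) fun j => le_rfl
  rw [← fibre_eq_prod hΓ hX] at h2
  have hz : ∑ i, ∑ j, (Models.mult R X (Γ i) : ℤ) * Models.mult R X (Γ j) * ArSurf.inter R X (L j) (Γ i) = 0 :=
    Finset.sum_eq_zero fun i _ => by
      simp only [mul_assoc, ← Finset.mul_sum, sum_mult_inter hX hΓ hL i, mul_zero]
  have hQ := quad_nonpos (fun i j => ArSurf.inter R X (L j) (Γ i))
    (fun i => (Models.mult R X (Γ i) : ℤ)) (fun i => by exact_mod_cast mult_pos (isMaxComp hΓ i) hX)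
    (inter_symm hX hΓ hL) (fun i j h => (inter_nonneg_of_ne hX hΓ hL h).1)
    (fun i => le_of_eq ((Finset.sum_congr rfl fun j _ => mul_comm _ _).trans (sum_mult_inter hX hΓ hL i)))
    (fun _ => 1)
  have hK : ∑ i, (Models.mult R X (Γ i) : ℤ) * (ArSurf.inter R X (L i) (Γ i) +
        2 * ((Models.wdeg R X (Γ i) : ℤ) - Models.h1 R X (Γ i))) ≤
      ∑ i, (1 : ℤ) * (ArSurf.inter R X (L i) (Γ i) + 2 * ((Models.wdeg R X (Γ i) : ℤ) - Models.h1 R X (Γ i))) :=
    Finset.sum_le_sum fun i _ => mul_le_mul_of_nonpos_right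
      (by exact_mod_cast mult_pos (isMaxComp hΓ i) hX) (canonical_deg_nonneg hX hΓ hL hconn hmin i)
  simp only [Nat.cast_one] at h1
  refine ⟨by rw [hz] at h2; linarith, fun ⟨i, j, hij⟩ => ?_⟩
  have hQ' : ∑ p, ∑ q, (1 : ℤ) * 1 * ArSurf.inter R X (L q) (Γ p) ≠ 0 := fun h0 => by
    obtain ⟨c, hc⟩ := (form_eq_zero_iff hX hΓ hL hconn fun _ => (1 : ℤ)).1 h0
    apply hij
    have ha := hc i
    have hb := hc j
    have hc0 : c ≠ 0 := fun h => by simp [h] at ha
    have := mul_left_cancel₀ hc0 (ha.symm.trans hb)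
    exact_mod_cast this
  rw [hz] at h2
  have := lt_of_le_of_ne hQ hQ'
  linarith

omit hL hconn in
theorem fibre_le_redFibre : Models.specialFibreIdeal R X ≤ Models.redFibreIdeal R X := by
  rw [Models.redFibreIdeal, ← Scheme.IdealSheafData.le_support_iff_le_vanishingIdeal]
  exact (support_fibre (X := X)).ge

omit hL hconn in
theorem one_le_lengthH_fibre_zero [Nonempty (Fin n)] :
    1 ≤ Models.lengthH R X (ClSub.quotMod (Models.specialFibreIdeal R X)) 0 := by
  obtain ⟨s, hs⟩ := exists_toResidueField (X := X) (D := Models.specialFibreIdeal R X) le_rfl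
  let D := Models.specialFibreIdeal R X
  letI : D.subscheme.Over (Spec (CommRingCat.of (ResidueField R))) := ⟨s⟩
  haveI : IsProper (D.subscheme ↘ Spec (CommRingCat.of (ResidueField R))) := isProper_toResidueField s hs
  rw [lengthH_quotMod (D := D) hs 0]
  letI := GlobalConst.algΓ (ResidueField R) (X := D.subscheme)
  haveI := GlobalConst.finite_algΓ (ResidueField R) (X := D.subscheme)
  obtain ⟨i⟩ := ‹Nonempty (Fin n)›
  have hmem : Models.genPtOf R X (Γ i) ∈ Set.range D.subschemeι := by
    rw [Scheme.IdealSheafData.range_subschemeι]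
    exact (support_fibre (X := X)).ge (genPt_mem_fibre (Γ i))
  obtain ⟨z, -⟩ := hmem
  haveI : Nonempty D.subscheme := ⟨z⟩
  haveI : Nonempty (⊤ : D.subscheme.Opens) := ⟨⟨z, trivial⟩⟩
  rw [(GlobalConst.h0Equiv (ResidueField R) (X := D.subscheme)).finrank_eq]
  exact Module.finrank_pos

omit hL in
/-- Over an algebraically closed residue field the reduced fibre has constants `k`. -/
theorem lengthH_redFibre_zero [IsAlgClosed (ResidueField R)] [Nonempty (Fin n)] :
    Models.lengthH R X (ClSub.quotMod (Models.redFibreIdeal R X)) 0 = 1 := by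
  obtain ⟨s, hs⟩ := exists_toResidueField (X := X) (fibre_le_redFibre hX hΓ)
  let D := Models.redFibreIdeal R X
  letI : D.subscheme.Over (Spec (CommRingCat.of (ResidueField R))) := ⟨s⟩
  haveI : IsProper (D.subscheme ↘ Spec (CommRingCat.of (ResidueField R))) := isProper_toResidueField s hs
  rw [lengthH_quotMod (D := D) hs 0]
  haveI : IsReduced D.subscheme := RedSub.isReduced_subscheme_vanishingIdeal _
  have hrange : Set.range D.subschemeι = Models.specialFibreSet R X := by
    rw [Scheme.IdealSheafData.range_subschemeι]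
    simp only [D, Models.redFibreIdeal, Scheme.IdealSheafData.coe_support_vanishingIdeal]
    rfl
  haveI : ConnectedSpace D.subscheme := by
    obtain ⟨i⟩ := ‹Nonempty (Fin n)›
    have hc : _root_.IsConnected (Models.specialFibreSet R X) := ⟨⟨_, genPt_mem_fibre (Γ i)⟩, hconn⟩
    rw [← hrange] at hc
    haveI : ConnectedSpace (Set.range D.subschemeι) := isConnected_iff_connectedSpace.1 hc
    exact D.subschemeι.isClosedEmbedding.isEmbedding.toHomeomorph.symm.surjective.connectedSpace
      D.subschemeι.isClosedEmbedding.isEmbedding.toHomeomorph.symm.continuous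
  exact ConnH0.finrank_H0_eq_one (ResidueField R)

end GrothLib.ArSurf29
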