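import Groth.Agent.Lib.ArSurf29.GcdDivisor
import Groth.Agent.Lib.ArSurf29.RedFibre
import Groth.Agent.Lib.GlobalConst.Scheme
import Groth.Agent.Lib.ConnH0.Basic
import Groth.Agent.Lib.ArSurf29.Torsion

/-!
# A chain of divisors from the reduced fibre with fields of functions
-/

set_option autoImplicit false
set_option linter.all false
set_option backward.isDefEq.respectTransparency false

universe u

open CategoryTheory CategoryTheory.Limits AlgebraicGeometry TopologicalSpace IsLocalRing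

noncomputable section

namespace GrothLib.ArSurf29

variable {R : Type u} [CommRing R]

theorem finite_appTop_of_proper [IsNoetherianRing R] {Z : Scheme.{u}} (g : Z ⟶ Spec (CommRingCat.of R)) [IsProper g] :
    (g.appTop.hom.comp (Scheme.ΓSpecIso (CommRingCat.of R)).inv.hom).Finite := by
  letI : Z.Over (Spec (CommRingCat.of R)) := ⟨g⟩
  haveI : IsProper (Z ↘ Spec (CommRingCat.of R)) := ‹_›
  let φ : R →+* Γ(Z, ⊤) := Coh.toGlobal (Z ↘ Spec (CommRingCat.of R))
  letI : Algebra R Γ(Z, ⊤) := φ.toAlgebra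
  haveI : IsNoetherian Z := by
    haveI : IsLocallyNoetherian Z := LocallyOfFiniteType.isLocallyNoetherian g
    haveI : CompactSpace Z := QuasiCompact.compactSpace_of_compactSpace g
    exact {}
  haveI := ProjCoh.moduleFinite_HH R (Coh.structureModule Z) (HomSh.isCoh_structureModule Z) 0
  let e : Coh.HH Z (Coh.structureModule Z) 0 ≃ₗ[R] Γ(Z, ⊤) :=
    { ProjCoh.H0top (Coh.structureModule Z) with
      map_smul' := fun b x => (ProjCoh.H0top_smul (Coh.structureModule Z) b x).trans
        (Algebra.smul_def (R := R) (A := Γ(Z, ⊤)) b (ProjCoh.H0top (Coh.structureModule Z) x)).symm }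
  haveI : Module.Finite R Γ(Z, ⊤) := Module.Finite.equiv e
  exact RingHom.finite_algebraMap.2 ‹Module.Finite R Γ(Z, ⊤)›

variable [IsDomain R] [IsDiscreteValuationRing R]
  {X : Over (Spec (CommRingCat.of R))} [IsProper X.hom] [Flat X.hom] [IsLocallyNoetherian X.left]

/-- Functions on a divisor inside the fibre form an Artinian ring. -/
theorem isArtinianRing_of_fibre_le {D : X.left.IdealSheafData} (hD : Models.specialFibreIdeal R X ≤ D) :
    IsArtinianRing Γ(D.subscheme, ⊤) := by
  obtain ⟨s, hs⟩ := exists_toResidueField (X := X) hD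
  letI : D.subscheme.Over (Spec (CommRingCat.of (ResidueField R))) := ⟨s⟩
  haveI : IsProper (D.subscheme ↘ Spec (CommRingCat.of (ResidueField R))) := isProper_toResidueField s hs
  letI := GlobalConst.algΓ (ResidueField R) (X := D.subscheme)
  haveI := GlobalConst.finite_algΓ (ResidueField R) (X := D.subscheme)
  exact IsArtinianRing.of_finite (ResidueField R) _

variable (hX : Models.IsRegularScheme X.left)
  {n : ℕ} {Γ : Fin n → ArSurf.VertComp R X} (hΓ : Models.IsComponentList R X Γ)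
  (hconn : _root_.IsPreconnected (Models.specialFibreSet R X))
include hX hΓ hconn

theorem isField_redFibre [Nonempty (Fin n)] : IsField Γ((Models.redFibreIdeal R X).subscheme, ⊤) := by
  let D := Models.redFibreIdeal R X
  haveI : IsReduced D.subscheme := RedSub.isReduced_subscheme_vanishingIdeal _
  haveI := isArtinianRing_of_fibre_le (X := X) (fibre_le_redFibre hX hΓ)
  have hrange : Set.range D.subschemeι = Models.specialFibreSet R X := by
    rw [Scheme.IdealSheafData.range_subschemeι]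
    simp only [D, Models.redFibreIdeal, Scheme.IdealSheafData.coe_support_vanishingIdeal]
    rfl
  obtain ⟨i⟩ := ‹Nonempty (Fin n)›
  obtain ⟨z, -⟩ := hrange.ge (genPt_mem_fibre (Γ i))
  haveI : Nonempty D.subscheme := ⟨z⟩
  haveI : PreconnectedSpace D.subscheme := ⟨by
    rw [← D.subschemeι.isEmbedding.isInducing.isPreconnected_image, Set.image_univ, hrange]
    exact hconn⟩
  haveI : ConnectedSpace D.subscheme := ⟨inferInstance⟩
  haveI : Nonempty (⊤ : D.subscheme.Opens) := ⟨⟨z, trivial⟩⟩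
  haveI : Nontrivial Γ(D.subscheme, ⊤) := inferInstance
  haveI : _root_.IsReduced Γ(D.subscheme, ⊤) := inferInstance
  haveI : Subsingleton (PrimeSpectrum Γ(D.subscheme, ⊤)) := by
    refine ⟨fun p q => ?_⟩
    obtain ⟨e, he, hpe⟩ := PrimeSpectrum.exists_idempotent_basicOpen_eq_of_isClopen
      (isClopen_discrete ({p} : Set (PrimeSpectrum Γ(D.subscheme, ⊤))))
    rcases ConnH0.eq_zero_or_one_of_idempotent (X := D.subscheme) e he.eq with rfl | rfl
    · exact (Set.singleton_ne_empty p (by rw [hpe, PrimeSpectrum.basicOpen_zero]; rfl)).elim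
    · have hq : q ∈ ({p} : Set (PrimeSpectrum Γ(D.subscheme, ⊤))) := by
        rw [hpe, PrimeSpectrum.basicOpen_one]; trivial
      exact hq.symm
  obtain ⟨m, hm⟩ := Ideal.exists_maximal Γ(D.subscheme, ⊤)
  have hm0 : m = ⊥ := by
    refine le_bot_iff.1 fun a ha => ?_
    refine IsReduced.eq_zero a ((mem_nilradical (x := a)).1 ?_)
    rw [nilradical_eq_sInf, Ideal.mem_sInf]
    intro P hP
    rw [show P = m from congrArg PrimeSpectrum.asIdeal
      (Subsingleton.elim (⟨P, hP⟩ : PrimeSpectrum Γ(D.subscheme, ⊤)) ⟨m, hm.isPrime⟩)]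
    exact ha
  subst hm0
  by_contra hnf
  obtain ⟨I, h0, h1⟩ := Ring.not_isField_iff_exists_ideal_bot_lt_and_lt_top.1 hnf
  exact h0.ne (hm.eq_of_le h1.ne h0.le)

/-- Adding a curve of positive intersection keeps the functions a field. -/
theorem isField_step {L : Fin n → X.left.Modules} (hL : ∀ j, ClSub.IsInverseOf (L j) (ClSub.idealMod (Γ j).ι.ker))
    (c : Fin n → ℕ) (i : Fin n) (c' : Fin n → ℕ) (hc' : c' = c + Pi.single i 1) (hc : c' ≤ fun j => Models.mult R X (Γ j))
    (hpos : 0 < ∑ j, (c j : ℤ) * ArSurf.inter R X (L j) (Γ i))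
    (hF : IsField Γ((∏ j, (Γ j).ι.ker ^ c j).subscheme, ⊤)) :
    IsField Γ((∏ j, (Γ j).ι.ker ^ c' j).subscheme, ⊤) := by
  classical
  have e : (∏ j, (Γ j).ι.ker ^ c' j) = (∏ j, (Γ j).ι.ker ^ c j) * (Γ i).ι.ker := by
    simp only [hc', Pi.add_apply, pow_add, Finset.prod_mul_distrib]
    rw [Finset.prod_eq_single (f := fun j => (Γ j).ι.ker ^ Pi.single (M := fun _ => ℕ) i 1 j) i
      (fun j _ hj => by simp [hj]) (fun h => absurd (Finset.mem_univ _) h)]
    simp
  have hle : (∏ j, (Γ j).ι.ker ^ c j) * (Γ i).ι.ker ≤ ∏ j, (Γ j).ι.ker ^ c j := mul_le_left' _ _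
  have hinj := injective_step (fun j => isEffCartier_ker (isMaxComp hΓ j) hX) hL c i hpos hle
  have hfib : Models.specialFibreIdeal R X ≤ ∏ j, (Γ j).ι.ker ^ c' j := by
    rw [fibre_eq_prod hΓ hX]
    have hsplit : (∏ j, (Γ j).ι.ker ^ Models.mult R X (Γ j)) = (∏ j, (Γ j).ι.ker ^ c' j) *
        ∏ j, (Γ j).ι.ker ^ (Models.mult R X (Γ j) - c' j) := by
      rw [← Finset.prod_mul_distrib]
      exact Finset.prod_congr rfl fun j _ => by rw [← pow_add, Nat.add_sub_cancel' (hc j)]
    rw [hsplit]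
    exact mul_le_left' _ _
  haveI := isArtinianRing_of_fibre_le (X := X) hfib
  rw [e] at this ⊢
  haveI : IsArtinianRing Γ(((∏ j, (Γ j).ι.ker ^ c j) * (Γ i).ι.ker).subscheme, ⊤) := this
  letI := hF.toField
  haveI : IsDomain Γ(((∏ j, (Γ j).ι.ker ^ c j) * (Γ i).ι.ker).subscheme, ⊤) :=
    Function.Injective.isDomain (Scheme.IdealSheafData.inclusion hle).appTop.hom hinj
  exact IsArtinianRing.isField_of_isDomain _

/-- The chain. -/
theorem exists_fieldChain [Nonempty (Fin n)] :
    ∃ (s : ℕ) (a : Fin (s + 1) → Fin n → ℕ), (a 0 = fun _ => 1) ∧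
      (a (Fin.last s) = fun i => Models.mult R X (Γ i) / Models.multGcd R X Γ) ∧
      (∀ j : Fin s, ∃ i, a j.succ = a j.castSucc + Pi.single i 1) ∧
      ∀ j, IsField Γ((∏ i, (Γ i).ι.ker ^ a j i).subscheme, ⊤) := by
  classical
  obtain ⟨L, hL⟩ := exists_inverses hX hΓ
  let a₀ := fun i => Models.mult R X (Γ i) / Models.multGcd R X Γ
  suffices h : ∀ (m : ℕ) (c : Fin n → ℕ), c ≤ a₀ → c ≠ 0 → ∑ j, a₀ j = ∑ j, c j + m →
      IsField Γ((∏ j, (Γ j).ι.ker ^ c j).subscheme, ⊤) →
      ∃ a : Fin (m + 1) → Fin n → ℕ, a 0 = c ∧ a (Fin.last m) = a₀ ∧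
        (∀ j : Fin m, ∃ i, a j.succ = a j.castSucc + Pi.single i 1) ∧
        ∀ j, IsField Γ((∏ i, (Γ i).ι.ker ^ a j i).subscheme, ⊤) by
    have h1 : (fun _ => 1 : Fin n → ℕ) ≤ a₀ := fun i => one_le_div_multGcd hX hΓ i
    have hF : IsField Γ((∏ j, (Γ j).ι.ker ^ 1).subscheme, ⊤) := by
      rw [show (∏ j, (Γ j).ι.ker ^ 1) = ∏ j, (Γ j).ι.ker from Finset.prod_congr rfl fun j _ => pow_one _]
      rw [← redFibre_eq_prod hX hΓ]
      exact isField_redFibre hX hΓ hconn
    obtain ⟨i⟩ := ‹Nonempty (Fin n)›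
    obtain ⟨a, ha, hb, hs, hf⟩ := h (∑ j, a₀ j - ∑ j : Fin n, 1) (fun _ => 1) h1
      (fun h => one_ne_zero (α := ℕ) (congrFun h i))
      (Nat.add_sub_cancel' (Finset.sum_le_sum fun j _ => h1 j)).symm hF
    exact ⟨_, a, ha, hb, hs, hf⟩
  intro m
  induction m with
  | zero =>
    intro c hc _ hsum hF
    have he : c = a₀ := funext fun j => by
      refine le_antisymm (hc j) ?_
      by_contra h
      have := Finset.sum_lt_sum (fun j _ => hc j) ⟨j, Finset.mem_univ j, not_le.1 h⟩
      omega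
    exact ⟨fun _ => c, rfl, he, fun j => j.elim0, fun _ => hF⟩
  | succ m ih =>
    intro c hc hc0 hsum hF
    have hne : c ≠ a₀ := fun h => by subst h; omega
    obtain ⟨i, hi, hpos⟩ := exists_pos_step hX hΓ hL hconn c hc hne hc0
    have hc' : c + Pi.single i 1 ≤ a₀ := fun j => by
      by_cases h : j = i
      · subst h
        simp only [Pi.add_apply, Pi.single_eq_same]
        exact hi
      · simpa [h] using hc j
    have hF' := isField_step hX hΓ hconn hL c i (c + Pi.single i 1 : Fin n → ℕ) rfl (hc'.trans fun j => Nat.div_le_self _ _) hpos hF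
    obtain ⟨a, ha, hb, hs, hf⟩ := ih (c + Pi.single i 1) hc'
      (fun h => absurd (congrFun h i) (by simp)) (by simp [Finset.sum_add_distrib]; omega) hF'
    refine ⟨Fin.cons c a, rfl, ?_, fun j => ?_, fun j => ?_⟩
    · rw [← Fin.succ_last, Fin.cons_succ]; exact hb
    · refine Fin.cases ?_ (fun j => ?_) j
      · exact ⟨i, by rw [Fin.cons_succ, Fin.castSucc_zero, Fin.cons_zero, ha]⟩
      · simpa only [Fin.cons_succ, ← Fin.succ_castSucc] using hs j
    · refine Fin.cases ?_ (fun j => ?_) j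
      · exact hF
      · exact hf j

end GrothLib.ArSurf29
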