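import Groth.Agent.Lib.ArSurf29.NoSection
import Groth.Agent.Lib.ArSurf29.Connected
import Groth.Agent.Lib.ArSurf29.GenusFormula

/-!
# The divisor of the fibre divided by the gcd of the multiplicities
-/

set_option autoImplicit false
set_option linter.all false
set_option backward.isDefEq.respectTransparency false

universe u

open CategoryTheory CategoryTheory.Limits AlgebraicGeometry TopologicalSpace IsLocalRing

noncomputable section

namespace GrothLib.ArSurf29

variable {R : Type u} [CommRing R] [IsDomain R] [IsDiscreteValuationRing R]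
  {X : Over (Spec (CommRingCat.of R))} [IsProper X.hom] [Flat X.hom] [IsLocallyNoetherian X.left]
  (hX : Models.IsRegularScheme X.left)
  {n : ℕ} {Γ : Fin n → ArSurf.VertComp R X} (hΓ : Models.IsComponentList R X Γ)
  {L : Fin n → X.left.Modules} (hL : ∀ j, ClSub.IsInverseOf (L j) (ClSub.idealMod (Γ j).ι.ker))
include hX hΓ

theorem multGcd_pos [Nonempty (Fin n)] : 0 < Models.multGcd R X Γ := by
  obtain ⟨i⟩ := ‹Nonempty (Fin n)›
  refine Nat.pos_of_ne_zero fun h => (mult_pos (isMaxComp hΓ i) hX).ne' ?_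
  exact Finset.gcd_eq_zero_iff.1 h i (Finset.mem_univ i)

theorem one_le_div_multGcd (i : Fin n) : 1 ≤ Models.mult R X (Γ i) / Models.multGcd R X Γ := by
  haveI : Nonempty (Fin n) := ⟨i⟩
  exact Nat.div_pos (Nat.le_of_dvd (mult_pos (isMaxComp hΓ i) hX) (Finset.gcd_dvd (Finset.mem_univ i)))
    (multGcd_pos hX hΓ)

variable (hconn : _root_.IsPreconnected (Models.specialFibreSet R X))
include hL hconn

/-- Every proper nonzero part of the reduced multiple can be enlarged positively. -/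
theorem exists_pos_step (c : Fin n → ℕ) (hc : c ≤ fun j => Models.mult R X (Γ j) / Models.multGcd R X Γ)
    (hne : c ≠ fun j => Models.mult R X (Γ j) / Models.multGcd R X Γ) (hc0 : c ≠ 0) :
    ∃ i, c i < Models.mult R X (Γ i) / Models.multGcd R X Γ ∧
      0 < ∑ j, (c j : ℤ) * ArSurf.inter R X (L j) (Γ i) := by
  classical
  by_contra hcon
  push Not at hcon
  obtain ⟨i₀, hi₀⟩ : ∃ i, c i ≠ 0 := Function.ne_iff.1 hc0
  haveI : Nonempty (Fin n) := ⟨i₀⟩
  have hd := multGcd_pos hX hΓ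
  have hdvd : ∀ i, Models.multGcd R X Γ ∣ Models.mult R X (Γ i) := fun i => Finset.gcd_dvd (Finset.mem_univ i)
  let d := Models.multGcd R X Γ
  let a := fun j => Models.mult R X (Γ j) / d
  let P := fun i => ∑ j, (c j : ℤ) * ArSurf.inter R X (L j) (Γ i)
  have hle : ∀ i, ((a i : ℤ) - c i) * P i ≤ 0 := fun i => by
    rcases (hc i).lt_or_eq with h | h
    · exact mul_nonpos_of_nonneg_of_nonpos (sub_nonneg.2 (Int.ofNat_le.2 (hc i))) (hcon i h)
    · simp only [a, d, h, sub_self, zero_mul, le_refl]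
  have hzero : ∑ i, (a i : ℤ) * P i = 0 := by
    have hsum : ∀ j, ∑ i, (Models.mult R X (Γ i) : ℤ) * ArSurf.inter R X (L j) (Γ i) = 0 :=
      sum_mult_inter' hX hΓ hL
    have h : (d : ℤ) * ∑ i, (a i : ℤ) * P i = 0 := by
      rw [Finset.mul_sum]
      calc ∑ i, (d : ℤ) * ((a i : ℤ) * P i)
          = ∑ i, ∑ j, (c j : ℤ) * ((Models.mult R X (Γ i) : ℤ) * ArSurf.inter R X (L j) (Γ i)) := by
            refine Finset.sum_congr rfl fun i _ => ?_
            rw [← mul_assoc, ← Nat.cast_mul, show d * a i = Models.mult R X (Γ i) from Nat.mul_div_cancel' (hdvd i),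
              Finset.mul_sum]
            exact Finset.sum_congr rfl fun j _ => by ring
        _ = 0 := by
            rw [Finset.sum_comm]
            simp only [← Finset.mul_sum, hsum, mul_zero, Finset.sum_const_zero]
    exact (mul_eq_zero.1 h).resolve_left (by exact_mod_cast hd.ne')
  have hnn : 0 ≤ ∑ i, (c i : ℤ) * P i := by
    have h := Finset.sum_nonpos fun i (_ : i ∈ Finset.univ) => hle i
    simp only [sub_mul, Finset.sum_sub_distrib, hzero] at h
    linarith
  have hnp := quad_nonpos (fun i j => ArSurf.inter R X (L j) (Γ i))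
    (fun i => (Models.mult R X (Γ i) : ℤ)) (fun i => by exact_mod_cast mult_pos (isMaxComp hΓ i) hX)
    (inter_symm hX hΓ hL) (fun i j h => (inter_nonneg_of_ne hX hΓ hL h).1)
    (fun i => le_of_eq ((Finset.sum_congr rfl fun j _ => mul_comm _ _).trans (sum_mult_inter hX hΓ hL i)))
    (fun i => (c i : ℤ))
  have heq : ∑ i, ∑ j, (c i : ℤ) * c j * ArSurf.inter R X (L j) (Γ i) = ∑ i, (c i : ℤ) * P i :=
    Finset.sum_congr rfl fun i _ => by
      rw [Finset.mul_sum]
      exact Finset.sum_congr rfl fun j _ => by ring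
  obtain ⟨q, hq⟩ := (form_eq_zero_iff hX hΓ hL hconn fun i => (c i : ℤ)).1
    (le_antisymm hnp (by rw [heq]; exact hnn))
  -- `c = t a` with `t` an integer
  have hq' : ∀ i, (c i : ℤ) * q.den = q.num * Models.mult R X (Γ i) := fun i => by
    have h1 : ((c i : ℤ) : ℚ) * (q.den : ℚ) = (q.num : ℚ) * (Models.mult R X (Γ i) : ℚ) := by
      rw [hq i, mul_right_comm, Rat.mul_den_eq_num]
    exact_mod_cast h1
  have hden : q.den ∣ d := by
    refine Finset.dvd_gcd fun i _ => ?_
    refine (Nat.Coprime.symm q.reduced).dvd_of_dvd_mul_left ⟨c i, ?_⟩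
    have h1 := congrArg Int.natAbs (hq' i)
    rw [Int.natAbs_mul, Int.natAbs_mul, Int.natAbs_natCast, Int.natAbs_natCast, Int.natAbs_natCast] at h1
    rw [← h1, mul_comm]
  obtain ⟨e, he⟩ := hden
  have hca : ∀ i, (c i : ℤ) = (q.num * e) * a i := fun i => by
    have h := hq' i
    rw [show Models.mult R X (Γ i) = d * a i from (Nat.mul_div_cancel' (hdvd i)).symm, he] at h
    push_cast at h
    exact mul_right_cancel₀ (b := (q.den : ℤ)) (by exact_mod_cast q.den_ne_zero) (h.trans (by ring))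
  set t := q.num * (e : ℤ)
  have ha₀ : (1 : ℤ) ≤ a i₀ := by exact_mod_cast one_le_div_multGcd hX hΓ i₀
  have ht0 : 1 ≤ t := by
    by_contra h
    have h1 : (c i₀ : ℤ) ≤ 0 := by rw [hca i₀]; exact mul_nonpos_of_nonpos_of_nonneg (by omega) (by omega)
    exact hi₀ (by omega)
  have ht1 : t ≤ 1 := by
    by_contra h
    have h1 : (2 : ℤ) * a i₀ ≤ c i₀ := by rw [hca i₀]; exact mul_le_mul_of_nonneg_right (by omega) (by omega)
    have h2 : c i₀ ≤ a i₀ := hc i₀
    omega
  refine hne (funext fun i => ?_)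
  have h := hca i
  rw [le_antisymm ht1 ht0, one_mul] at h
  exact_mod_cast h

theorem exists_injective_gcdDivisor (i₀ : Fin n) :
    ∃ ρ : Γ((∏ j, (Γ j).ι.ker ^ (Models.mult R X (Γ j) / Models.multGcd R X Γ)).subscheme, ⊤) →+*
        Γ((Γ i₀).ι.ker.subscheme, ⊤), Function.Injective ρ ∧
      ∃ v : (Γ i₀).ι.ker.subscheme ⟶ (∏ j, (Γ j).ι.ker ^ (Models.mult R X (Γ j) / Models.multGcd R X Γ)).subscheme,
        v ≫ (∏ j, (Γ j).ι.ker ^ (Models.mult R X (Γ j) / Models.multGcd R X Γ)).subschemeι =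
          (Γ i₀).ι.ker.subschemeι ∧ ρ = v.appTop.hom :=
  exists_injective_to_component (fun j => isEffCartier_ker (isMaxComp hΓ j) hX) hL _ i₀
    (one_le_div_multGcd hX hΓ i₀) (exists_pos_step hX hΓ hL hconn)

theorem isField_gcdDivisor [Nonempty (Fin n)] :
    IsField Γ((∏ j, (Γ j).ι.ker ^ (Models.mult R X (Γ j) / Models.multGcd R X Γ)).subscheme, ⊤) := by
  obtain ⟨i₀⟩ := ‹Nonempty (Fin n)›
  exact isField_of_chain (fun j => isEffCartier_ker (isMaxComp hΓ j) hX) hL _ i₀ (one_le_div_multGcd hX hΓ i₀)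
    (exists_pos_step hX hΓ hL hconn)

omit hconn in
/-- The Euler characteristic of the fibre is `d` times that of the divisor. -/
theorem chiD_fibre_eq_mul :
    chiD X (Models.specialFibreIdeal R X) = (Models.multGcd R X Γ : ℤ) *
      chiD X (∏ j, (Γ j).ι.ker ^ (Models.mult R X (Γ j) / Models.multGcd R X Γ)) := by
  let d := Models.multGcd R X Γ
  let a := fun j => Models.mult R X (Γ j) / d
  have hm : ∀ j, (Models.mult R X (Γ j) : ℤ) = (d : ℤ) * a j := fun j => by
    rw [← Nat.cast_mul]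
    exact congrArg Nat.cast (Nat.mul_div_cancel' (Finset.gcd_dvd (Finset.mem_univ j) : d ∣ Models.mult R X (Γ j))).symm
  have h1 := two_mul_chiD hX hΓ hL (fun j => Models.mult R X (Γ j)) fun j => le_rfl
  rw [← fibre_eq_prod hΓ hX] at h1
  have h2 := two_mul_chiD hX hΓ hL a fun j => Nat.div_le_self _ _
  have hq1 : ∑ i, ∑ j, (Models.mult R X (Γ i) : ℤ) * Models.mult R X (Γ j) * ArSurf.inter R X (L j) (Γ i) = 0 :=
    Finset.sum_eq_zero fun i _ => by
      simp only [mul_assoc, ← Finset.mul_sum, sum_mult_inter hX hΓ hL i, mul_zero]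
  have hq2 : (d : ℤ) * ((d : ℤ) * ∑ i, ∑ j, (a i : ℤ) * a j * ArSurf.inter R X (L j) (Γ i)) = 0 := by
    refine Eq.trans ?_ hq1
    simp only [Finset.mul_sum, hm]
    exact Finset.sum_congr rfl fun i _ => Finset.sum_congr rfl fun j _ => by ring
  have hlin : ∑ i, (Models.mult R X (Γ i) : ℤ) * (ArSurf.inter R X (L i) (Γ i) +
        2 * ((Models.wdeg R X (Γ i) : ℤ) - Models.h1 R X (Γ i))) =
      (d : ℤ) * ∑ i, (a i : ℤ) * (ArSurf.inter R X (L i) (Γ i) +
        2 * ((Models.wdeg R X (Γ i) : ℤ) - Models.h1 R X (Γ i))) := by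
    rw [Finset.mul_sum]
    exact Finset.sum_congr rfl fun i _ => by rw [hm]; ring
  rw [hq1, hlin] at h1
  by_cases hd : (d : ℤ) = 0
  · rw [hd, zero_mul] at h1 ⊢
    linarith
  · rw [(mul_eq_zero.1 ((mul_eq_zero.1 hq2).resolve_left hd)).resolve_left hd] at h2
    have h3 : 2 * chiD X (Models.specialFibreIdeal R X) = 2 * ((d : ℤ) * chiD X (∏ j, (Γ j).ι.ker ^ a j)) := by
      linear_combination h1 - (d : ℤ) * h2
    linarith

end GrothLib.ArSurf29
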