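import Mathlib.RingTheory.Length
import Mathlib.RingTheory.OrderOfVanishing.Basic
import Mathlib.RingTheory.DiscreteValuationRing.Basic
import Mathlib.LinearAlgebra.FreeModule.PID
import Mathlib.LinearAlgebra.Dimension.Localization
import Mathlib.LinearAlgebra.Dimension.Torsion.Finite
import Mathlib.Algebra.Module.Torsion.Basic

/-!
# Lengths of kernel and cokernel of a uniformiser
-/

set_option autoImplicit false
set_option linter.all false

universe u v

open Module

namespace GrothLib.ArSurf29

variable {R : Type u} [CommRing R] [IsDomain R] [IsDiscreteValuationRing R]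

theorem length_quot_uniformiser {π : R} (hπ : Irreducible π) : Module.length R (R ⧸ Ideal.span {π}) = 1 := by
  haveI : IsSimpleModule R (R ⧸ Ideal.span {π}) := by
    rw [isSimpleModule_iff_isCoatom]
    exact Ideal.isMaximal_def.1 (hπ.maximalIdeal_eq ▸ IsLocalRing.maximalIdeal.isMaximal R)
  exact Module.length_eq_one R _

variable {M : Type v} [AddCommGroup M] [Module R M] [Module.Finite R M]

theorem length_torsion_ne_top (hM : Module.IsTorsion R M) : Module.length R M ≠ ⊤ := by
  obtain ⟨π, hπ⟩ := IsDiscreteValuationRing.exists_irreducible R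
  obtain ⟨c, hc, hc0⟩ := Submodule.annihilator_top_inter_nonZeroDivisors hM
  obtain ⟨k, v, hv⟩ := Module.Finite.exists_fin (R := R) (M := M)
  let f : (Fin k → R ⧸ Ideal.span {c}) →ₗ[R] M := ∑ i, (Submodule.liftQ (Ideal.span {c})
    (LinearMap.toSpanSingleton R M (v i)) (by
      rw [Ideal.span, Submodule.span_le]
      rintro _ rfl
      exact Submodule.mem_annihilator.1 hc _ trivial)).comp (LinearMap.proj i)
  have hf : Function.Surjective f := by
    rw [← LinearMap.range_eq_top, eq_top_iff, ← hv, Submodule.span_le]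
    rintro _ ⟨i, rfl⟩
    refine ⟨Pi.single i (Submodule.Quotient.mk 1), ?_⟩
    simp only [f, LinearMap.coe_sum, Finset.sum_apply, LinearMap.comp_apply, LinearMap.proj_apply]
    rw [Finset.sum_eq_single i (fun j _ hj => by rw [Pi.single_eq_of_ne hj, map_zero])
      (fun h => absurd (Finset.mem_univ i) h), Pi.single_eq_same]
    exact one_smul R (v i)
  refine ne_top_of_le_ne_top ?_ (Module.length_le_of_surjective f hf)
  rw [Module.length_pi_of_fintype]
  rw [Finset.sum_const, nsmul_eq_mul]
  refine WithTop.mul_ne_top (ENat.coe_ne_top _) (LT.lt.ne ?_)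
  obtain ⟨e, he⟩ := IsDiscreteValuationRing.associated_pow_irreducible (nonZeroDivisors.ne_zero hc0) hπ
  rw [Ideal.span_singleton_eq_span_singleton.2 he]
  show Ring.ord R (π ^ e) < ⊤
  rw [Ring.ord_pow (mem_nonZeroDivisors_of_ne_zero hπ.ne_zero), Ring.ord_of_irreducible hπ]
  simp [lt_top_iff_ne_top]

/-- Kernel and cokernel of a uniformiser differ in length by the rank. -/
theorem length_coker_eq {π : R} (hπ : Irreducible π) :
    Module.length R (M ⧸ LinearMap.range (LinearMap.lsmul R M π)) =
        Module.length R (LinearMap.ker (LinearMap.lsmul R M π)) + (Module.finrank R M : ℕ∞) ∧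
      Module.length R (LinearMap.ker (LinearMap.lsmul R M π)) ≠ ⊤ := by
  let T := Submodule.torsion R M
  let F := M ⧸ T
  haveI : IsNoetherian R M := inferInstance
  haveI : Module.Finite R T := Module.IsNoetherian.finite R T
  have hTt : Module.IsTorsion R T := Submodule.torsion_isTorsion
  have hT := length_torsion_ne_top hTt
  let μM := LinearMap.lsmul R M π
  let μT := LinearMap.lsmul R T π
  let μF := LinearMap.lsmul R F π
  -- the torsion part
  have h1 := Module.length_eq_add_of_exact (LinearMap.ker μT).subtype μT.rangeRestrict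
    (Submodule.subtype_injective _) μT.surjective_rangeRestrict
    (LinearMap.exact_iff.2 (by rw [LinearMap.ker_rangeRestrict, Submodule.range_subtype]))
  have h2 := Module.length_eq_add_of_exact (LinearMap.range μT).subtype (LinearMap.range μT).mkQ
    (Submodule.subtype_injective _) (Submodule.mkQ_surjective _)
    (LinearMap.exact_subtype_mkQ _)
  have hr : Module.length R (LinearMap.range μT) ≠ ⊤ :=
    ne_top_of_le_ne_top hT (Module.length_le_of_injective _ (Submodule.subtype_injective _))
  have hk : Module.length R (LinearMap.ker μT) ≠ ⊤ :=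
    ne_top_of_le_ne_top hT (Module.length_le_of_injective _ (Submodule.subtype_injective _))
  have hTT : Module.length R (T ⧸ LinearMap.range μT) = Module.length R (LinearMap.ker μT) := by
    rw [h1, add_comm] at h2
    exact (WithTop.add_left_cancel hr h2).symm
  -- kernels
  have hmem : ∀ x : M, π • x ∈ T → x ∈ T := fun x hx => by
    rw [Submodule.mem_torsion_iff] at hx ⊢
    obtain ⟨a, ha⟩ := hx
    refine ⟨a * ⟨π, mem_nonZeroDivisors_of_ne_zero hπ.ne_zero⟩, ?_⟩
    show ((a : R) * π) • x = 0
    rw [mul_smul]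
    exact ha
  have ek : LinearMap.ker μT ≃ₗ[R] LinearMap.ker μM := LinearEquiv.ofBijective
    ((T.subtype.comp (LinearMap.ker μT).subtype).codRestrict (LinearMap.ker μM) fun x =>
      (congrArg Subtype.val x.2 : _)) ⟨fun a b h => by
      have := congrArg Subtype.val h
      exact Subtype.ext (Subtype.ext this), fun x => by
      have hx : π • (x : M) = 0 := x.2
      exact ⟨⟨⟨x, hmem x (by rw [hx]; exact zero_mem _)⟩, Subtype.ext hx⟩, rfl⟩⟩
  -- cokernels
  let q₁ : (T ⧸ LinearMap.range μT) →ₗ[R] M ⧸ LinearMap.range μM :=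
    Submodule.mapQ _ _ T.subtype (by rintro _ ⟨t, rfl⟩; exact ⟨(t : M), rfl⟩)
  let q₂ : (M ⧸ LinearMap.range μM) →ₗ[R] F ⧸ LinearMap.range μF :=
    Submodule.mapQ _ _ T.mkQ (by rintro _ ⟨t, rfl⟩; exact ⟨T.mkQ t, rfl⟩)
  have hq₁ : Function.Injective q₁ := by
    rw [injective_iff_map_eq_zero]
    intro a ha
    obtain ⟨t, rfl⟩ := Submodule.mkQ_surjective _ a
    simp only [q₁, Submodule.mkQ_apply, Submodule.mapQ_apply, Submodule.Quotient.mk_eq_zero] at ha ⊢
    obtain ⟨x, hx⟩ := ha
    exact ⟨⟨x, hmem x (show π • x ∈ T by rw [show π • x = (t : M) from hx]; exact t.2)⟩, Subtype.ext hx⟩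
  have hq₂ : Function.Surjective q₂ := fun a => by
    obtain ⟨y, rfl⟩ := Submodule.mkQ_surjective _ a
    obtain ⟨x, rfl⟩ := Submodule.mkQ_surjective _ y
    exact ⟨Submodule.Quotient.mk x, rfl⟩
  have hqe : Function.Exact q₁ q₂ := by
    intro a
    obtain ⟨x, rfl⟩ := Submodule.mkQ_surjective _ a
    constructor
    · intro h
      simp only [q₂, Submodule.mkQ_apply, Submodule.mapQ_apply, Submodule.Quotient.mk_eq_zero] at h
      obtain ⟨y, hy⟩ := h
      obtain ⟨z, rfl⟩ := Submodule.mkQ_surjective _ y
      have h' : x - π • z ∈ T := (Submodule.Quotient.eq T).1 (show Submodule.Quotient.mk x = T.mkQ (π • z) by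
        rw [map_smul]; exact hy.symm)
      refine ⟨Submodule.Quotient.mk ⟨x - π • z, h'⟩, ?_⟩
      simp only [q₁, Submodule.mkQ_apply, Submodule.mapQ_apply, Submodule.Quotient.eq]
      exact ⟨-z, by simp [μM, sub_eq_add_neg, add_comm]⟩
    · rintro ⟨b, hb⟩
      obtain ⟨t, rfl⟩ := Submodule.mkQ_surjective _ b
      rw [← hb]
      simp only [q₁, q₂, Submodule.mkQ_apply, Submodule.mapQ_apply, Submodule.Quotient.mk_eq_zero]
      exact ⟨0, by rw [map_zero]; exact ((Submodule.Quotient.mk_eq_zero T).2 t.2).symm⟩
  -- the free part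
  haveI : Module.Free R F := inferInstance
  let b := Module.finBasis R F
  let φ : F →ₗ[R] (Fin (Module.finrank R F) → R ⧸ Ideal.span {π}) :=
    (LinearMap.pi fun i => (Submodule.mkQ (Ideal.span {π})).comp (LinearMap.proj i)).comp b.equivFun.toLinearMap
  have hφ : Function.Surjective φ := fun y => by
    choose c hc using fun i => Submodule.mkQ_surjective _ (y i)
    refine ⟨b.equivFun.symm c, funext fun i => ?_⟩
    show Submodule.mkQ _ (b.equivFun (b.equivFun.symm c) i) = y i
    rw [LinearEquiv.apply_symm_apply, hc]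
  have hφk : LinearMap.ker φ = LinearMap.range μF := by
    ext y
    constructor
    · intro hy
      have h : ∀ i, b.equivFun y i ∈ Ideal.span {π} := fun i =>
        (Submodule.Quotient.mk_eq_zero _).1 (congrFun (LinearMap.mem_ker.1 hy) i)
      choose c hc using fun i => Ideal.mem_span_singleton'.1 (h i)
      refine ⟨b.equivFun.symm c, b.equivFun.injective ?_⟩
      show b.equivFun (π • b.equivFun.symm c) = _
      rw [map_smul, LinearEquiv.apply_symm_apply]
      exact funext fun i => by rw [Pi.smul_apply, smul_eq_mul, mul_comm, hc]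
    · rintro ⟨z, rfl⟩
      refine LinearMap.mem_ker.2 (funext fun i => (Submodule.Quotient.mk_eq_zero _).2 ?_)
      show b.equivFun (π • z) i ∈ _
      rw [map_smul, Pi.smul_apply, smul_eq_mul]
      exact Ideal.mul_mem_right _ _ (Ideal.mem_span_singleton_self π)
  have hFl : Module.length R (F ⧸ LinearMap.range μF) = (Module.finrank R F : ℕ∞) := by
    rw [← hφk, (φ.quotKerEquivOfSurjective hφ).length_eq, Module.length_pi_of_fintype]
    simp [length_quot_uniformiser hπ]
  have hrank : Module.finrank R F = Module.finrank R M := by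
    have h0 : Module.rank R T = 0 := Module.rank_eq_zero_iff_isTorsion.2 hTt
    have h := rank_quotient_add_rank_of_isDomain (R := R) T
    rw [h0, add_zero] at h
    exact congrArg Cardinal.toNat h
  refine ⟨?_, ek.length_eq ▸ hk⟩
  rw [Module.length_eq_add_of_exact q₁ q₂ hq₁ hq₂ hqe, hTT, hFl, ek.length_eq, hrank]

end GrothLib.ArSurf29
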