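import Groth.Agent.Lib.ArSurf29.EulerVert
import Groth.Agent.Lib.ArSurf29.RankLength
import Groth.Agent.Lib.CohFlat0.Main
import Groth.Agent.Lib.BCCoh.FlatBC

/-!
# The Euler characteristic of the closed fibre
-/

set_option autoImplicit false
set_option linter.all false
set_option backward.isDefEq.respectTransparency false

universe u

open CategoryTheory CategoryTheory.Limits AlgebraicGeometry TopologicalSpace IsLocalRing

noncomputable section

namespace GrothLib.ArSurf29

open scoped TensorProduct

variable {R : Type u} [CommRing R] [IsDomain R] [IsDiscreteValuationRing R]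
  {X : Over (Spec (CommRingCat.of R))} [IsProper X.hom] [Flat X.hom] [IsLocallyNoetherian X.left]
  {n : ℕ} {Γ : Fin n → ArSurf.VertComp R X} (hΓ : Models.IsComponentList R X Γ)
  {C : Scheme.{u}} {f : C ⟶ Spec (CommRingCat.of (FractionRing R))} {g : C ⟶ X.left}
  (hg : IsPullback g f X.hom (Spec.map (CommRingCat.ofHom (algebraMap R (FractionRing R)))))

omit [IsDomain R] [IsDiscreteValuationRing R] in
theorem finrank_H0_eq_one {K : Type u} [Field K] {C : Scheme.{u}} {f : C ⟶ Spec (CommRingCat.of K)}
    (hH0 : IsIso f.appTop) :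
    letI : C.Over (Spec (CommRingCat.of K)) := ⟨f⟩
    Module.finrank K (Coh.HH C (Coh.structureModule C) 0) = 1 := by
  letI : C.Over (Spec (CommRingCat.of K)) := ⟨f⟩
  let one : Coh.HH C (Coh.structureModule C) 0 :=
    (ProjCoh.H0top (Coh.structureModule C)).symm (FinCov.one C ⊤)
  have hb : Function.Bijective fun a : K => a • one := by
    have h1 : (fun a : K => ProjCoh.H0top (Coh.structureModule C) (a • one)) =
        fun a => f.appTop ((Scheme.ΓSpecIso (CommRingCat.of K)).inv a) := funext fun a => by
      rw [ProjCoh.H0top_smul, AddEquiv.apply_symm_apply]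
      exact mul_one (show Γ(C, ⊤) from f.appTop ((Scheme.ΓSpecIso (CommRingCat.of K)).inv a))
    refine ((ProjCoh.H0top (Coh.structureModule C)).toEquiv.comp_bijective _).1 ?_
    show Function.Bijective fun a : K => ProjCoh.H0top (Coh.structureModule C) (a • one)
    rw [h1]
    exact (ConcreteCategory.bijective_of_isIso f.appTop).comp
      (ConcreteCategory.bijective_of_isIso (Scheme.ΓSpecIso (CommRingCat.of K)).inv)
  rw [← (LinearEquiv.ofBijective (LinearMap.toSpanSingleton K _ one) hb).finrank_eq, Module.finrank_self]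

theorem finrank_baseChange_fractionRing (K : Type u) [Field K] [Algebra R K] [IsFractionRing R K]
    (M : Type u) [AddCommGroup M] [Module R M] :
    Module.finrank K (K ⊗[R] M) = Module.finrank R M := by
  rw [IsLocalization.finrank_eq (R := R) K (nonZeroDivisors R) le_rfl,
    IsLocalizedModule.finrank_eq (nonZeroDivisors R) (TensorProduct.mk R K M 1) le_rfl]

include hg in
theorem finrank_HH_eq (i : ℕ) :
    letI : C.Over (Spec (CommRingCat.of (FractionRing R))) := ⟨f⟩
    letI : X.left.Over (Spec (CommRingCat.of R)) := ⟨X.hom⟩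
    Module.finrank (FractionRing R) (Coh.HH C (Coh.structureModule C) i) =
      Module.finrank R (Coh.HH X.left (Coh.structureModule X.left) i) := by
  letI : C.Over (Spec (CommRingCat.of (FractionRing R))) := ⟨f⟩
  letI : X.left.Over (Spec (CommRingCat.of R)) := ⟨X.hom⟩
  haveI : CompactSpace X.left := QuasiCompact.compactSpace_of_compactSpace X.hom
  haveI : X.left.IsSeparated := ⟨by rw [← terminal.comp_from X.hom]; infer_instance⟩
  haveI := Cohom.isQuasicoherent_structureModule X.left
  have hfl : (algebraMap R (FractionRing R)).Flat :=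
    RingHom.flat_algebraMap_iff.2 (IsLocalization.flat (FractionRing R) (nonZeroDivisors R))
  have hfrac : IsFractionRing R (FractionRing R) := inferInstance
  letI alg := (algebraMap R (FractionRing R)).toAlgebra
  haveI hfrac' : @IsFractionRing R _ (FractionRing R) _ alg := by
    rw [show alg = (OreLocalization.instAlgebra : Algebra R (FractionRing R)) from
      Algebra.algebra_ext _ _ fun _ => rfl]
    exact hfrac
  letI := BCCoh.modHH X.hom (Coh.structureModule X.left) i
  obtain ⟨e⟩ := BCCoh.exists_flatBC (algebraMap R (FractionRing R)) hfl X.hom f g hg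
    (Coh.structureModule X.left) i
  obtain ⟨e', -⟩ := FormalFn.exists_hh_equiv (A := FractionRing R) (OX.pullUnitIso g) i
  exact (e'.finrank_eq.symm.trans e.finrank_eq.symm).trans
    (@finrank_baseChange_fractionRing R _ _ _ (FractionRing R) _ alg hfrac' (Coh.HH X.left (Coh.structureModule X.left) i) _ (BCCoh.modHH X.hom (Coh.structureModule X.left) i))

include hΓ in
theorem subsingleton_quotMod_fibre {D : X.left.IdealSheafData} (hD : Models.specialFibreIdeal R X ≤ D) (i : ℕ)
    (hi : 2 ≤ i) : Subsingleton (Coh.HH X.left (ClSub.quotMod D) i) := by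
  obtain ⟨s, hs⟩ := exists_toResidueField hD
  letI : D.subscheme.Over (Spec (CommRingCat.of (ResidueField R))) := ⟨s⟩
  letI : X.left.Over (Spec (CommRingCat.of R)) := ⟨X.hom⟩
  letI : D.subscheme.Over (Spec (CommRingCat.of R)) := ⟨D.subschemeι ≫ X.hom⟩
  haveI : IsProper (D.subscheme ↘ Spec (CommRingCat.of (ResidueField R))) := isProper_toResidueField _ hs
  haveI := Cohom.isQuasicoherent_structureModule D.subscheme
  have hsub : Set.range D.subschemeι ⊆ Models.specialFibreSet R X := by
    rw [Scheme.IdealSheafData.range_subschemeι]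
    exact fun x hx => support_fibre.le (Scheme.IdealSheafData.support_antitone hD hx)
  have hdim : topologicalKrullDim D.subscheme ≤ 1 := by
    rw [IsHomeomorph.topologicalKrullDim_eq _ D.subschemeι.isClosedEmbedding.isEmbedding.toHomeomorph.isHomeomorph]
    exact Snapper.dim_le_of_dimLT D.subschemeι.isClosedEmbedding.isClosed_range (d := 1) ((dimLT_fibre hΓ).mono hsub)
  have := Euler.subsingleton_HH_of_two_le (ResidueField R) hdim (Coh.structureModule D.subscheme) i hi
  obtain ⟨e⟩ := Snapper.nonempty_HH_linearEquiv_pushforward (A := R) (S := X.left) D.subschemeι rfl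
    (Coh.structureModule D.subscheme) i
  exact e.symm.toEquiv.subsingleton

variable (hH0 : IsIso f.appTop)
include hΓ hg hH0

/-- `χ` of the closed fibre is `1 - g`. -/
theorem chiD_fibre : chiD X (Models.specialFibreIdeal R X) =
    1 - (Models.curveGenus (FractionRing R) C f : ℤ) := by
  obtain ⟨π, hπ⟩ := IsDiscreteValuationRing.exists_irreducible R
  letI : X.left.Over (Spec (CommRingCat.of R)) := ⟨X.hom⟩
  letI : C.Over (Spec (CommRingCat.of (FractionRing R))) := ⟨f⟩
  haveI : IsProper (X.left ↘ Spec (CommRingCat.of R)) := inferInstanceAs (IsProper X.hom)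
  haveI : Flat (X.left ↘ Spec (CommRingCat.of R)) := inferInstanceAs (Flat X.hom)
  obtain ⟨hz, hS⟩ := CohFlat0.exists_shortExact R (X := X.left) hπ.maximalIdeal_eq
    (mem_nonZeroDivisors_of_ne_zero hπ.ne_zero)
  let O := Coh.structureModule X.left
  let Q := ClSub.quotMod (Models.specialFibreIdeal R X)
  have hfin : ∀ i, Module.Finite R (Coh.HH X.left O i) := fun i =>
    ProjCoh.moduleFinite_HH R O (HomSh.isCoh_structureModule X.left) i
  have hμ : ∀ i, Cohom.hhMap R (Formal.smulMod R O π) i = LinearMap.lsmul R (Coh.HH X.left O i) π := fun i =>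
    LinearMap.ext fun x => FormalFun.hhMap_smulMod π i x
  -- `H²` vanishes
  have hH2 : Subsingleton (Coh.HH X.left O 2) := by
    haveI : Subsingleton (Coh.HH X.left Q 2) := subsingleton_quotMod_fibre hΓ le_rfl 2 le_rfl
    have h : Function.Surjective (Cohom.hhMap R (Formal.smulMod R O π) 2) := fun y =>
      (Cohom.exact₂ (A := R) hS 2 y).1 (Subsingleton.elim (α := Coh.HH X.left Q 2) _ _)
    rw [hμ] at h
    haveI := hfin 2
    have htop : (⊤ : Submodule R (Coh.HH X.left O 2)) ≤ maximalIdeal R • ⊤ := fun y _ => by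
      obtain ⟨x, rfl⟩ := h y
      exact Submodule.smul_mem_smul (hπ.maximalIdeal_eq ▸ Ideal.mem_span_singleton_self π) trivial
    have hbot := Submodule.eq_bot_of_le_smul_of_le_jacobson_bot (maximalIdeal R) ⊤ Module.Finite.fg_top htop
      (IsLocalRing.maximalIdeal_le_jacobson _)
    exact ⟨fun a b => by
      have ha : a ∈ (⊤ : Submodule R (Coh.HH X.left O 2)) := trivial
      have hb : b ∈ (⊤ : Submodule R (Coh.HH X.left O 2)) := trivial
      rw [hbot, Submodule.mem_bot] at ha hb
      rw [ha, hb]⟩
  -- the pieces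
  have hpiece : ∀ i, Module.length R (Coh.HH X.left Q i) =
      Module.length R (Coh.HH X.left O i ⧸ LinearMap.range (LinearMap.lsmul R (Coh.HH X.left O i) π)) +
        Module.length R (LinearMap.ker (LinearMap.lsmul R (Coh.HH X.left O (i + 1)) π)) := fun i => by
    let q := Cohom.hhMap R (ClSub.toSubscheme (Models.specialFibreIdeal R X)) i
    have h2 : Function.Exact (Cohom.hhMap R (Formal.smulMod R O π) i) q := Cohom.exact₂ (A := R) hS i
    have h3 : Function.Exact q (Cohom.hhDelta R hS i) := Cohom.exact₃ (A := R) hS i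
    have h1 : Function.Exact (Cohom.hhDelta R hS i) (Cohom.hhMap R (Formal.smulMod R O π) (i + 1)) :=
      Cohom.exact₁ (A := R) hS i
    rw [hμ] at h2 h1
    have e := Module.length_eq_add_of_exact (LinearMap.ker (Cohom.hhDelta R hS i)).subtype
      (Cohom.hhDelta R hS i).rangeRestrict (Submodule.subtype_injective _) (Cohom.hhDelta R hS i).surjective_rangeRestrict
      (LinearMap.exact_iff.2 (by rw [LinearMap.ker_rangeRestrict, Submodule.range_subtype]))
    refine e.trans ?_
    congr 1
    · have e1 := q.quotKerEquivRange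
      rw [LinearMap.exact_iff.1 h2] at e1
      rw [LinearMap.exact_iff.1 h3]
      exact e1.length_eq.symm
    · rw [← LinearMap.exact_iff.1 h1]
  haveI := hfin 0
  haveI := hfin 1
  have hker0 : Module.length R (LinearMap.ker (LinearMap.lsmul R (Coh.HH X.left O 0) π)) = 0 := by
    rw [Module.length_eq_zero_iff, Submodule.subsingleton_iff_eq_bot, LinearMap.ker_eq_bot]
    intro a b hab
    apply (ProjCoh.H0top O).injective
    have h := congrArg (ProjCoh.H0top O) hab
    simp only [LinearMap.lsmul_apply, ProjCoh.H0top_smul] at h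
    refine sub_eq_zero.1 (eq_zero_of_res_unif hπ (show Γ(X.left, ⊤) from ProjCoh.H0top O a - ProjCoh.H0top O b) ?_)
    let c : Γ(X.left, ⊤) := Coh.toGlobal X.hom π
    have hc : c * (show Γ(X.left, ⊤) from ProjCoh.H0top O a - ProjCoh.H0top O b) = 0 := by
      rw [mul_sub]; exact sub_eq_zero.2 h
    have hu : IsUnit (X.left.presheaf.map (homOfLE (le_top : X.left.basicOpen c ≤ ⊤)).op c) :=
      RingedSpace.isUnit_res_basicOpen X.left.toRingedSpace c
    have h4 := congrArg (X.left.presheaf.map (homOfLE (le_top : X.left.basicOpen c ≤ ⊤)).op) hc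
    rw [map_mul, map_zero] at h4
    exact hu.mul_right_eq_zero.1 h4
  haveI := hH2
  have hker2 : Module.length R (LinearMap.ker (LinearMap.lsmul R (Coh.HH X.left O (1 + 1)) π)) = 0 := by
    haveI : Subsingleton (Coh.HH X.left O (1 + 1)) := hH2
    exact Module.length_eq_zero
  obtain ⟨hc0, -⟩ := length_coker_eq (M := Coh.HH X.left O 0) hπ
  obtain ⟨hc1, hk1⟩ := length_coker_eq (M := Coh.HH X.left O 1) hπ
  have h0 := finrank_HH_eq hg 0
  have h1 := finrank_HH_eq hg 1
  rw [hker0, zero_add] at hc0
  have hp0 := hpiece 0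
  have hp1 := hpiece 1
  rw [hc0, zero_add, ← h0, finrank_H0_eq_one hH0] at hp0
  rw [hc1, hker2, add_zero, ← h1] at hp1
  obtain ⟨k, hk⟩ := ENat.ne_top_iff_exists.1 hk1
  rw [← hk] at hp0 hp1
  simp only [chiD, Models.lengthH]
  rw [show (Module.length R (Coh.HH X.left (ClSub.quotMod (Models.specialFibreIdeal R X)) 0)).toNat = 1 + k by
      rw [show ClSub.quotMod (Models.specialFibreIdeal R X) = Q from rfl, hp0]; rfl,
    show (Module.length R (Coh.HH X.left (ClSub.quotMod (Models.specialFibreIdeal R X)) 1)).toNat =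
      k + Models.curveGenus (FractionRing R) C f by
      rw [show ClSub.quotMod (Models.specialFibreIdeal R X) = Q from rfl, hp1]; rfl]
  push_cast
  ring

end GrothLib.ArSurf29
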