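import Groth.Agent.Lib.GlobalConst.Scheme
import Groth.Agent.Lib.Stein.Main
import Groth.Agent.Lib.Stein.GeomFibre
import Mathlib.AlgebraicGeometry.Morphisms.UniversallyOpen
import Mathlib.FieldTheory.PurelyInseparable.Basic

/-!
# Global functions from a geometrically connected, geometrically reduced generic fibre
-/

set_option autoImplicit false
set_option linter.all false
set_option backward.isDefEq.respectTransparency false

universe u

open CategoryTheory CategoryTheory.Limits AlgebraicGeometry TopologicalSpace Opposite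

noncomputable section

namespace GrothLib.ArSurf29

/-- A proper integral geometrically reduced and geometrically connected scheme has constants the base field. -/
theorem isIso_appTop_of_geometrically {k : Type u} [Field k] {C : Scheme.{u}} (f : C ⟶ Spec (CommRingCat.of k))
    [IsProper f] [IsIntegral C] [GeometricallyReduced f] [GeometricallyConnected f] : IsIso f.appTop := by
  letI : C.Over (Spec (CommRingCat.of k)) := ⟨f⟩
  haveI : IsProper (C ↘ Spec (CommRingCat.of k)) := ‹IsProper f›
  haveI : GeometricallyReduced (C ↘ Spec (CommRingCat.of k)) := ‹GeometricallyReduced f›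
  haveI : GeometricallyConnected (C ↘ Spec (CommRingCat.of k)) := ‹GeometricallyConnected f›
  letI := GlobalConst.algΓ k (X := C)
  haveI := GlobalConst.finite_algΓ k (X := C)
  haveI : Nonempty (⊤ : C.Opens) := ⟨⟨genericPoint C, trivial⟩⟩
  haveI : IsArtinianRing Γ(C, ⊤) := IsArtinianRing.of_finite k _
  have hF : IsField Γ(C, ⊤) := IsArtinianRing.isField_of_isDomain _
  have hs := GlobalConst.isSeparable_algΓ k (X := C) hF
  have hp := GlobalConst.isPurelyInseparable_algΓ k (X := C) hF
  letI := hF.toField
  haveI : Algebra.IsSeparable k Γ(C, ⊤) := hs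
  haveI : IsPurelyInseparable k Γ(C, ⊤) := hp
  have hbij : Function.Bijective (algebraMap k Γ(C, ⊤)) :=
    IsPurelyInseparable.bijective_algebraMap_of_isSeparable k Γ(C, ⊤)
  have hcoe : (⇑(algebraMap k Γ(C, ⊤))) = f.appTop.hom ∘ (Scheme.ΓSpecIso (CommRingCat.of k)).inv := rfl
  rw [hcoe] at hbij
  exact (ConcreteCategory.isIso_iff_bijective _).2 ((Function.Bijective.of_comp_iff _
    (Scheme.ΓSpecIso (CommRingCat.of k)).commRingCatIsoToRingEquiv.symm.bijective).1 hbij)

variable {R K : Type u} [CommRing R] [IsDomain R] [IsIntegrallyClosed R] [Field K] [Algebra R K] [IsFractionRing R K]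
  {X : Over (Spec (CommRingCat.of R))} [IsIntegral X.left] [UniversallyClosed X.hom]
  {C : Scheme.{u}} {f : C ⟶ Spec (CommRingCat.of K)} {g : C ⟶ X.left}
  (hg : IsPullback g f X.hom (Spec.map (CommRingCat.ofHom (algebraMap R K))))
include hg

/-- Global functions of a model over a normal base come from the base. -/
theorem toGlobal_bijective [Nonempty C] (hH0 : IsIso f.appTop) : Function.Bijective (Coh.toGlobal X.hom) := by
  haveI := hH0
  haveI : Flat (Spec.map (CommRingCat.ofHom (algebraMap R K))) :=
    (HasRingHomProperty.Spec_iff (P := @Flat)).2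
      ((RingHom.flat_algebraMap_iff (R := R) (S := K)).2 (IsLocalization.flat K (nonZeroDivisors R)))
  haveI : Flat g := MorphismProperty.of_isPullback (P := @Flat) hg.flip inferInstance
  obtain ⟨c⟩ := ‹Nonempty C›
  obtain ⟨c', -, hc'⟩ := Flat.generalizingMap g (genericPoint_specializes (g c))
  haveI : Nonempty (⊤ : X.left.Opens) := ⟨⟨genericPoint X.left, trivial⟩⟩
  have hginj : Function.Injective g.appTop := by
    refine (injective_iff_map_eq_zero _).2 fun b hb => ?_
    have h1 : g.stalkMap c' (X.left.presheaf.germ ⊤ (g c') trivial b) = 0 := by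
      rw [Scheme.Hom.germ_stalkMap_apply]
      show C.presheaf.germ ⊤ c' trivial (g.appTop b) = 0
      rw [hb, map_zero]
    have h2 : ∀ v : X.left, v = genericPoint X.left → ∀ a : X.left.presheaf.stalk v, a ≠ 0 → IsUnit a := by
      rintro v rfl a ha
      exact isUnit_iff_ne_zero.2 (show (a : X.left.functionField) ≠ 0 from ha)
    by_contra hb0
    have h3 : X.left.presheaf.germ ⊤ (g c') trivial b ≠ 0 := fun h => hb0 (by
      rw [← map_zero (X.left.presheaf.germ ⊤ (g c') trivial).hom] at h
      exact germ_injective_of_isIntegral X.left (g c') (show g c' ∈ (⊤ : X.left.Opens) from trivial) h)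
    exact (IsUnit.map (g.stalkMap c').hom (h2 _ hc' _ h3)).ne_zero h1
  let ψ : Γ(C, ⊤) ⟶ CommRingCat.of K := inv f.appTop ≫ (Scheme.ΓSpecIso (CommRingCat.of K)).hom
  let φ := g.appTop ≫ ψ
  have hφ : ∀ r : R, φ (Coh.toGlobal X.hom r) = algebraMap R K r := fun r => by
    show ((Scheme.ΓSpecIso (CommRingCat.of R)).inv ≫ X.hom.appTop ≫ g.appTop ≫ ψ) r = _
    rw [← Scheme.Hom.comp_appTop_assoc, hg.w, Scheme.Hom.comp_appTop_assoc]
    simp only [ψ, IsIso.hom_inv_id_assoc, Scheme.ΓSpecIso_naturality, Iso.inv_hom_id_assoc]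
    rfl
  refine ⟨fun r r' h => IsFractionRing.injective R K (by rw [← hφ, ← hφ, h]), fun b => ?_⟩
  have hint : (Coh.toGlobal X.hom).IsIntegralElem (show Coh.Γtop X.left from b) := by
    have h := GrothLib.Stein.isIntegral_section_preimage X.hom (isAffineOpen_top _) (show Γ(X.left, X.hom ⁻¹ᵁ ⊤) from b)
    obtain ⟨q, hqm, hq⟩ := h
    let e := (Scheme.ΓSpecIso (CommRingCat.of R)).commRingCatIsoToRingEquiv
    refine ⟨q.map e.toRingHom, hqm.map _, ?_⟩
    rw [Polynomial.eval₂_map]
    refine Eq.trans ?_ hq
    congr 1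
    ext z
    show X.hom.appTop (e.symm (e z)) = _
    rw [e.symm_apply_apply]
    rfl
  have hint' : IsIntegral R (φ b) := by
    obtain ⟨q, hqm, hq⟩ := hint
    refine ⟨q, hqm, ?_⟩
    have := congrArg φ.hom hq
    rw [Polynomial.hom_eval₂, map_zero] at this
    rw [show φ.hom.comp (Coh.toGlobal X.hom) = algebraMap R K from RingHom.ext hφ] at this
    exact this
  obtain ⟨r, hr⟩ := (IsIntegrallyClosed.isIntegral_iff (R := R) (K := K)).1 hint'
  exact ⟨r, hginj ((ConcreteCategory.bijective_of_isIso ψ).1 ((hφ r).trans hr))⟩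

end GrothLib.ArSurf29
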