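import Groth.Agent.Lib.CMFree.Regular
import Groth.Agent.Lib.RegLoc.Basic
import Groth.Agent.Lib.Serre.Smooth
import Groth.Agent.Lib.LocProp.RegularSmooth
import Groth.Agent.Lib.Hensel.LocalSplit
import Mathlib.RingTheory.ZariskisMainTheorem
import Mathlib.RingTheory.LocalRing.Length

/-!
# The multiplicity of a component of a closed fibre as the degree of a finite flat cut
-/

set_option autoImplicit false
set_option linter.all false

universe u

open IsLocalRing TensorProduct

noncomputable section

namespace GrothLib.ArSurf29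

/-- A chain of `n` ideals from `I` up to the unit ideal, all successive quotients being copies of `S ⧸ q`. -/
inductive Chain {S : Type u} [CommRing S] (q : Ideal S) : ℕ → Ideal S → Prop
  | zero : Chain q 0 ⊤
  | succ {n : ℕ} {I : Ideal S} (a : S) (ha : ∀ x, x * a ∈ I ↔ x ∈ q) (h : Chain q n (I ⊔ Ideal.span {a})) :
      Chain q (n + 1) I

namespace Chain

variable {S : Type u} [CommRing S] {q I : Ideal S} {n : ℕ}

theorem regular [q.IsPrime] (h : Chain q n I) {t : S} (ht : t ∉ q) : ∀ y, t * y ∈ I → y ∈ I := by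
  induction h with
  | zero => exact fun _ _ => trivial
  | succ a ha h ih =>
    intro y hy
    obtain ⟨i, hi, z, hz, rfl⟩ := Submodule.mem_sup.1 (ih y (Ideal.mem_sup_left hy))
    obtain ⟨r, rfl⟩ := Ideal.mem_span_singleton'.1 hz
    refine add_mem hi ?_
    refine (ha r).2 ((Ideal.IsPrime.mem_or_mem ‹q.IsPrime› (?_ : t * r ∈ q)).resolve_left ht)
    rw [← ha]
    have := sub_mem hy (Ideal.mul_mem_left _ t hi)
    rwa [mul_add, add_sub_cancel_left, ← mul_assoc] at this

theorem sup [q.IsPrime] (h : Chain q n I) {t : S} (ht : t ∉ q) :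
    Chain (q ⊔ Ideal.span {t}) n (I ⊔ Ideal.span {t}) := by
  induction h with
  | zero => rw [top_sup_eq]; exact .zero
  | @succ n I a ha h ih =>
    refine .succ a (fun x => ⟨fun hx => ?_, fun hx => ?_⟩) ?_
    · obtain ⟨i, hi, z, hz, e⟩ := Submodule.mem_sup.1 hx
      obtain ⟨y, rfl⟩ := Ideal.mem_span_singleton'.1 hz
      have hy : y ∈ I ⊔ Ideal.span {a} := h.regular ht y (by
        rw [show t * y = x * a - i by rw [← e]; ring]
        exact sub_mem (Ideal.mem_sup_right (Ideal.mem_span_singleton'.2 ⟨x, rfl⟩)) (Ideal.mem_sup_left hi))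
      obtain ⟨w, hw, z', hz', rfl⟩ := Submodule.mem_sup.1 hy
      obtain ⟨r, rfl⟩ := Ideal.mem_span_singleton'.1 hz'
      refine Submodule.mem_sup.2 ⟨x - t * r, (ha _).1 ?_, t * r, Ideal.mem_span_singleton'.2 ⟨r, mul_comm r t⟩, sub_add_cancel _ _⟩
      rw [show (x - t * r) * a = i + t * w by rw [sub_mul, ← e]; ring]
      exact add_mem hi (Ideal.mul_mem_left _ _ hw)
    · obtain ⟨u, hu, z, hz, rfl⟩ := Submodule.mem_sup.1 hx
      obtain ⟨y, rfl⟩ := Ideal.mem_span_singleton'.1 hz
      rw [add_mul]
      exact add_mem (Ideal.mem_sup_left ((ha u).2 hu))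
        (Ideal.mem_sup_right (Ideal.mem_span_singleton'.2 ⟨y * a, by ring⟩))
    · rwa [sup_right_comm]

theorem length_eq [hq : q.IsMaximal] (h : Chain q n I) : Module.length S (S ⧸ I) = n := by
  induction h with
  | zero => simp [Module.length_eq_zero_iff, Submodule.Quotient.subsingleton_iff]
  | @succ n I a ha h ih =>
    let f : (S ⧸ q) →ₗ[S] S ⧸ I := Submodule.liftQ q ((Submodule.mkQ I).comp (LinearMap.toSpanSingleton S S a))
      (fun x hx => (Submodule.Quotient.mk_eq_zero _).2 ((ha x).2 hx))
    let g : (S ⧸ I) →ₗ[S] S ⧸ (I ⊔ Ideal.span {a}) := Submodule.factor le_sup_left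
    have hf : Function.Injective f := by
      rw [injective_iff_map_eq_zero]
      intro x hx
      obtain ⟨x, rfl⟩ := Submodule.Quotient.mk_surjective _ x
      exact (Submodule.Quotient.mk_eq_zero _).2 ((ha x).1 ((Submodule.Quotient.mk_eq_zero _).1 hx))
    have hg : Function.Surjective g := Submodule.factor_surjective _
    have hfg : Function.Exact f g := by
      intro y
      obtain ⟨y, rfl⟩ := Submodule.Quotient.mk_surjective _ y
      refine ⟨fun hy => ?_, ?_⟩
      · obtain ⟨i, hi, z, hz, rfl⟩ := Submodule.mem_sup.1 ((Submodule.Quotient.mk_eq_zero _).1 hy)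
        obtain ⟨r, rfl⟩ := Ideal.mem_span_singleton'.1 hz
        exact ⟨Submodule.Quotient.mk r, (Submodule.Quotient.eq _).2 (by
          show r * a - (i + r * a) ∈ I
          rw [sub_add_cancel_right]; exact neg_mem hi)⟩
      · rintro ⟨x, hx⟩
        obtain ⟨x, rfl⟩ := Submodule.Quotient.mk_surjective _ x
        have hy := (Submodule.Quotient.eq _).1 hx
        refine (Submodule.Quotient.mk_eq_zero _).2 ?_
        rw [← sub_sub_cancel (x * a) y]
        exact sub_mem (Ideal.mem_sup_right (Ideal.mem_span_singleton'.2 ⟨x, rfl⟩)) (Ideal.mem_sup_left hy)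
    have : IsSimpleModule S (S ⧸ q) := isSimpleModule_iff_quot_maximal.2 ⟨q, hq, ⟨LinearEquiv.refl _ _⟩⟩
    rw [Module.length_eq_add_of_exact f g hf hg hfg, ih, Module.length_eq_one S (S ⧸ q), add_comm]
    push_cast
    rfl

end Chain

/-- Cutting down to finite length along a regular system of parameters. -/
theorem exists_ideal_of_chain {S : Type u} [CommRing S] [IsLocalRing S] [IsNoetherianRing S]
    (π : S) (hπ : π ∈ maximalIdeal S) (n : ℕ) :
    ∀ (q : Ideal S) [q.IsPrime], IsRegularLocalRing (S ⧸ q) → ∀ J : Ideal S, (∀ x, π * x ∈ J → x ∈ J) →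
      Chain q n (J ⊔ Ideal.span {π}) →
      ∃ J' : Ideal S, (∀ x, π * x ∈ J' → x ∈ J') ∧ Module.length S (S ⧸ (J' ⊔ Ideal.span {π})) = n := by
  intro q
  induction q using WellFoundedGT.induction with
  | ind q ih =>
    intro hq hreg J hJ hc
    by_cases hqm : q = maximalIdeal S
    · subst hqm
      exact ⟨J, hJ, hc.length_eq⟩
    · haveI := hreg
      have hy : ∃ y ∈ maximalIdeal (S ⧸ q), y ∉ maximalIdeal (S ⧸ q) ^ 2 := by
        by_contra hcon
        push Not at hcon
        have h0 : maximalIdeal (S ⧸ q) = ⊥ := by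
          refine Submodule.eq_bot_of_le_smul_of_le_jacobson_bot (maximalIdeal (S ⧸ q)) _ (IsNoetherian.noetherian _) ?_ ?_
          · intro y hy; have := hcon y hy; rwa [pow_two] at this
          · exact maximalIdeal_le_jacobson _
        refine hqm (le_antisymm (le_maximalIdeal Ideal.IsPrime.ne_top') fun x hx => ?_)
        rw [← Ideal.Quotient.eq_zero_iff_mem, ← Ideal.mem_bot, ← h0]
        haveI : IsLocalHom (Ideal.Quotient.mk q) := IsLocalHom.of_surjective _ Ideal.Quotient.mk_surjective
        exact map_nonunit (Ideal.Quotient.mk q) x hx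
      obtain ⟨y, hy, hy2⟩ := hy
      obtain ⟨t, rfl⟩ := Ideal.Quotient.mk_surjective y
      have htq : t ∉ q := fun h => hy2 (by
        rw [Ideal.Quotient.eq_zero_iff_mem.2 h]; exact Submodule.zero_mem _)
      have htm : t ∈ maximalIdeal S := fun hu => hy (hu.map _)
      obtain ⟨hS, -, -⟩ := GrothLib.RegLoc.quotient_isRegularLocalRing hy hy2
      let e : ((S ⧸ q) ⧸ Ideal.span {Ideal.Quotient.mk q t}) ≃+* (S ⧸ (q ⊔ Ideal.span {t})) :=
        (Ideal.quotEquivOfEq (by rw [Ideal.map_span, Set.image_singleton])).trans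
          (DoubleQuot.quotQuotEquivQuotSup q (Ideal.span {t}))
      haveI := hS
      have hS' : IsRegularLocalRing (S ⧸ (q ⊔ Ideal.span {t})) := IsRegularLocalRing.of_ringEquiv e
      haveI := GrothLib.CMFree.isDomain_of_isRegularLocalRing (S ⧸ (q ⊔ Ideal.span {t}))
      haveI : (q ⊔ Ideal.span {t}).IsPrime := (Ideal.Quotient.isDomain_iff_prime _).1 inferInstance
      refine ih (q ⊔ Ideal.span {t}) (lt_of_le_of_ne le_sup_left fun he =>
        htq (he.symm ▸ Ideal.mem_sup_right (Ideal.mem_span_singleton_self t))) hS' (J ⊔ Ideal.span {t}) ?_ ?_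
      · intro x hx
        obtain ⟨j, hj, z, hz, e⟩ := Submodule.mem_sup.1 hx
        obtain ⟨v, rfl⟩ := Ideal.mem_span_singleton'.1 hz
        have hv : v ∈ J ⊔ Ideal.span {π} := hc.regular htq v (by
          rw [show t * v = π * x - j by rw [← e]; ring]
          exact sub_mem (Ideal.mem_sup_right (Ideal.mem_span_singleton'.2 ⟨x, mul_comm x π⟩)) (Ideal.mem_sup_left hj))
        obtain ⟨w, hw, z', hz', rfl⟩ := Submodule.mem_sup.1 hv
        obtain ⟨r, rfl⟩ := Ideal.mem_span_singleton'.1 hz'
        refine Submodule.mem_sup.2 ⟨x - r * t, hJ _ ?_, r * t, Ideal.mem_span_singleton'.2 ⟨r, rfl⟩, sub_add_cancel _ _⟩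
        rw [show π * (x - r * t) = j + t * w by rw [mul_sub, ← e]; ring]
        exact add_mem hj (Ideal.mul_mem_left _ _ hw)
      · rw [sup_right_comm]
        exact hc.sup htq

/-- Near a general point of a component the fibre is filtered by copies of the component. -/
theorem exists_chain {A : Type u} [CommRing A] [IsNoetherianRing A] (P : Ideal A) [P.IsPrime] :
    ∀ (n : ℕ) (I : Ideal A),
      Module.length (Localization.AtPrime P) (Localization.AtPrime P ⧸ I.map (algebraMap A (Localization.AtPrime P))) = n →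
      ∃ f ∉ P, ∀ (M : Ideal A) [M.IsPrime], P ≤ M → f ∉ M →
        Chain (P.map (algebraMap A (Localization.AtPrime M))) n (I.map (algebraMap A (Localization.AtPrime M))) := by
  set T := Localization.AtPrime P
  intro n
  induction n with
  | zero =>
    intro I hI
    have hsub : I.map (algebraMap A T) = ⊤ := by
      rw [Nat.cast_zero, Module.length_eq_zero_iff] at hI
      exact Submodule.Quotient.subsingleton_iff.1 hI
    have h1 := (Ideal.eq_top_iff_one _).1 hsub
    rw [← map_one (algebraMap A T), IsLocalization.algebraMap_mem_map_algebraMap_iff P.primeCompl] at h1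
    obtain ⟨f, hf, hfI⟩ := h1
    refine ⟨f, hf, fun M _ hPM hfM => ?_⟩
    rw [mul_one] at hfI
    rw [Ideal.eq_top_of_isUnit_mem _ (Ideal.mem_map_of_mem _ hfI)
      (IsLocalization.map_units (M := M.primeCompl) _ ⟨f, hfM⟩)]
    exact .zero
  | succ n ih =>
    intro I hI
    let IT := I.map (algebraMap A T)
    haveI : Nontrivial (T ⧸ IT) := by
      rw [← Module.length_pos_iff (R := T), hI]
      exact_mod_cast Nat.succ_pos n
    haveI : IsFiniteLength T (T ⧸ IT) := Module.length_ne_top_iff.1 (by rw [hI]; exact ENat.natCast_ne_top _)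
    haveI : IsArtinian T (T ⧸ IT) := (isFiniteLength_iff_isNoetherian_isArtinian.1 this).2
    obtain ⟨N, hN, -⟩ := (eq_bot_or_exists_atom_le (⊤ : Submodule T (T ⧸ IT))).resolve_left top_ne_bot
    haveI : IsSimpleModule T N := isSimpleModule_iff_isAtom.2 hN
    haveI : Nontrivial N := IsSimpleModule.nontrivial T N
    obtain ⟨⟨c, hcN⟩, hc⟩ := exists_ne (0 : N)
    have hker : ∀ x : T, x • c = 0 ↔ x ∈ maximalIdeal T := fun x => by
      have hmax : Ideal.IsMaximal (LinearMap.ker (LinearMap.toSpanSingleton T N ⟨c, hcN⟩) : Ideal T) :=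
        IsSimpleModule.ker_toSpanSingleton_isMaximal T hc
      rw [← eq_maximalIdeal hmax, LinearMap.mem_ker, LinearMap.toSpanSingleton_apply]
      exact ⟨fun h => Subtype.ext h, fun h => congrArg Subtype.val h⟩
    obtain ⟨c, rfl⟩ := Submodule.Quotient.mk_surjective _ c
    obtain ⟨⟨a, s⟩, hs⟩ := IsLocalization.surj P.primeCompl c
    have hu : IsUnit (algebraMap A T s) := IsLocalization.map_units T s
    have ha : ∀ x : T, x * algebraMap A T a ∈ IT ↔ x ∈ maximalIdeal T := fun x => by
      rw [← hs, ← hker x, ← Submodule.Quotient.mk_smul, Submodule.Quotient.mk_eq_zero, smul_eq_mul,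
        ← mul_assoc, Ideal.mul_unit_mem_iff_mem _ hu]
    let I₁ := (IT).comap (algebraMap A T)
    have hI₁ : I₁.map (algebraMap A T) = IT := IsLocalization.map_comap P.primeCompl T _
    have hlen : Module.length T (T ⧸ (I₁ ⊔ Ideal.span {a}).map (algebraMap A T)) = n := by
      rw [Ideal.map_sup, hI₁, Ideal.map_span, Set.image_singleton]
      let f : (T ⧸ maximalIdeal T) →ₗ[T] T ⧸ IT := Submodule.liftQ _ ((Submodule.mkQ IT).comp (LinearMap.toSpanSingleton T T (algebraMap A T a)))
        (fun x hx => (Submodule.Quotient.mk_eq_zero _).2 ((ha x).2 hx))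
      let g : (T ⧸ IT) →ₗ[T] T ⧸ (IT ⊔ Ideal.span {algebraMap A T a}) := Submodule.factor le_sup_left
      have hf : Function.Injective f := by
        rw [injective_iff_map_eq_zero]
        intro x hx
        obtain ⟨x, rfl⟩ := Submodule.Quotient.mk_surjective _ x
        exact (Submodule.Quotient.mk_eq_zero _).2 ((ha x).1 ((Submodule.Quotient.mk_eq_zero _).1 hx))
      have hg : Function.Surjective g := Submodule.factor_surjective _
      have hfg : Function.Exact f g := by
        intro y
        obtain ⟨y, rfl⟩ := Submodule.Quotient.mk_surjective _ y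
        refine ⟨fun hy => ?_, ?_⟩
        · obtain ⟨i, hi, z, hz, rfl⟩ := Submodule.mem_sup.1 ((Submodule.Quotient.mk_eq_zero _).1 hy)
          obtain ⟨r, rfl⟩ := Ideal.mem_span_singleton'.1 hz
          exact ⟨Submodule.Quotient.mk r, (Submodule.Quotient.eq _).2 (by
            show r * algebraMap A T a - (i + r * algebraMap A T a) ∈ IT
            rw [sub_add_cancel_right]; exact neg_mem hi)⟩
        · rintro ⟨x, hx⟩
          obtain ⟨x, rfl⟩ := Submodule.Quotient.mk_surjective _ x
          have hy := (Submodule.Quotient.eq _).1 hx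
          refine (Submodule.Quotient.mk_eq_zero _).2 ?_
          rw [← sub_sub_cancel (x * algebraMap A T a) y]
          exact sub_mem (Ideal.mem_sup_right (Ideal.mem_span_singleton'.2 ⟨x, rfl⟩)) (Ideal.mem_sup_left hy)
      have : IsSimpleModule T (T ⧸ maximalIdeal T) :=
        isSimpleModule_iff_quot_maximal.2 ⟨_, inferInstance, ⟨LinearEquiv.refl _ _⟩⟩
      have h := Module.length_eq_add_of_exact f g hf hg hfg
      rw [hI, Module.length_eq_one T (T ⧸ maximalIdeal T), Nat.cast_succ, add_comm (1 : ℕ∞)] at h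
      exact ((ENat.addLECancellable_of_ne_top ENat.one_ne_top).inj_left).1 h.symm
    obtain ⟨f₂, hf₂, hchain⟩ := ih _ hlen
    obtain ⟨G, hG⟩ := IsNoetherian.noetherian I₁
    have hgen : ∀ x ∈ I₁, ∃ u, u ∉ P ∧ u * x ∈ I := fun x hx => by
      obtain ⟨u, hu, hux⟩ := (IsLocalization.algebraMap_mem_map_algebraMap_iff P.primeCompl T I x).1 hx
      exact ⟨u, hu, hux⟩
    choose! u hu hux using hgen
    have hf₁ : (∏ x ∈ G, u x) ∉ P := fun h => by
      obtain ⟨x, hx, hxP⟩ := Ideal.IsPrime.prod_mem_iff.1 h
      exact hu x (hG ▸ Submodule.subset_span hx) hxP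
    refine ⟨(∏ x ∈ G, u x) * f₂, fun h => ((Ideal.IsPrime.mem_or_mem ‹_› h).elim hf₁ hf₂),
      fun M _ hPM hfM => ?_⟩
    set S := Localization.AtPrime M
    have hunit : ∀ x ∈ G, IsUnit (algebraMap A S (u x)) := fun x hx =>
      IsLocalization.map_units (M := M.primeCompl) S ⟨u x, fun h => hfM (M.mul_mem_right _
        (Ideal.prod_mem (I := M) hx h))⟩
    have hIS : I₁.map (algebraMap A S) = I.map (algebraMap A S) := by
      refine le_antisymm ?_ (Ideal.map_mono Ideal.le_comap_map)
      rw [← hG, Submodule.span, Ideal.map_le_iff_le_comap]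
      refine sInf_le ?_
      intro x hx
      have h := Ideal.mem_map_of_mem (algebraMap A S) (hux x (hG ▸ Submodule.subset_span hx))
      rw [map_mul] at h
      exact ((Ideal.unit_mul_mem_iff_mem _ (hunit x hx)).1 h)
    refine .succ (algebraMap A S a) (fun x => ?_) ?_
    · obtain ⟨⟨b, w⟩, hw⟩ := IsLocalization.surj M.primeCompl x
      have hwu : IsUnit (algebraMap A S w) := IsLocalization.map_units S w
      rw [← Ideal.unit_mul_mem_iff_mem _ hwu (x := x), ← Ideal.unit_mul_mem_iff_mem (I.map (algebraMap A S)) hwu,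
        ← mul_assoc, mul_comm (algebraMap A S w), hw, ← map_mul, ← hIS,
        IsLocalization.algebraMap_mem_map_algebraMap_iff M.primeCompl,
        IsLocalization.algebraMap_mem_map_algebraMap_iff M.primeCompl]
      constructor
      · rintro ⟨v, hv, hvba⟩
        refine ⟨v, hv, ?_⟩
        have : algebraMap A T (v * b) * algebraMap A T a ∈ IT := by
          rw [← map_mul, mul_assoc]; exact hvba
        rwa [ha, IsLocalization.AtPrime.to_map_mem_maximal_iff T P] at this
      · rintro ⟨v, hv, hvb⟩
        refine ⟨v, hv, ?_⟩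
        show algebraMap A T (v * (b * a)) ∈ IT
        rw [← mul_assoc, map_mul, ha, IsLocalization.AtPrime.to_map_mem_maximal_iff T P]
        exact hvb
    · have h := hchain M hPM fun h => hfM (M.mul_mem_left _ h)
      rwa [Ideal.map_sup, hIS, Ideal.map_span, Set.image_singleton] at h

end GrothLib.ArSurf29
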