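import Groth.Agent.Lib.ArSurf29.IndexChain
import Groth.Agent.Lib.DvrTors.Basic

/-!
# Finite flat cuts through a general point of a fibre component
-/

set_option autoImplicit false
set_option linter.all false

universe u

open IsLocalRing TensorProduct

noncomputable section

namespace GrothLib.ArSurf29

/-- The dimension of a finite algebra lies in every group containing the degrees of its residue fields. -/
theorem finrank_mem_of_forall {K : Type u} [Field K] (G : AddSubgroup ℤ) :
    ∀ (B : Type u) [CommRing B] [Algebra K B] [Module.Finite K B],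
      (∀ (L : Type u) [Field L] [Algebra K L] [Module.Finite K L], (B →ₐ[K] L) → (Module.finrank K L : ℤ) ∈ G) →
      (Module.finrank K B : ℤ) ∈ G := by
  suffices H : ∀ N : ℕ, ∀ (B : Type u) [CommRing B] [Algebra K B] [Module.Finite K B], Module.finrank K B = N →
      (∀ (L : Type u) [Field L] [Algebra K L] [Module.Finite K L], (B →ₐ[K] L) → (Module.finrank K L : ℤ) ∈ G) →
      (Module.finrank K B : ℤ) ∈ G from fun B _ _ _ h => H _ B rfl h
  intro N
  induction N using Nat.strong_induction_on with
  | _ N ih =>
    intro B _ _ _ hN h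
    rcases subsingleton_or_nontrivial B with hB | hB
    · rw [Module.finrank_zero_of_subsingleton, Nat.cast_zero]; exact zero_mem G
    by_cases hF : IsField B
    · letI := hF.toField
      exact h B (AlgHom.id K B)
    obtain ⟨x, hx0, hxu⟩ := Ring.exists_not_isUnit_of_not_isField hF
    let μ : B →ₗ[K] B := LinearMap.mulLeft K x
    have hrn := μ.finrank_range_add_finrank_ker
    have h1 : Module.finrank K (B ⧸ Ideal.span {x}) + Module.finrank K (LinearMap.range μ) = Module.finrank K B := by
      rw [← Submodule.finrank_quotient_add_finrank (LinearMap.range μ)]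
      congr 1
      refine (Submodule.quotEquivOfEq ((Ideal.span {x}).restrictScalars K) (LinearMap.range μ) ?_).finrank_eq
      ext y
      simp [μ, Ideal.mem_span_singleton', mul_comm]
    have h2 : Module.finrank K (B ⧸ LinearMap.ker (LinearMap.mulLeft B x)) = Module.finrank K (LinearMap.range μ) :=
      (Submodule.quotEquivOfEq ((LinearMap.ker (LinearMap.mulLeft B x)).restrictScalars K) (LinearMap.ker μ)
        (by ext; simp [μ])).finrank_eq.trans μ.quotKerEquivRange.finrank_eq
    let J : Ideal B := LinearMap.ker (LinearMap.mulLeft B x)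
    have hlt1 : Module.finrank K (B ⧸ Ideal.span {x}) < N := by
      have : 0 < Module.finrank K (LinearMap.range μ) := by
        rw [pos_iff_ne_zero]
        intro h0
        have := Submodule.finrank_eq_zero.1 h0
        exact hx0 (by simpa [μ] using (Submodule.eq_bot_iff _).1 this x ⟨1, mul_one x⟩)
      omega
    have hlt2 : Module.finrank K (B ⧸ J) < N := by
      haveI : Nontrivial (B ⧸ Ideal.span {x}) :=
        Ideal.Quotient.nontrivial_iff.2 (by rwa [Ne, Ideal.span_singleton_eq_top])
      have : 0 < Module.finrank K (B ⧸ Ideal.span {x}) := Module.finrank_pos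
      show Module.finrank K (B ⧸ J) < N
      rw [show Module.finrank K (B ⧸ J) = Module.finrank K (LinearMap.range μ) from h2]
      omega
    rw [← h1, ← h2, Nat.cast_add]
    exact add_mem (ih _ hlt1 _ rfl fun L _ _ _ φ => h L (φ.comp (Ideal.Quotient.mkₐ K _)))
      (ih _ hlt2 (B ⧸ J) rfl fun L _ _ _ φ => h L (φ.comp (Ideal.Quotient.mkₐ K _)))

variable {R : Type u} [CommRing R] [IsDomain R] [IsDiscreteValuationRing R] [HenselianLocalRing R]

/-- A minimal prime of the closed fibre: its multiplicity is a combination of degrees of closed points of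
the generic fibre. -/
theorem length_mem_of_forall (hk : IsAlgClosed (ResidueField R)) {A : Type u} [CommRing A] [Algebra R A]
    [Algebra.FiniteType R A] [Module.Flat R A] {π : R} (hπ : Irreducible π)
    (P : Ideal A) [P.IsPrime] (hP : algebraMap R A π ∈ P)
    (hmin : ∀ Q : Ideal A, Q.IsPrime → algebraMap R A π ∈ Q → Q ≤ P → Q = P) (G : AddSubgroup ℤ)
    (hG : ∀ (L : Type u) [Field L] [Algebra (FractionRing R) L] [Algebra R L] [IsScalarTower R (FractionRing R) L]
      [Module.Finite (FractionRing R) L], (A →ₐ[R] L) → (Module.finrank (FractionRing R) L : ℤ) ∈ G) :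
    ∃ ℓ : ℕ, Module.length (Localization.AtPrime P)
      (Localization.AtPrime P ⧸ (Ideal.span {algebraMap R A π}).map (algebraMap A (Localization.AtPrime P))) = ℓ ∧
      (ℓ : ℤ) ∈ G := by
  haveI : IsNoetherianRing A := Algebra.FiniteType.isNoetherianRing R A
  set T := Localization.AtPrime P
  set I := (Ideal.span {algebraMap R A π}).map (algebraMap A T)
  haveI : IsNoetherianRing T := IsLocalization.isNoetherianRing P.primeCompl T inferInstance
  haveI : Ring.KrullDimLE 0 (T ⧸ I) := by
    refine Ring.krullDimLE_zero_iff.2 fun Q hQ => ?_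
    haveI := hQ
    refine Ideal.Quotient.maximal_of_isField Q ?_
    · let Q' := Q.comap (Ideal.Quotient.mk I)
      have hQ' : Q' = maximalIdeal T := by
        refine le_antisymm (le_maximalIdeal Ideal.IsPrime.ne_top') ?_
        have h := hmin (Q'.comap (algebraMap A T)) inferInstance
          (show Ideal.Quotient.mk I (algebraMap A T (algebraMap R A π)) ∈ Q by
            rw [Ideal.Quotient.eq_zero_iff_mem.2 (Ideal.mem_map_of_mem _ (Ideal.mem_span_singleton_self _))]
            exact zero_mem _)
          (fun a ha => (IsLocalization.AtPrime.to_map_mem_maximal_iff T P a).1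
            ((le_maximalIdeal (Ideal.IsPrime.ne_top' : Q' ≠ ⊤)) (show algebraMap A T a ∈ Q' from ha)))
        rw [← IsLocalization.map_comap P.primeCompl T Q', show Q'.under A = P from h]
        exact le_of_eq Localization.AtPrime.map_eq_maximalIdeal.symm
      have hmax : Q.IsMaximal := by
        have : Q = Q'.map (Ideal.Quotient.mk I) := (Ideal.map_comap_of_surjective _ Ideal.Quotient.mk_surjective _).symm
        rw [this, hQ']
        exact Or.resolve_left (Ideal.map_eq_top_or_isMaximal_of_surjective _ Ideal.Quotient.mk_surjective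
          (maximalIdeal.isMaximal T)) fun h => Ideal.IsPrime.ne_top hQ (this.trans (hQ' ▸ h))
      exact (Ideal.Quotient.maximal_ideal_iff_isField_quotient Q).1 hmax
  haveI : IsArtinianRing (T ⧸ I) := isArtinianRing_iff_krullDimLE_zero.2 inferInstance
  have hlen : Module.length T (T ⧸ I) ≠ ⊤ := by
    rw [Module.length_eq_of_surjective (R := T ⧸ I) Ideal.Quotient.mk_surjective]
    exact Module.length_ne_top
  obtain ⟨ℓ, hℓ⟩ := WithTop.ne_top_iff_exists.1 hlen
  refine ⟨ℓ, hℓ.symm, ?_⟩
  obtain ⟨f, hf, hchain⟩ := exists_chain P ℓ (Ideal.span {algebraMap R A π}) hℓ.symm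
  -- the component as an algebra over the residue field
  let k := ResidueField R
  have hπk : ∀ r ∈ maximalIdeal R, algebraMap R (A ⧸ P) r = 0 := fun r hr => by
    rw [hπ.maximalIdeal_eq, Ideal.mem_span_singleton'] at hr
    obtain ⟨c, rfl⟩ := hr
    show Ideal.Quotient.mk P (algebraMap R A (c * π)) = 0
    rw [Ideal.Quotient.eq_zero_iff_mem, map_mul]
    exact P.mul_mem_left _ hP
  letI : Algebra k (A ⧸ P) := RingHom.toAlgebra (Ideal.Quotient.lift (maximalIdeal R) (algebraMap R (A ⧸ P)) hπk)
  haveI : IsScalarTower R k (A ⧸ P) := IsScalarTower.of_algebraMap_eq fun r => rfl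
  haveI : Algebra.FiniteType R (A ⧸ P) :=
    Algebra.FiniteType.of_surjective (Ideal.Quotient.mkₐ R P) Ideal.Quotient.mk_surjective
  haveI : Algebra.FiniteType k (A ⧸ P) := Algebra.FiniteType.of_restrictScalars_finiteType R k (A ⧸ P)
  haveI : IsAlgClosed k := hk
  haveI : IsJacobsonRing (A ⧸ P) := isJacobsonRing_of_finiteType (A := k)
  haveI : Algebra.FinitePresentation k (A ⧸ P) := Algebra.FinitePresentation.of_finiteType.1 inferInstance
  have hbot : (⟨⊥, Ideal.isPrime_bot⟩ : PrimeSpectrum (A ⧸ P)) ∈ Algebra.smoothLocus k (A ⧸ P) := by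
    show Algebra.IsSmoothAt k (⊥ : Ideal (A ⧸ P))
    haveI : IsFractionRing (A ⧸ P) (Localization.AtPrime (⊥ : Ideal (A ⧸ P))) := by
      have h := Localization.isLocalization (M := (⊥ : Ideal (A ⧸ P)).primeCompl)
      show IsLocalization (nonZeroDivisors (A ⧸ P)) _
      convert h using 1
      ext a
      simp [Ideal.primeCompl]
    letI := IsFractionRing.toField (A ⧸ P) (K := Localization.AtPrime (⊥ : Ideal (A ⧸ P)))
    haveI : IsRegularLocalRing (Localization.AtPrime (⊥ : Ideal (A ⧸ P))) := inferInstance
    exact GrothLib.LocProp.isSmoothAt_of_isRegularLocalRing_of_perfectField _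
  obtain ⟨_, ⟨g, rfl⟩, hgbot, hgsm⟩ := PrimeSpectrum.isTopologicalBasis_basic_opens.exists_subset_of_mem_open hbot
    Algebra.isOpen_smoothLocus
  have hfg : Ideal.Quotient.mk P f * g ∉ (⊥ : Ideal (A ⧸ P)).jacobson := by
    rw [IsJacobsonRing.out' (⊥ : Ideal (A ⧸ P)) (Ideal.isPrime_bot).isRadical, Ideal.mem_bot]
    exact mul_ne_zero (by rwa [Ne, Ideal.Quotient.eq_zero_iff_mem]) fun h => hgbot (by simp [h])
  rw [Ideal.jacobson, Ideal.mem_sInf] at hfg
  push Not at hfg
  obtain ⟨m, ⟨-, hm⟩, hfgm⟩ := hfg
  haveI := hm
  haveI : Algebra.IsSmoothAt k m := hgsm (show (⟨m, hm.isPrime⟩ : PrimeSpectrum _) ∈ PrimeSpectrum.basicOpen g from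
    fun h => hfgm (m.mul_mem_left _ h))
  have hregm : IsRegularLocalRing (Localization.AtPrime m) := GrothLib.Serre.isRegularLocalRing_of_isSmoothAt (k := k) m
  let M : Ideal A := m.comap (Ideal.Quotient.mk P)
  haveI : M.IsMaximal := Ideal.comap_isMaximal_of_surjective _ Ideal.Quotient.mk_surjective
  have hPM : P ≤ M := fun a ha => show Ideal.Quotient.mk P a ∈ m by
    rw [Ideal.Quotient.eq_zero_iff_mem.2 ha]; exact zero_mem _
  have hfM : f ∉ M := fun h => hfgm (m.mul_mem_right _ h)
  let S := Localization.AtPrime M
  haveI : IsNoetherianRing S := IsLocalization.isNoetherianRing M.primeCompl S inferInstance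
  -- its local ring is regular
  let χ : S →+* Localization.AtPrime m := Localization.localRingHom M m (Ideal.Quotient.mk P) rfl
  have hχ : Function.Surjective χ :=
    (RingHom.surjectiveOnStalks_of_surjective Ideal.Quotient.mk_surjective).localRingHom_surjective _ _ rfl
  have hkerχ : RingHom.ker χ = P.map (algebraMap A S) := by
    refine le_antisymm (fun x hx => ?_) ?_
    · obtain ⟨b, w, rfl⟩ := IsLocalization.exists_mk'_eq M.primeCompl x
      rw [IsLocalization.mk'_mem_map_algebraMap_iff]
      rw [RingHom.mem_ker, Localization.localRingHom_mk', IsLocalization.mk'_eq_zero_iff] at hx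
      obtain ⟨⟨v, hv⟩, hvb⟩ := hx
      obtain ⟨v, rfl⟩ := Ideal.Quotient.mk_surjective v
      refine ⟨v, hv, ?_⟩
      rw [← Ideal.Quotient.eq_zero_iff_mem, map_mul]
      exact hvb
    · rw [Ideal.map_le_iff_le_comap]
      intro a ha
      show χ (algebraMap A S a) = 0
      rw [Localization.localRingHom_to_map, Ideal.Quotient.eq_zero_iff_mem.2 ha, map_zero]
  haveI hPS : (P.map (algebraMap A S)).IsPrime := hkerχ ▸ RingHom.ker_isPrime χ
  have hreg : IsRegularLocalRing (S ⧸ P.map (algebraMap A S)) :=
    IsRegularLocalRing.of_ringEquiv (R := Localization.AtPrime m)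
      (((Ideal.quotEquivOfEq hkerχ.symm).trans (RingHom.quotientKerEquivOfSurjective hχ)).symm)
  -- the residue field is `k`
  have hres : Function.Surjective ((residue S).comp (algebraMap R S)) := by
    intro y
    obtain ⟨x, rfl⟩ := residue_surjective y
    obtain ⟨b, w, rfl⟩ := IsLocalization.exists_mk'_eq M.primeCompl x
    letI := Ideal.Quotient.field m
    haveI : Module.Finite k ((A ⧸ P) ⧸ m) := finite_of_finite_type_of_isJacobsonRing k ((A ⧸ P) ⧸ m)
    have hb : ∀ a : A, ∃ r : R, algebraMap R A r - a ∈ M := fun a => by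
      obtain ⟨c, hc⟩ := (IsAlgClosed.algebraMap_bijective_of_isIntegral (k := k) (K := (A ⧸ P) ⧸ m)).2
        (Ideal.Quotient.mk m (Ideal.Quotient.mk P a))
      obtain ⟨r, rfl⟩ := residue_surjective (R := R) c
      refine ⟨r, show Ideal.Quotient.mk P _ ∈ m from ?_⟩
      rw [map_sub, ← Ideal.Quotient.eq_zero_iff_mem, map_sub, sub_eq_zero]
      exact hc
    obtain ⟨rb, hrb⟩ := hb b
    obtain ⟨rw', hrw⟩ := hb w
    have hu : IsUnit rw' := by
      by_contra hu
      have hmem : rw' ∈ maximalIdeal R := hu
      rw [hπ.maximalIdeal_eq, Ideal.mem_span_singleton'] at hmem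
      obtain ⟨c, rfl⟩ := hmem
      refine w.2 (?_ : (w : A) ∈ M)
      have := M.sub_mem (show algebraMap R A (c * π) ∈ M by rw [map_mul]; exact M.mul_mem_left _ (hPM hP)) hrw
      rwa [sub_sub_cancel] at this
    have key : ∀ (a : A) (r : R), algebraMap R A r - a ∈ M → residue S (algebraMap A S a) = residue S (algebraMap R S r) := by
      intro a r h
      rw [eq_comm, ← sub_eq_zero, ← map_sub, residue_eq_zero_iff, IsScalarTower.algebraMap_apply R A S, ← map_sub]
      exact (IsLocalization.AtPrime.to_map_mem_maximal_iff S M _).2 h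
    refine ⟨rb * ↑hu.unit⁻¹, ?_⟩
    have hwu : IsUnit (residue S (algebraMap A S w)) := (IsLocalization.map_units S w).map _
    refine hwu.mul_left_injective ?_
    show residue S (algebraMap R S (rb * ↑hu.unit⁻¹)) * _ = residue S (IsLocalization.mk' S b w) * _
    rw [← map_mul (residue S) (IsLocalization.mk' S b w), IsLocalization.mk'_spec, key b rb hrb, key w rw' hrw,
      ← map_mul, ← map_mul, mul_assoc, IsUnit.val_inv_mul, mul_one]
  haveI hloc : IsLocalHom (algebraMap R S) := ⟨fun r hr => by
    by_contra hu
    have hmem : r ∈ maximalIdeal R := hu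
    rw [hπ.maximalIdeal_eq, Ideal.mem_span_singleton'] at hmem
    obtain ⟨c, rfl⟩ := hmem
    refine ((IsLocalization.AtPrime.to_map_mem_maximal_iff S M (algebraMap R A (c * π))).2 ?_) ?_
    · rw [map_mul]; exact M.mul_mem_left _ (hPM hP)
    · rwa [← IsScalarTower.algebraMap_apply]⟩
  -- cut down
  haveI : Module.Flat R S := Module.Flat.trans R A S
  set πS := algebraMap R S π
  have hπS : (Ideal.span {algebraMap R A π}).map (algebraMap A S) = Ideal.span {πS} := by
    rw [Ideal.map_span, Set.image_singleton, ← IsScalarTower.algebraMap_apply]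
  have hc := hchain M hPM hfM
  rw [hπS, ← bot_sup_eq (Ideal.span {πS})] at hc
  have hπm : πS ∈ maximalIdeal S := map_nonunit (algebraMap R S) π hπ.not_isUnit
  have hπreg : IsSMulRegular S π :=
    Module.Flat.isSMulRegular_of_isRegular (M := S) (isRegular_of_ne_zero hπ.ne_zero)
  obtain ⟨J, hJ, hJlen⟩ := exists_ideal_of_chain πS hπm ℓ _ hreg ⊥ (fun x hx => by
    rw [Ideal.mem_bot] at hx ⊢
    refine hπreg ?_
    show π • x = π • (0 : S)
    rw [smul_zero, Algebra.smul_def]; exact hx) hc
  -- the cut is finite over `R`
  let B := S ⧸ J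
  let JA : Ideal A := J.comap (algebraMap A S)
  have hJA : JA.map (algebraMap A S) = J := IsLocalization.map_comap M.primeCompl S J
  have hJtop : J ≠ ⊤ → JA ≤ M := fun hne a ha =>
    (IsLocalization.AtPrime.to_map_mem_maximal_iff S M a).1 (le_maximalIdeal hne ha)
  have hlenR : Module.length R (S ⧸ (J ⊔ Ideal.span {πS})) = ℓ := by
    have h1 : Module.length (ResidueField R) (ResidueField S) = 1 := by
      rw [← Module.length_eq_of_surjective (M := ResidueField S) (residue_surjective (R := R))]
      have hs : Function.Surjective (Algebra.linearMap R (ResidueField S)) := hres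
      refine le_antisymm ?_ (Order.one_le_iff_pos.2 Module.length_pos)
      let χ' : (R ⧸ maximalIdeal R) →ₗ[R] ResidueField S := Submodule.liftQ _ (Algebra.linearMap R (ResidueField S))
        (fun r hr => (residue_eq_zero_iff _).2 (map_nonunit (algebraMap R S) r hr))
      have hχ' : Function.Surjective χ' := fun y => by
        obtain ⟨r, hr⟩ := hs y
        exact ⟨Submodule.Quotient.mk r, hr⟩
      refine (Module.length_le_of_surjective χ' hχ').trans (le_of_eq ?_)
      haveI : IsSimpleModule R (R ⧸ maximalIdeal R) :=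
        isSimpleModule_iff_quot_maximal.2 ⟨_, inferInstance, ⟨LinearEquiv.refl _ _⟩⟩
      exact Module.length_eq_one R _
    rw [IsLocalRing.length_restrictScalars R S, hJlen, h1, mul_one]
  haveI hfinπ : Module.Finite R (S ⧸ (J ⊔ Ideal.span {πS})) := by
    have : IsFiniteLength R (S ⧸ (J ⊔ Ideal.span {πS})) := Module.length_ne_top_iff.1 (by rw [hlenR]; exact ENat.natCast_ne_top _)
    haveI := (isFiniteLength_iff_isNoetherian_isArtinian.1 this).1
    infer_instance
  haveI : Module.Finite R B := by
    by_cases hne : J = ⊤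
    · haveI : Subsingleton B := Submodule.Quotient.subsingleton_iff.2 hne
      exact Module.Finite.of_finite
    have hle := hJtop hne
    let q : Ideal (A ⧸ JA) := M.map (Ideal.Quotient.mk JA)
    have hqM : q.comap (Ideal.Quotient.mk JA) = M := by
      rw [Ideal.comap_map_of_surjective' _ Ideal.Quotient.mk_surjective, Ideal.mk_ker, sup_eq_left.2 hle]
    haveI : q.IsMaximal := by
      refine (Ideal.map_eq_top_or_isMaximal_of_surjective _ Ideal.Quotient.mk_surjective
        (inferInstance : M.IsMaximal)).resolve_left fun h => ?_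
      have := congrArg (Ideal.comap (Ideal.Quotient.mk JA)) h
      rw [hqM, Ideal.comap_top] at this
      exact Ideal.IsPrime.ne_top' this
    haveI : q.IsPrime := Ideal.IsMaximal.isPrime' q
    let ψ : S →ₐ[R] Localization.AtPrime q := Localization.localAlgHom _ _ (Ideal.Quotient.mkₐ R JA) hqM.symm
    have hψ : Function.Surjective ψ :=
      (RingHom.surjectiveOnStalks_of_surjective Ideal.Quotient.mk_surjective).localRingHom_surjective _ _ hqM.symm
    have hkerψ : RingHom.ker ψ = J := by
      refine le_antisymm (fun x hx => ?_) ?_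
      · obtain ⟨b, w, rfl⟩ := IsLocalization.exists_mk'_eq M.primeCompl x
        rw [← hJA, IsLocalization.mk'_mem_map_algebraMap_iff]
        change Localization.localRingHom M q (Ideal.Quotient.mk JA) hqM.symm _ = 0 at hx
        rw [Localization.localRingHom_mk', IsLocalization.mk'_eq_zero_iff] at hx
        obtain ⟨⟨v, hv⟩, hvb⟩ := hx
        obtain ⟨v, rfl⟩ := Ideal.Quotient.mk_surjective v
        refine ⟨v, fun h => hv (Ideal.mem_map_of_mem _ h), ?_⟩
        rw [← Ideal.Quotient.eq_zero_iff_mem, map_mul]
        exact hvb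
      · rw [← hJA, Ideal.map_le_iff_le_comap]
        intro a ha
        show Localization.localRingHom M q (Ideal.Quotient.mk JA) hqM.symm (algebraMap A S a) = 0
        rw [Localization.localRingHom_to_map, Ideal.Quotient.eq_zero_iff_mem.2 ha, map_zero]
    let e : B ≃ₐ[R] Localization.AtPrime q :=
      (Ideal.quotientEquivAlgOfEq R hkerψ.symm).trans (Ideal.quotientKerAlgEquivOfSurjective hψ)
    haveI hover : q.LiesOver (maximalIdeal R) := ⟨by
      refine (eq_maximalIdeal ?_).symm
      have hπq : π ∈ q.under R := Ideal.mem_map_of_mem _ (hPM hP)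
      have : maximalIdeal R ≤ q.under R := by
        rw [hπ.maximalIdeal_eq, Ideal.span_singleton_le_iff_mem]; exact hπq
      rw [← (maximalIdeal.isMaximal R).eq_of_le (Ideal.IsPrime.ne_top inferInstance) this]
      exact maximalIdeal.isMaximal R⟩
    haveI : Algebra.WeaklyQuasiFiniteAt R q := by
      rw [Algebra.weaklyQuasiFiniteAt_iff, ← hover.over]
      haveI : Module.Finite R (Localization.AtPrime q ⧸
          (maximalIdeal R).map (algebraMap R (Localization.AtPrime q))) := by
        let γ : S →ₐ[R] Localization.AtPrime q ⧸ (maximalIdeal R).map (algebraMap R (Localization.AtPrime q)) :=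
          (Ideal.Quotient.mkₐ R _).comp ψ
        have hγ : Function.Surjective γ := Ideal.Quotient.mk_surjective.comp hψ
        have hγk : J ⊔ Ideal.span {πS} ≤ RingHom.ker γ := by
          refine sup_le (fun x hx => ?_) ((Ideal.span_singleton_le_iff_mem _).2 ?_)
          · show Ideal.Quotient.mk _ (ψ x) = 0
            rw [show ψ x = 0 from hkerψ.ge hx, map_zero]
          · show Ideal.Quotient.mk _ (ψ (algebraMap R S π)) = 0
            rw [AlgHom.commutes, Ideal.Quotient.eq_zero_iff_mem]
            exact Ideal.mem_map_of_mem _ (hπ.maximalIdeal_eq ▸ Ideal.mem_span_singleton_self π)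
        refine Module.Finite.of_surjective (Ideal.Quotient.liftₐ _ γ hγk).toLinearMap fun y => ?_
        obtain ⟨x, rfl⟩ := hγ y
        exact ⟨Ideal.Quotient.mk _ x, rfl⟩
      infer_instance
    haveI : Algebra.QuasiFiniteAt R q := Algebra.QuasiFiniteAt.of_weaklyQuasiFiniteAt q
    haveI := GrothLib.Hensel.finite_localization_of_quasiFiniteAt (R := R) q
    exact Module.Finite.equiv e.symm.toLinearEquiv
  -- and free of rank `ℓ`
  have hinj : ∀ (r : R) (x : B), r • x = 0 → r = 0 ∨ x = 0 := fun r x hrx => by
    by_cases hr : r = 0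
    · exact .inl hr
    refine .inr ?_
    obtain ⟨e, he⟩ := IsDiscreteValuationRing.associated_pow_irreducible hr hπ
    obtain ⟨u, hu⟩ := he
    obtain ⟨x, rfl⟩ := Ideal.Quotient.mk_surjective x
    rw [Algebra.smul_def, IsScalarTower.algebraMap_apply R S B] at hrx
    change Ideal.Quotient.mk J (algebraMap R S r) * Ideal.Quotient.mk J x = 0 at hrx
    rw [← map_mul, Ideal.Quotient.eq_zero_iff_mem] at hrx
    refine Ideal.Quotient.eq_zero_iff_mem.2 ?_
    have h2 : πS ^ e * x ∈ J := by
      rw [show πS ^ e = algebraMap R S ↑u * algebraMap R S r by rw [← map_mul, ← map_pow, ← hu, mul_comm], mul_assoc]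
      exact J.mul_mem_left _ hrx
    clear hu hrx
    induction e with
    | zero => simpa using h2
    | succ e ih => exact ih (hJ _ (by rwa [← mul_assoc, ← pow_succ']))
  haveI : NoZeroSMulDivisors R B := ⟨fun {r x} => hinj r x⟩
  haveI : Module.Free R B := Module.free_of_finite_type_torsion_free'
  have hrank : Module.finrank R B = ℓ := by
    have h1 := DvrTors.length_quotient_range hπ B
    rw [Module.finrank_baseChange] at h1
    have h2 : Module.length R (B ⧸ LinearMap.range (LinearMap.lsmul R B π)) = ℓ := by
      rw [← hlenR]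
      let δ : S →ₗ[R] B ⧸ LinearMap.range (LinearMap.lsmul R B π) :=
        (Submodule.mkQ _).comp (Ideal.Quotient.mkₐ R J).toLinearMap
      have hδ : Function.Surjective δ := (Submodule.mkQ_surjective _).comp Ideal.Quotient.mk_surjective
      have hkerδ : LinearMap.ker δ = (J ⊔ Ideal.span {πS}).restrictScalars R := by
        ext x
        simp only [δ, LinearMap.mem_ker, LinearMap.comp_apply, Submodule.mkQ_apply, Submodule.Quotient.mk_eq_zero,
          LinearMap.mem_range, Submodule.restrictScalars_mem, AlgHom.toLinearMap_apply, LinearMap.lsmul_apply]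
        constructor
        · rintro ⟨y, hy⟩
          obtain ⟨y, rfl⟩ := Ideal.Quotient.mk_surjective y
          rw [Algebra.smul_def] at hy
          change Ideal.Quotient.mk J πS * Ideal.Quotient.mk J y = Ideal.Quotient.mk J x at hy
          rw [← map_mul, Ideal.Quotient.eq] at hy
          rw [← sub_sub_cancel (πS * y) x]
          exact sub_mem (Ideal.mem_sup_right (Ideal.mul_mem_right _ _ (Ideal.mem_span_singleton_self _)))
            (Ideal.mem_sup_left hy)
        · intro hx
          obtain ⟨j, hj, z, hz, rfl⟩ := Submodule.mem_sup.1 hx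
          obtain ⟨v, rfl⟩ := Ideal.mem_span_singleton'.1 hz
          refine ⟨Ideal.Quotient.mk J v, ?_⟩
          rw [Algebra.smul_def]
          show Ideal.Quotient.mk J πS * Ideal.Quotient.mk J v = Ideal.Quotient.mk J (j + v * πS)
          rw [← map_mul, Ideal.Quotient.eq, show πS * v - (j + v * πS) = -j by ring]
          exact neg_mem hj
      exact ((δ.quotKerEquivOfSurjective hδ).symm.trans
        ((Submodule.quotEquivOfEq _ _ hkerδ).trans (Submodule.Quotient.restrictScalarsEquiv R _))).length_eq
    rw [h2] at h1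
    exact_mod_cast h1.symm
  rw [← hrank, ← Module.finrank_baseChange (R := FractionRing R) (M' := B)]
  refine finrank_mem_of_forall G (FractionRing R ⊗[R] B) fun L _ _ _ φ => ?_
  letI : Algebra R L := ((algebraMap (FractionRing R) L).comp (algebraMap R (FractionRing R))).toAlgebra
  haveI : IsScalarTower R (FractionRing R) L := IsScalarTower.of_algebraMap_eq fun _ => rfl
  exact hG L (((φ.restrictScalars R).comp Algebra.TensorProduct.includeRight).comp
    ((Ideal.Quotient.mkₐ R J).comp (IsScalarTower.toAlgHom R A S)))

/-- The length of a quotient of a localisation is computed in the localisation. -/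
theorem length_self_of_surjective {A : Type u} [CommRing A] (P : Ideal A) [P.IsPrime] {T W : Type u} [CommRing T]
    [CommRing W] [Algebra A T] [IsLocalization.AtPrime T P] (φ : T →+* W) (hφ : Function.Surjective φ) (I : Ideal A)
    (hker : RingHom.ker φ = I.map (algebraMap A T)) :
    Module.length W W = Module.length (Localization.AtPrime P) (Localization.AtPrime P ⧸ I.map (algebraMap A (Localization.AtPrime P))) := by
  let e : T ≃ₐ[A] Localization.AtPrime P := IsLocalization.algEquiv P.primeCompl _ _
  have h1 : (T ⧸ I.map (algebraMap A T)) ≃+* (Localization.AtPrime P ⧸ I.map (algebraMap A (Localization.AtPrime P))) :=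
    Ideal.quotientEquiv _ _ e.toRingEquiv (by
      rw [Ideal.map_map]
      congr 1
      exact (RingHom.ext fun a => (e.commutes a).symm))
  let e2 : W ≃+* (Localization.AtPrime P ⧸ I.map (algebraMap A (Localization.AtPrime P))) :=
    ((RingHom.quotientKerEquivOfSurjective hφ).symm.trans (Ideal.quotEquivOfEq hker)).trans h1
  rw [Module.length_eq_of_surjective (R := Localization.AtPrime P ⧸ I.map (algebraMap A (Localization.AtPrime P)))
    Ideal.Quotient.mk_surjective]
  letI := e2.toRingHom.toAlgebra
  have h2 := Module.length_eq_of_surjective (M := Localization.AtPrime P ⧸ I.map (algebraMap A (Localization.AtPrime P)))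
    (R := Localization.AtPrime P ⧸ I.map (algebraMap A (Localization.AtPrime P))) (S := W) e2.surjective
  rw [← h2]
  exact ((AlgEquiv.ofRingEquiv (f := e2) fun _ => rfl : W ≃ₐ[W] _)).toLinearEquiv.length_eq

end GrothLib.ArSurf29
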