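import Mathlib.AlgebraicGeometry.Morphisms.Flat
import Mathlib.AlgebraicGeometry.Pullbacks
import Mathlib.RingTheory.LocalRing.Length
import Mathlib.RingTheory.Spectrum.Prime.Homeomorph
import Mathlib.FieldTheory.IsAlgClosed.AlgebraicClosure
import Mathlib.RingTheory.TensorProduct.Finite
import Mathlib.RingTheory.Flat.Basic
import Mathlib.RingTheory.TensorProduct.Nontrivial

/-!
# Lengths over the algebraic closure and purely inseparable constants
-/

set_option autoImplicit false
set_option linter.all false
set_option backward.isDefEq.respectTransparency false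

universe u

open CategoryTheory CategoryTheory.Limits AlgebraicGeometry IsLocalRing TensorProduct

noncomputable section

namespace GrothLib.ArSurf29

variable (k K κ : Type u) [Field k] [Field K] [Field κ] [Algebra k K] [Algebra k κ] [IsPurelyInseparable k κ]

theorem subsingleton_primeSpectrum_tensor : Subsingleton (PrimeSpectrum (K ⊗[k] κ)) :=
  (PrimeSpectrum.isHomeomorph_comap_of_isPurelyInseparable k κ K).bijective.1.subsingleton

theorem isLocalRing_tensor : IsLocalRing (K ⊗[k] κ) := by
  haveI : Nontrivial (K ⊗[k] κ) :=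
    Algebra.TensorProduct.nontrivial_of_algebraMap_injective_of_isDomain k K κ (RingHom.injective _) (RingHom.injective _)
  haveI := subsingleton_primeSpectrum_tensor k K κ
  obtain ⟨m, hm⟩ := Ideal.exists_maximal (K ⊗[k] κ)
  refine IsLocalRing.of_unique_max_ideal ⟨m, hm, fun P hP => ?_⟩
  exact congrArg PrimeSpectrum.asIdeal
    (Subsingleton.elim (⟨P, hP.isPrime⟩ : PrimeSpectrum (K ⊗[k] κ)) ⟨m, hm.isPrime⟩)

variable [FiniteDimensional k κ] [IsAlgClosed K]

theorem length_tensor : haveI := isLocalRing_tensor k K κ
    Module.length (K ⊗[k] κ) (K ⊗[k] κ) = Module.finrank k κ := by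
  haveI := isLocalRing_tensor k K κ
  have h := IsLocalRing.length_restrictScalars K (K ⊗[k] κ) (K ⊗[k] κ)
  haveI : Algebra.IsIntegral K (K ⊗[k] κ) := Algebra.IsIntegral.of_finite K _
  haveI : Algebra.IsIntegral K (ResidueField (K ⊗[k] κ)) :=
    Algebra.IsIntegral.of_surjective (IsScalarTower.toAlgHom K (K ⊗[k] κ) (ResidueField (K ⊗[k] κ))) residue_surjective
  have hb := IsAlgClosed.algebraMap_bijective_of_isIntegral (k := K) (K := ResidueField (K ⊗[k] κ))
  have hr : Module.length (ResidueField K) (ResidueField (K ⊗[k] κ)) = 1 := by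
    have hsur : Function.Surjective (algebraMap K (ResidueField K)) := residue_surjective
    rw [← Module.length_eq_of_surjective (S := K) (M := ResidueField (K ⊗[k] κ)) hsur,
      Module.length_eq_finrank, ← (LinearEquiv.ofBijective (Algebra.linearMap K (ResidueField (K ⊗[k] κ))) hb).finrank_eq,
      Module.finrank_self, Nat.cast_one]
  rw [hr, mul_one, Module.length_eq_finrank, Module.finrank_baseChange] at h
  exact h.symm

end GrothLib.ArSurf29

namespace GrothLib.ArSurf29

variable {k : Type u} [Field k] {κ : Type u} [Field κ] [Algebra k κ] [FiniteDimensional k κ] [IsPurelyInseparable k κ]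
  {K : Type u} [Field K] [Algebra k K] [IsAlgClosed K]

/-- Lengths of local rings over the algebraic closure are multiples of a purely inseparable degree of constants. -/
theorem finrank_dvd_length {Z Xb : Scheme.{u}} (π : Z ⟶ Spec (CommRingCat.of κ)) {p : Xb ⟶ Z}
    {q : Xb ⟶ Spec (CommRingCat.of K)}
    (H : IsPullback p q (π ≫ Spec.map (CommRingCat.ofHom (algebraMap k κ))) (Spec.map (CommRingCat.ofHom (algebraMap k K))))
    (x : Xb) : Module.finrank k κ ∣ (Module.length (Xb.presheaf.stalk x) (Xb.presheaf.stalk x)).toNat := by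
  haveI := isLocalRing_tensor k K κ
  have S := (isPullback_SpecMap_of_isPushout _ _ _ _ (CommRingCat.isPushout_tensorProduct k K κ)).flip
  let h : Xb ⟶ Spec (CommRingCat.of (K ⊗[k] κ)) := S.lift (p ≫ π) q (by rw [Category.assoc, H.w])
  have Ht := IsPullback.of_bot' H S
  haveI : Flat h := MorphismProperty.of_isPullback (P := @Flat) Ht (inferInstance : Flat π)
  let A := (Spec (CommRingCat.of (K ⊗[k] κ))).presheaf.stalk (h x)
  let C := Xb.presheaf.stalk x
  letI : Algebra A C := (h.stalkMap x).hom.toAlgebra
  haveI : Module.Flat A C := Flat.stalkMap h x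
  haveI : IsLocalHom (algebraMap A C) := inferInstanceAs (IsLocalHom (h.stalkMap x).hom)
  have hlen := IsLocalRing.length_baseChange A C A
  rw [(AlgebraTensorModule.rid A C C).length_eq] at hlen
  have hA : Module.length A A = Module.finrank k κ := by
    letI : Algebra (K ⊗[k] κ) A := StructureSheaf.stalkAlgebra (R := K ⊗[k] κ) (h x)
    haveI : IsLocalization.AtPrime A (h x).asIdeal := StructureSheaf.IsLocalization.to_stalk _ _
    have hmax : (h x).asIdeal = maximalIdeal (K ⊗[k] κ) := by
      haveI := subsingleton_primeSpectrum_tensor k K κ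
      exact congrArg PrimeSpectrum.asIdeal (Subsingleton.elim (α := PrimeSpectrum (K ⊗[k] κ)) (h x) ⟨maximalIdeal (K ⊗[k] κ), inferInstance⟩)
    have hbij : Function.Bijective (algebraMap (K ⊗[k] κ) A) := by
      refine (IsLocalization.atUnits (K ⊗[k] κ) (h x).asIdeal.primeCompl (S := A) fun y hy => ?_).bijective
      rw [Ideal.mem_primeCompl_iff, hmax] at hy
      exact IsLocalRing.notMem_maximalIdeal.1 hy
    rw [← length_tensor k K κ, ← Module.length_eq_of_surjective (S := K ⊗[k] κ) (M := A) hbij.2]
    exact (LinearEquiv.ofBijective (Algebra.linearMap (K ⊗[k] κ) A) hbij).length_eq.symm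
  rw [hlen, hA, ENat.toNat_mul, ENat.toNat_coe]
  exact dvd_mul_right _ _

end GrothLib.ArSurf29
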