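import Groth.Agent.Lib.ArSurf29.Global
import Groth.Agent.Lib.ArSurf29.RelMinExists
import Groth.Agent.Lib.AlgSp.DimFormula
import Groth.Agent.Lib.AlgSp.FieldFibreDim
import Groth.Agent.Lib.Altitude.Fibre
import Groth.Agent.Lib.Ref1.Connected
import Groth.Agent.Lib.Ref1.Extend
import Groth.Prelude.Def_Curve

/-!
# A regular proper model of a curve is an integral surface
-/

universe u

set_option autoImplicit false
set_option linter.all false
set_option backward.isDefEq.respectTransparency false

open CategoryTheory CategoryTheory.Limits AlgebraicGeometry TopologicalSpace IsLocalRing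

noncomputable section

namespace GrothLib.ArSurf29

variable {R : Type u} [CommRing R] [IsDomain R] [IsDiscreteValuationRing R]
  {X : Over (Spec (CommRingCat.of R))} [Flat X.hom]
  {C : Scheme.{u}} {f : C ⟶ Spec (CommRingCat.of (FractionRing R))} {g : C ⟶ X.left}
  (hg : IsPullback g f X.hom (Spec.map (CommRingCat.ofHom (algebraMap R (FractionRing R)))))
  [IsIntegral C]

include hg in
theorem closure_range_generic : closure (Set.range g) = Set.univ := by
  refine Set.eq_univ_of_forall fun x => ?_
  obtain ⟨x', hx', he⟩ := Flat.generalizingMap X.hom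
    (genericPoint_specializes (X.hom x) : genericPoint (Spec (CommRingCat.of R)) ⤳ X.hom x)
  refine hx'.mem_closed isClosed_closure (subset_closure ?_)
  rw [range_generic hg]
  intro h
  have h1 : genericPoint (Spec (CommRingCat.of R)) = closedPoint R := he.symm.trans h
  have h2 := congrArg PrimeSpectrum.asIdeal h1
  rw [genericPoint_eq_bot_of_affine] at h2
  exact IsDiscreteValuationRing.not_a_field R h2.symm

variable [IsProper X.hom] (hX : Models.IsRegularScheme X.left)
include hg hX

theorem isIntegral_of_model : IsIntegral X.left := by
  haveI : IsLocallyNoetherian X.left := LocallyOfFiniteType.isLocallyNoetherian X.hom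
  haveI : CompactSpace X.left := QuasiCompact.compactSpace_of_compactSpace X.hom
  haveI : IsNoetherian X.left := {}
  haveI : Nonempty X.left := ⟨g (genericPoint C)⟩
  haveI : ConnectedSpace X.left := by
    refine connectedSpace_iff_univ.2 ?_
    rw [← closure_range_generic hg]
    exact (isConnected_range g.continuous).closure
  refine GrothLib.Ref1.isIntegral_of_connected fun x => ?_
  haveI := hX x
  exact CMFree.isDomain_of_isRegularLocalRing (X.left.presheaf.stalk x)

omit hX in
theorem genericPoint_eq [IsIntegral X.left] : g (genericPoint C) = genericPoint X.left := by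
  refine ((genericPoint_spec X.left).eq ?_).symm
  have h1 := (genericPoint_spec C).image g.continuous
  rwa [Set.image_univ, closure_range_generic hg] at h1

/-- The local rings of a regular proper model have dimension at most two. -/
theorem dim_le_two_of_model (hC : topologicalKrullDim C ≤ 1) : topologicalKrullDim X.left ≤ 2 := by
  haveI := isIntegral_of_model hg hX
  haveI : IsLocallyNoetherian X.left := LocallyOfFiniteType.isLocallyNoetherian X.hom
  rw [GrothLib.AlgSp.topologicalKrullDim_eq_iSup_stalk]
  refine iSup_le fun x => ?_
  obtain ⟨n, hn, -⟩ := GrothLib.Altitude.exists_trdeg_eq_dim_closure X.hom x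
  obtain ⟨m, hm, hmdim⟩ := GrothLib.Altitude.exists_trdeg_eq_dim_closure X.hom (genericPoint X.left)
  have hm1 : m ≤ 1 := by
    haveI := isOpenImmersion_generic hg
    let F := X.hom.fiber (X.hom (genericPoint X.left))
    let ι := X.hom.fiberι (X.hom (genericPoint X.left))
    have hsub : ∀ z : F, ι z ∈ Set.range g := fun z => by
      rw [range_generic hg]
      intro hz
      have h1 : ι z ∈ X.hom ⁻¹' {X.hom (genericPoint X.left)} := (X.hom.range_fiberι _).le ⟨z, rfl⟩
      have h2 : genericPoint X.left ∈ Models.specialFibreSet R X := (Eq.symm h1).trans hz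
      rw [← genericPoint_eq hg] at h2
      exact (range_generic hg).le ⟨genericPoint C, rfl⟩ h2
    choose φ hφ using hsub
    have hind : Topology.IsInducing (g ∘ φ) := by
      rw [show g ∘ φ = ι from funext hφ]
      exact ι.isEmbedding.isInducing
    have hφc : Continuous φ := g.isEmbedding.isInducing.continuous_iff.2 (by
      rw [show g ∘ φ = ι from funext hφ]
      exact ι.continuous)
    have h3 : (m : WithBot ℕ∞) ≤ 1 := by
      rw [← hmdim]
      exact Topology.IsInducing.subtypeVal.topologicalKrullDim_le.trans
        ((Topology.IsInducing.of_comp hφc g.continuous hind).topologicalKrullDim_le.trans hC)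
    exact_mod_cast h3
  have hcomp : ∀ ξ : X.left, closure {ξ} ∈ irreducibleComponents ↥X.left → ξ = genericPoint X.left := fun ξ hξ => by
    rw [irreducibleComponents_eq_singleton, Set.mem_singleton_iff] at hξ
    exact (genericPoint_spec X.left).eq hξ |>.symm
  have h := GrothLib.DimFormula.ringKrullDim_stalk_add_trdeg_le X.hom x n 1 hn fun ξ hξ _ => by
    rw [hcomp ξ hξ, hm]
    exact_mod_cast hm1
  have hR : ringKrullDim ((Spec (CommRingCat.of R)).presheaf.stalk (X.hom x)) ≤ 1 :=
    (GrothLib.Ref1.ringKrullDim_stalk_le_topologicalKrullDim _).trans (by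
      rw [show topologicalKrullDim (Spec (CommRingCat.of R)) = ringKrullDim R from
        PrimeSpectrum.topologicalKrullDim_eq_ringKrullDim R]
      exact le_of_eq (IsDiscreteValuationRing.ringKrullDim_eq_one R))
  refine le_trans (le_add_of_nonneg_right (by simp)) (h.trans (le_trans (add_le_add hR le_rfl) ?_))
  norm_num

theorem dim_eq_two_of_model (hC : topologicalKrullDim C = 1) (hproper : IsProper f) :
    topologicalKrullDim X.left = 2 := by
  refine le_antisymm (dim_le_two_of_model hg hX hC.le) ?_
  haveI := isIntegral_of_model hg hX
  haveI := isOpenImmersion_generic hg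
  haveI : CompactSpace C := QuasiCompact.compactSpace_of_compactSpace f
  haveI : QuasiSober C := inferInstance
  obtain ⟨c, -, hc⟩ := IsClosed.exists_closed_singleton isClosed_univ (Set.univ_nonempty (α := C))
  have hne : genericPoint C ≠ c := fun h => CurvePoints.genericPoint_not_isClosed hC (h ▸ hc)
  obtain ⟨y, hy, hys⟩ : ∃ y, g c ⤳ y ∧ y ∈ Models.specialFibreSet R X := by
    obtain ⟨y, hy, hys⟩ := X.hom.isClosedMap.specializingMap
      (show X.hom (g c) ⤳ closedPoint R from IsLocalRing.specializes_closedPoint (X.hom (g c)))
    exact ⟨y, hy, hys⟩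
  have h1 : genericPoint X.left ⤳ g c := genericPoint_specializes _
  refine two_le_dim h1 hy (fun h => hne (g.isEmbedding.injective ((genericPoint_eq hg).trans h))) fun h => ?_
  exact (range_generic hg).le ⟨c, rfl⟩ (h ▸ hys)

end GrothLib.ArSurf29
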