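import Groth.Agent.Lib.ArSurf29.ExcTransport
import Groth.Agent.Lib.ArSurf29.ModelSurface
import Groth.Agent.Lib.ArSurf29.ExcMeet
import Groth.Agent.Lib.ArSurf29.Torsion
import Groth.Agent.Lib.ArSurf29.FibreComponents
import Groth.Agent.Lib.ExcP1.ElimApp
import Groth.Agent.Lib.ExcP1.Factor
import Groth.Agent.Lib.ExcP1.Universal
import Groth.Agent.Lib.Nagata6.Consequences
import Groth.Agent.Lib.Nagata6.UnionData
import Groth.Agent.Lib.CurvePoints.Basic
import Groth.Agent.Lib.ProperFib19.DVR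
import Groth.Prelude.Def_ModelsG

/-!
# Morphisms to a minimal model of a curve of positive genus
-/

universe u

set_option autoImplicit false
set_option linter.all false
set_option backward.isDefEq.respectTransparency false

open CategoryTheory CategoryTheory.Limits AlgebraicGeometry TopologicalSpace IsLocalRing

noncomputable section

namespace GrothLib.ArSurf29

variable {R : Type u} [CommRing R] [IsDomain R] [IsDiscreteValuationRing R]

local notation "base" => Spec.map (CommRingCat.ofHom (algebraMap R (FractionRing R)))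

/-- A regular proper flat scheme over `R` with an identification of its generic fibre. -/
structure IsMData {C : Scheme.{u}} (f : C ⟶ Spec (CommRingCat.of (FractionRing R))) (Z : Scheme.{u})
    (q : Z ⟶ Spec (CommRingCat.of R)) (g : C ⟶ Z) : Prop where
  proper : IsProper q
  flat : Flat q
  reg : Models.IsRegularScheme Z
  pb : IsPullback g f q (Spec.map (CommRingCat.ofHom (algebraMap R (FractionRing R))))

variable {C : Scheme.{u}} {f : C ⟶ Spec (CommRingCat.of (FractionRing R))} [IsIntegral C]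

namespace IsMData

variable {Z : Scheme.{u}} {q : Z ⟶ Spec (CommRingCat.of R)} {g : C ⟶ Z} (h : IsMData f Z q g)
include h

omit [IsIntegral C] in
theorem isNoetherian : IsNoetherian Z := by
  haveI := h.proper
  exact { toIsLocallyNoetherian := LocallyOfFiniteType.isLocallyNoetherian q,
          toCompactSpace := QuasiCompact.compactSpace_of_compactSpace q }

theorem isIntegral : IsIntegral Z := by
  haveI := h.proper
  haveI := h.flat
  haveI : Flat (Over.mk q).hom := h.flat
  haveI : IsProper (Over.mk q).hom := h.proper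
  exact isIntegral_of_model (X := Over.mk q) h.pb h.reg

theorem dim_eq (hC : topologicalKrullDim C = 1) (hf : IsProper f) : topologicalKrullDim Z = 2 := by
  haveI : Flat (Over.mk q).hom := h.flat
  haveI : IsProper (Over.mk q).hom := h.proper
  exact dim_eq_two_of_model (X := Over.mk q) h.pb h.reg hC hf

omit [IsIntegral C] in
theorem isOpenImmersion : IsOpenImmersion g := isOpenImmersion_generic (X := Over.mk q) h.pb

omit [IsIntegral C] in
theorem range_eq : Set.range g = (q ⁻¹' {closedPoint R})ᶜ := range_generic (X := Over.mk q) h.pb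

end IsMData

omit [IsIntegral C] in
/-- A morphism over an open immersion with trivial base change is an isomorphism over its image. -/
theorem isIso_restrict_opensRange {W X : Scheme.{u}} {a : C ⟶ W} {h : W ⟶ X} {j : C ⟶ X} [IsOpenImmersion j]
    (H : IsPullback a (𝟙 C) h j) : IsIso (h ∣_ j.opensRange) := by
  have h1 : IsIso (pullback.snd h j) := by
    have : pullback.snd h j = H.isoPullback.inv ≫ 𝟙 C := H.isoPullback_inv_snd.symm
    rw [this]
    infer_instance
  exact ((MorphismProperty.isomorphisms Scheme).arrow_mk_iso_iff (morphismRestrictOpensRange h j)).2 h1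

variable {X : Scheme.{u}} {p : X ⟶ Spec (CommRingCat.of R)} {gX : C ⟶ X}
  {Z : Scheme.{u}} {q : Z ⟶ Spec (CommRingCat.of R)} {g : C ⟶ Z}

omit [IsIntegral C] in
theorem isPullback_of_hom (hX : IsMData f X p gX) (hZ : IsMData f Z q g) (b : Z ⟶ X) (hb : b ≫ p = q)
    (hg : g ≫ b = gX) : IsPullback g (𝟙 C) b gX := by
  refine IsPullback.of_bot ?_ (by rw [hg, Category.id_comp]) hX.pb
  rw [hb, Category.id_comp]
  exact hZ.pb

/-- A morphism of models is a composite of contractions. -/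
theorem seq_of_hom (hC : topologicalKrullDim C = 1) (hf : IsProper f) (hX : IsMData f X p gX)
    (hZ : IsMData f Z q g) (b : Z ⟶ X) (hb : b ≫ p = q) (hg : g ≫ b = gX) : Models.IsContractionSeq b := by
  haveI := hX.isNoetherian; haveI := hX.isIntegral
  haveI := hZ.isNoetherian; haveI := hZ.isIntegral
  haveI := hX.proper
  haveI := hX.isOpenImmersion
  haveI : IsProper (b ≫ p) := hb ▸ hZ.proper
  haveI : IsProper b := IsProper.of_comp b p
  haveI := isIso_restrict_opensRange (isPullback_of_hom hX hZ b hb hg)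
  exact GrothLib.ExcP1.isContractionSeq_of_birational hZ.reg (hZ.dim_eq hC hf).le _ hX.reg b gX.opensRange
    ⟨gX (genericPoint C), ⟨_, rfl⟩⟩ inferInstance le_rfl

omit [IsIntegral C] in
theorem specialFibre_of_isClosed (hZ : IsMData f Z q g) {z : Z} (hz : IsClosed ({z} : Set Z)) :
    q z = closedPoint R := by
  haveI := hZ.proper
  have h := q.isClosedMap _ hz
  rw [Set.image_singleton] at h
  exact (IsLocalRing.specializes_closedPoint (q z)).mem_closed h rfl |>.symm

/-- A point blow-up of a model is a model. -/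
theorem mdata_step (hX : IsMData f X p gX) {E : Scheme.{u}} (ι : E ⟶ Z) (b : Z ⟶ X)
    (hb : Models.IsContractionOf ι b) : ∃ g : C ⟶ Z, IsMData f Z (b ≫ p) g ∧ g ≫ b = gX := by
  haveI := hX.isNoetherian; haveI := hX.isIntegral
  haveI := hX.proper; haveI := hX.flat
  haveI := hX.isOpenImmersion
  obtain ⟨-, hbp, y, hy, -, hyreg, hd, hblow⟩ := hb
  haveI := hbp; haveI := hyreg
  haveI := GrothLib.BlowUp.isIso_off_center hblow
  set J := Scheme.IdealSheafData.vanishingIdeal (⟨{y}, hy⟩ : Closeds X)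
  have hle : gX.opensRange ≤ J.support.compl := by
    intro x hx
    show x ∉ (J.support : Set X)
    rw [Scheme.IdealSheafData.coe_support_vanishingIdeal]
    intro (hxy : x = y)
    have hx' : x ∈ Set.range gX := hx
    rw [hX.range_eq] at hx'
    exact hx' (hxy ▸ specialFibre_of_isClosed hX hy)
  haveI := GrothLib.Nagata6.isIso_restrict_of_le b _ _ hle
  let g : C ⟶ Z := gX.isoOpensRange.hom ≫ inv (b ∣_ gX.opensRange) ≫ (b ⁻¹ᵁ gX.opensRange).ι
  have hgb : g ≫ b = gX := by
    simp only [g, Category.assoc, ← morphismRestrict_ι, IsIso.inv_hom_id_assoc]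
    exact gX.isoOpensRange_hom_ι
  have hpb : IsPullback g (𝟙 C) b gX := by
    refine IsPullback.of_iso (isPullback_morphismRestrict b gX.opensRange).flip
      ((asIso (b ∣_ gX.opensRange)) ≪≫ gX.isoOpensRange.symm) (Iso.refl Z) gX.isoOpensRange.symm (Iso.refl X)
      ?_ ?_ ?_ ?_
    · simp [g]
    · simp
    · simp
    · rw [Iso.symm_hom, Iso.eq_inv_comp, Iso.refl_hom, Category.comp_id]
      exact gX.isoOpensRange_hom_ι
  haveI : IsIntegral Z := GrothLib.ExcP1.integral_of_blowUp hy hd hblow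
  have hpbf := hpb.paste_vert hX.pb
  rw [Category.id_comp] at hpbf
  have hgen : (b ≫ p) (genericPoint Z) = genericPoint (Spec (CommRingCat.of R)) := by
    haveI : IsOpenImmersion g := by dsimp only [g]; infer_instance
    obtain ⟨c, hc⟩ : genericPoint Z ∈ Set.range g :=
      ((genericPoint_spec Z).mem_open_set_iff g.isOpenEmbedding.isOpen_range).2 (by
        simpa using Set.range_nonempty _)
    rw [← hc, ← Scheme.Hom.comp_apply, hpbf.w, Scheme.Hom.comp_apply,
      Subsingleton.elim (f c) (genericPoint _)]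
    refine PrimeSpectrum.ext ?_
    rw [genericPoint_eq_bot_of_affine, genericPoint_eq_bot_of_affine]
    exact Ideal.comap_bot_of_injective _ (IsFractionRing.injective R (FractionRing R))
  refine ⟨g, ⟨inferInstance, ?_, GrothLib.ExcP1.regular_of_blowUp hX.reg hy hd hblow, hpbf⟩, hgb⟩
  have hdR : topologicalKrullDim (Spec (CommRingCat.of R)) ≤ 1 := by
    rw [show topologicalKrullDim (Spec (CommRingCat.of R)) = ringKrullDim R from
      PrimeSpectrum.topologicalKrullDim_eq_ringKrullDim R]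
    exact (IsDiscreteValuationRing.ringKrullDim_eq_one R).le
  exact CurvePoints.flat_of_dominant hdR (fun x => (GrothLib.ProperFib19.isNormalScheme_spec R x).2) (b ≫ p) hgen

/-- The source of a contraction sequence over a model is a model. -/
theorem mdata_seq {W Z : Scheme.{u}} {r : W ⟶ Z} (hr : Models.IsContractionSeq r) :
    ∀ {q : Z ⟶ Spec (CommRingCat.of R)} {g : C ⟶ Z}, IsMData f Z q g →
      ∃ g' : C ⟶ W, IsMData f W (r ≫ q) g' ∧ g' ≫ r = g := by
  induction hr with
  | @iso Y X e =>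
    intro q g h
    refine ⟨g ≫ e.inv, ⟨?_, ?_, fun w => ?_, ?_⟩, by simp⟩
    · haveI := h.proper; infer_instance
    · haveI := h.flat; infer_instance
    · haveI := h.reg (e.hom w)
      exact IsRegularLocalRing.of_ringEquiv (R := X.presheaf.stalk (e.hom w))
        (asIso (e.hom.stalkMap w)).commRingCatIsoToRingEquiv
    · exact IsPullback.of_iso h.pb (Iso.refl C) e.symm (Iso.refl _) (Iso.refl _) (by simp) (by simp) (by simp) (by simp)
  | step ι b r hι hE hb hr ih =>
    intro q g h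
    obtain ⟨g₁, h₁, e₁⟩ := ih h
    obtain ⟨g₀, h₀, e₀⟩ := mdata_step h₁ ι b hb
    refine ⟨g₀, by rw [Category.assoc]; exact h₀, by rw [← Category.assoc, e₀, e₁]⟩

omit [IsIntegral C] in
theorem range_vertComp_eq {Y : Over (Spec (CommRingCat.of R))} (Γ Γ' : ArSurf.VertComp R Y)
    (h : Models.genPtOf R Y Γ = Models.genPtOf R Y Γ') : Set.range Γ.ι = Set.range Γ'.ι := by
  haveI := Γ.isClosedImmersion
  haveI := Γ.isIntegral
  haveI := Γ'.isClosedImmersion
  haveI := Γ'.isIntegral
  have key : ∀ D : ArSurf.VertComp R Y, IsClosedImmersion D.ι → IsIntegral D.curve.left →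
      closure {Models.genPtOf R Y D} = Set.range D.ι := fun D _ _ => by
    rw [Models.genPtOf, ← Set.image_singleton, D.ι.isClosedMap.closure_image_eq_of_continuous D.ι.continuous,
      genericPoint_closure, Set.image_univ]
  rw [← key Γ inferInstance inferInstance, ← key Γ' inferInstance inferInstance, h]

/-- Over a minimal model of a curve of positive genus every exceptional curve is contracted. -/
theorem contracted_of_seq (hC : topologicalKrullDim C = 1) (hf : IsProper f) (hH0 : IsIso f.appTop)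
    (hgen : 0 < Models.curveGenus (FractionRing R) C f)
    {W X : Scheme.{u}} {r : W ⟶ X} (hr : Models.IsContractionSeq r) :
    ∀ {p : X ⟶ Spec (CommRingCat.of R)} {gX : C ⟶ X}, IsMData f X p gX →
      (∀ Γ : ArSurf.VertComp R (Over.mk p), ¬ Models.IsExcCurve Γ.ι) →
      ∀ {q : W ⟶ Spec (CommRingCat.of R)}, r ≫ p = q →
      ∀ Γ : ArSurf.VertComp R (Over.mk q), Models.IsExcCurve Γ.ι → ∃ x : X, Set.range (Γ.ι ≫ r) = {x} := by
  induction hr with
  | @iso Y X e =>
    intro p gX hX hmin q hq Γ hΓ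
    exfalso
    haveI := hX.isNoetherian
    haveI : IsClosedImmersion (Y := Y) Γ.ι := Γ.isClosedImmersion
    haveI : IsIso (e.hom ∣_ (⊤ : X.Opens)) := inferInstance
    refine hmin ⟨Γ.curve, Γ.ι ≫ e.hom, inferInstanceAs (IsClosedImmersion (Γ.ι ≫ e.hom)), Γ.isIntegral,
      Γ.dim_eq, ?_⟩ (isExcCurve_comp_of_iso_over (Y := Y) Γ.ι e.hom ⊤ (fun _ => trivial) hΓ)
    show (Γ.ι ≫ e.hom) ≫ p = _
    rw [Category.assoc, hq]
    exact Γ.w
  | @step Y Z X E ι b r hι hE hb hr ih =>
    intro p gX hX hmin q hq Γ hΓ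
    haveI := hι
    obtain ⟨g₁, h₁, -⟩ := mdata_seq hr hX
    obtain ⟨g₀, h₀, -⟩ := mdata_step h₁ ι b hb
    obtain ⟨-, hbp, y, hy, hrange, hyreg, hd, hblow⟩ := hb
    haveI := hbp; haveI := hyreg
    haveI := h₁.isNoetherian
    haveI := h₀.isNoetherian
    rw [Category.assoc] at hq
    subst hq
    let YY : Over (Spec (CommRingCat.of R)) := Over.mk (b ≫ r ≫ p)
    haveI : IsProper YY.hom := h₀.proper
    haveI : Flat YY.hom := h₀.flat
    haveI : IsLocallyNoetherian YY.left := inferInstanceAs (IsLocallyNoetherian Y)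
    haveI : IsIntegral YY.left := h₀.isIntegral
    have hfib : ∀ e, YY.hom (ι e) = closedPoint R := fun e => by
      show (r ≫ p) (b (ι e)) = _
      rw [show b (ι e) = y from hrange.le ⟨e, rfl⟩]
      exact specialFibre_of_isClosed h₁ hy
    obtain ⟨F, hF, hFr⟩ := exists_vertComp_of_excCurve (X := YY) ι hE hfib
    haveI : IsClosedImmersion (Y := Y) Γ.ι := Γ.isClosedImmersion
    haveI := F.isClosedImmersion
    haveI := F.isIntegral
    by_cases hsame : Set.range Γ.ι = Set.range ι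
    · refine ⟨r y, Set.Subset.antisymm ?_ ?_⟩
      · rintro _ ⟨w, rfl⟩
        obtain ⟨v, hv⟩ := hsame.le ⟨w, rfl⟩
        show r (b (Γ.ι w)) ∈ ({r y} : Set X)
        rw [show Γ.ι w = ι v from hv.symm, show b (ι v) = y from hrange.le ⟨v, rfl⟩]
        rfl
      · rintro _ rfl
        obtain ⟨v, hv⟩ := hrange.ge (rfl : y = y)
        obtain ⟨w, hw⟩ := hsame.ge ⟨v, rfl⟩
        refine ⟨w, ?_⟩
        show r (b (Γ.ι w)) = r y
        rw [show Γ.ι w = ι v from hw, show b (ι v) = y from hv]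
    obtain ⟨n, L₀, hL₀⟩ := exists_componentList (X := YY) (h₀.dim_eq hC hf)
    obtain ⟨L, hL⟩ := exists_inverses (X := YY) h₀.reg hL₀
    obtain ⟨i, hi⟩ := exists_genPt_eq hL₀ F
    obtain ⟨j, hj⟩ := exists_genPt_eq hL₀ Γ
    have hri := (range_vertComp_eq _ _ hi).trans hFr
    have hrj := range_vertComp_eq _ _ hj
    haveI := (L₀ i).isClosedImmersion
    haveI := (L₀ i).isIntegral
    haveI := (L₀ j).isClosedImmersion
    haveI := (L₀ j).isIntegral
    haveI := Γ.isIntegral
    have hei : Models.IsExcCurve (L₀ i).ι := isExcCurve_of_range_eq F.ι _ hF (hri.trans hFr.symm)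
    have hej : Models.IsExcCurve (L₀ j).ι := isExcCurve_of_range_eq (Y := YY.left) Γ.ι _ hΓ hrj
    have hij : i ≠ j := fun e => hsame (by subst e; exact hrj.symm.trans hri)
    have hdisj : Disjoint (Set.range Γ.ι) (Set.range ι) := by
      by_contra hmeet
      have hmeet : ¬ Disjoint (Set.range (L₀ j).ι) (Set.range (L₀ i).ι) := fun hd' => hmeet (by
        rw [Set.disjoint_left] at hd' ⊢
        exact fun a h1 h2 => hd' (hrj.ge h1) (hri.ge h2))
      exact absurd (excCurves_meet (X := YY) h₀.reg hL₀ hL h₀.pb hH0 j i hij.symm hej hei hmeet).2.2.2.2.2 (by omega)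
    obtain ⟨-, k, _, e, -⟩ := id hE
    have hfibre := GrothLib.ExcP1.range_eq_fibre hy hd hblow ι k e hrange
    let V : Z.Opens := ⟨{y}ᶜ, hy.isOpen_compl⟩
    haveI : IsIso (b ∣_ V) := by
      have h := GrothLib.BlowUp.isIso_off_center hblow
      rwa [show (Scheme.IdealSheafData.vanishingIdeal (⟨{y}, hy⟩ : Closeds Z)).support.compl = V from Opens.ext (by
        show ((Scheme.IdealSheafData.vanishingIdeal (⟨{y}, hy⟩ : Closeds Z)).support : Set Z)ᶜ = {y}ᶜ
        rw [Scheme.IdealSheafData.coe_support_vanishingIdeal]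
        rfl)] at h
    have hV : ∀ w, b (Γ.ι w) ∈ V := fun w (hw : b (Γ.ι w) = y) =>
      Set.disjoint_left.1 hdisj ⟨w, rfl⟩ (hfibre.ge hw)
    haveI := isClosedImmersion_comp_of_iso_over (Y := Y) Γ.ι b V hV
    let Γ' : ArSurf.VertComp R (Over.mk (r ≫ p)) :=
      ⟨Γ.curve, Γ.ι ≫ b, inferInstanceAs (IsClosedImmersion (Γ.ι ≫ b)), Γ.isIntegral, Γ.dim_eq, by
        show (Γ.ι ≫ b) ≫ r ≫ p = _
        rw [Category.assoc]
        exact Γ.w⟩
    obtain ⟨x, hx⟩ := ih hX hmin rfl Γ' (isExcCurve_comp_of_iso_over (Y := Y) Γ.ι b V hV hΓ)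
    refine ⟨x, Eq.trans ?_ hx⟩
    rfl

/-- Morphisms to a minimal model descend along contractions. -/
theorem exists_desc (hC : topologicalKrullDim C = 1) (hf : IsProper f) (hH0 : IsIso f.appTop)
    (hgen : 0 < Models.curveGenus (FractionRing R) C f) (hX : IsMData f X p gX)
    (hmin : ∀ Γ : ArSurf.VertComp R (Over.mk p), ¬ Models.IsExcCurve Γ.ι)
    {W Y : Scheme.{u}} {r : W ⟶ Y} (hr : Models.IsContractionSeq r) :
    ∀ {q : Y ⟶ Spec (CommRingCat.of R)} {gY : C ⟶ Y}, IsMData f Y q gY →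
      ∀ (gW : C ⟶ W), IsMData f W (r ≫ q) gW → gW ≫ r = gY →
      ∀ (h : W ⟶ X), h ≫ p = r ≫ q → gW ≫ h = gX → ∃ b : Y ⟶ X, b ≫ p = q ∧ gY ≫ b = gX := by
  induction hr with
  | @iso A B e =>
    intro q gY hY gW hW hg h hh hgh
    exact ⟨e.inv ≫ h, by rw [Category.assoc, hh, e.inv_hom_id_assoc],
      by rw [← hg, Category.assoc, e.hom_inv_id_assoc, hgh]⟩
  | @step A B D E ι b r hι hE hb hr ih =>
    intro q gY hY gW hW hg h hh hgh
    haveI := hι
    obtain ⟨gB, hB, hgB⟩ := mdata_seq hr hY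
    have hseq := seq_of_hom hC hf hX hW h hh hgh
    obtain ⟨-, hbp, y, hy, hrange, hyreg, hd, hblow⟩ := id hb
    haveI := hyreg
    haveI := hB.isNoetherian
    haveI := hW.isNoetherian
    let WW : Over (Spec (CommRingCat.of R)) := Over.mk ((b ≫ r) ≫ q)
    have hfib : ∀ e, WW.hom (ι e) = closedPoint R := fun e => by
      show (r ≫ q) (b (ι e)) = _
      rw [show b (ι e) = y from hrange.le ⟨e, rfl⟩]
      exact specialFibre_of_isClosed hB hy
    obtain ⟨F, hF, hFr⟩ := exists_vertComp_of_excCurve (X := WW) ι hE hfib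
    obtain ⟨x, hx⟩ := contracted_of_seq hC hf hH0 hgen hseq hX hmin hh F hF
    obtain ⟨-, k, _, e, -⟩ := id hE
    have hfibre := GrothLib.ExcP1.range_eq_fibre hy hd hblow ι k e hrange
    obtain ⟨e₀, he₀⟩ : ∃ a, (ι ≫ b) a = y := hrange.ge rfl
    have hφ : ∀ a, b a = y → h a = x := fun a ha => by
      obtain ⟨w, hw⟩ : a ∈ Set.range F.ι := hFr ▸ hfibre.ge ha
      exact hx.le ⟨w, congrArg h hw⟩
    obtain ⟨ψ, hψ, -⟩ := GrothLib.ExcP1.existsUnique_factor hy hd hblow h x ⟨ι e₀, he₀⟩ hφ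
    have huniq := GrothLib.ExcP1.existsUnique_factor hy hd hblow (h ≫ p) (closedPoint R) ⟨ι e₀, he₀⟩ fun a ha => by
      rw [hh]
      show (r ≫ q) (b a) = _
      rw [ha]
      exact specialFibre_of_isClosed hB hy
    have hψp : ψ ≫ p = r ≫ q := huniq.unique (by show b ≫ ψ ≫ p = _; rw [reassoc_of% hψ])
      (by show b ≫ r ≫ q = _; rw [hh, Category.assoc])
    obtain ⟨g₀, h₀, hg₀⟩ := mdata_step hB ι b hb
    have hgW : gW ≫ b = gB := by
      have hpb := isPullback_of_hom hY hB r rfl hgB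
      have h1 := hpb.lift_fst (gW ≫ b) (𝟙 C) (by rw [Category.assoc, hg, Category.id_comp])
      have h2 := hpb.lift_snd (gW ≫ b) (𝟙 C) (by rw [Category.assoc, hg, Category.id_comp])
      rw [Category.comp_id] at h2
      rw [h2, Category.id_comp] at h1
      exact h1.symm
    exact ih hY gB hB hgB ψ hψp (by rw [← hgW, Category.assoc, hψ, hgh])

omit [IsIntegral C] in
/-- A rational map from a regular surface to a proper scheme extends after point blow-ups. -/
theorem exists_seq_extend {S Y X : Scheme.{u}} (q : Y ⟶ S) (p : X ⟶ S) [IsProper p] [IsNoetherian Y] [IsIntegral Y]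
    (hreg : ∀ y : Y, IsRegularLocalRing (Y.presheaf.stalk y)) (hdim : topologicalKrullDim Y ≤ 2)
    (U : Y.Opens) (hU : (U : Set Y).Nonempty) (φ : (U : Scheme.{u}) ⟶ X) (hφ : φ ≫ p = U.ι ≫ q) :
    ∃ (W : Scheme.{u}) (r : W ⟶ Y) (h : W ⟶ X), Models.IsContractionSeq r ∧ h ≫ p = r ≫ q ∧
      (r ⁻¹ᵁ U).ι ≫ h = (r ∣_ U) ≫ φ := by
  let P := pullback q p
  let s : (U : Scheme.{u}) ⟶ P := pullback.lift U.ι φ hφ.symm
  let f' : P ⟶ ((⊤ : Y.Opens) : Scheme.{u}) := pullback.fst q p ≫ Y.topIso.inv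
  obtain ⟨I, S', b, hb, hI, s', hs', hag⟩ := GrothLib.Nagata6.extend_section U ⊤ le_top
    (NoetherianSpace.isCompact _) (NoetherianSpace.isCompact _) f' s (by
      rw [← cancel_mono (⊤ : Y.Opens).ι, Scheme.homOfLE_ι]
      simp only [s, f', Category.assoc, pullback.lift_fst_assoc]
      simp)
  have hI0 : I ≠ ⊥ := by
    intro h
    obtain ⟨x, hx⟩ := hU
    refine Set.disjoint_left.1 hI.2 ?_ hx
    rw [h, Scheme.IdealSheafData.support_bot]
    trivial
  obtain ⟨W, r, hr, hrc⟩ := GrothLib.ExcP1.exists_seq_surface hI0 hreg hdim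
  obtain ⟨k, hk, -⟩ := hb.2 W r hrc
  let t : S' ⟶ ((b ⁻¹ᵁ ⊤ : S'.Opens) : Scheme.{u}) := S'.topIso.inv
  have htι : t ≫ (b ⁻¹ᵁ ⊤).ι = 𝟙 S' := S'.topIso.inv_hom_id
  refine ⟨W, r, k ≫ t ≫ s' ≫ pullback.snd q p, hr, ?_, ?_⟩
  · have h1 : s' ≫ pullback.fst q p = (b ⁻¹ᵁ ⊤).ι ≫ b := by
      have := congrArg (fun m => m ≫ (⊤ : Y.Opens).ι) hs'
      rw [← morphismRestrict_ι]
      simpa [f'] using this
    have h2 : t ≫ s' ≫ pullback.fst q p = b := by
      rw [h1, ← Category.assoc, htι, Category.id_comp]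
    simp only [Category.assoc]
    rw [← pullback.condition, reassoc_of% h2, reassoc_of% hk]
  · have hle : r ⁻¹ᵁ U ≤ k ⁻¹ᵁ (b ⁻¹ᵁ U) := by rw [← Scheme.Hom.comp_preimage, hk]
    have h1 : S'.homOfLE (show b ⁻¹ᵁ U ≤ b ⁻¹ᵁ ⊤ from fun _ _ => trivial) = (b ⁻¹ᵁ U).ι ≫ t := by
      rw [← cancel_mono (b ⁻¹ᵁ ⊤).ι, Scheme.homOfLE_ι, Category.assoc, htι, Category.comp_id]
    have h2 := congrArg (fun m => m ≫ pullback.snd q p) hag
    simp only [Category.assoc, s, pullback.lift_snd, h1] at h2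
    let k' : ((r ⁻¹ᵁ U : W.Opens) : Scheme.{u}) ⟶ ((b ⁻¹ᵁ U : S'.Opens) : Scheme.{u}) := k.resLE _ _ hle
    have h3 : (r ⁻¹ᵁ U).ι ≫ k = k' ≫ (b ⁻¹ᵁ U).ι := (Scheme.Hom.resLE_comp_ι k hle).symm
    rw [reassoc_of% h3, h2, ← Category.assoc]
    congr 1
    rw [← cancel_mono U.ι, Category.assoc, morphismRestrict_ι, morphismRestrict_ι, ← reassoc_of% h3, hk]

/-- Two morphisms of models to the same model are equal. -/
theorem hom_unique (hX : IsMData f X p gX) (hZ : IsMData f Z q g) {b b' : Z ⟶ X} (hb : b ≫ p = q)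
    (hg : g ≫ b = gX) (hb' : b' ≫ p = q) (hg' : g ≫ b' = gX) : b = b' := by
  haveI := hX.proper
  haveI := hZ.isIntegral
  haveI := hZ.flat; haveI : IsProper q := hZ.proper
  haveI : Flat (Over.mk q).hom := hZ.flat
  haveI : IsDominant g := ⟨dense_iff_closure_eq.2 (closure_range_generic (X := Over.mk q) hZ.pb)⟩
  exact ext_of_isDominant_of_isSeparated p (by rw [hb, hb']) g (by rw [hg, hg'])

/-- A model maps to every minimal model of a curve of positive genus. -/
theorem exists_hom (hC : topologicalKrullDim C = 1) (hf : IsProper f) (hH0 : IsIso f.appTop)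
    (hgen : 0 < Models.curveGenus (FractionRing R) C f) (hX : IsMData f X p gX)
    (hmin : ∀ Γ : ArSurf.VertComp R (Over.mk p), ¬ Models.IsExcCurve Γ.ι) (hZ : IsMData f Z q g) :
    ∃ b : Z ⟶ X, b ≫ p = q ∧ g ≫ b = gX := by
  haveI := hX.proper
  haveI := hZ.isNoetherian; haveI := hZ.isIntegral
  haveI := hZ.isOpenImmersion
  obtain ⟨W, r, h, hr, hh, hag⟩ := exists_seq_extend q p hZ.reg (hZ.dim_eq hC hf).le g.opensRange
    ⟨g (genericPoint C), ⟨_, rfl⟩⟩ (g.isoOpensRange.inv ≫ gX) (by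
      rw [Category.assoc, hX.pb.w, ← hZ.pb.w, ← Category.assoc]
      congr 1
      rw [Iso.inv_comp_eq]
      exact g.isoOpensRange_hom_ι.symm)
  obtain ⟨gW, hW, hgW⟩ := mdata_seq hr hZ
  refine exists_desc hC hf hH0 hgen hX hmin hr hZ gW hW hgW h hh ?_
  have hr' : Set.range gW ⊆ Set.range (r ⁻¹ᵁ g.opensRange).ι := by
    rw [Scheme.Opens.range_ι]
    rintro _ ⟨c, rfl⟩
    exact ⟨c, congrArg (fun m => m c) hgW.symm⟩
  let l := IsOpenImmersion.lift (r ⁻¹ᵁ g.opensRange).ι gW hr'
  have hl : l ≫ (r ⁻¹ᵁ g.opensRange).ι = gW := IsOpenImmersion.lift_fac _ _ _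
  have hl' : l ≫ (r ∣_ g.opensRange) = g.isoOpensRange.hom := by
    rw [← cancel_mono g.opensRange.ι, Category.assoc, morphismRestrict_ι, reassoc_of% hl, hgW]
    exact g.isoOpensRange_hom_ι.symm
  rw [← hl, Category.assoc, hag, reassoc_of% hl', Iso.hom_inv_id_assoc]

end GrothLib.ArSurf29
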