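import Groth.Agent.Lib.ArSurf29.Sections
import Groth.Prelude.Def_FGA

/-!
# Classes of vertical divisors
-/

set_option autoImplicit false
set_option linter.all false
set_option backward.isDefEq.respectTransparency false

universe u

open CategoryTheory CategoryTheory.Limits AlgebraicGeometry TopologicalSpace IsLocalRing

noncomputable section

namespace GrothLib.ArSurf29

open GrothLib.Cube (Pic clsMod)
open GrothLib.CartierDescent (stalkIdeal exists_stalk_generator)
open GrothLib.QCoh (stalkLin)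

section

variable {Y : Scheme.{u}}

/-- A trivial ideal module gives a global equation. -/
theorem exists_global_generator {A : Y.IdealSheafData} (φ : ClSub.idealMod A ≅ Coh.structureModule Y) :
    ∃ t : Γ(Y, ⊤), ∀ x, stalkIdeal A x = Ideal.span {Y.presheaf.germ ⊤ x trivial t} := by
  let e := φ.inv ≫ ClSub.idealModι A
  refine ⟨show Γ(Y, ⊤) from e.app ⊤ (FinCov.one Y ⊤), fun x => ?_⟩
  let t : Γ(Y, ⊤) := e.app ⊤ (FinCov.one Y ⊤)
  have hone : HomSh.unitStalk x 1 = (Coh.structureModule Y).presheaf.germ ⊤ x trivial (FinCov.one Y ⊤) := by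
    show (1 : Y.presheaf.stalk x) • (Coh.structureModule Y).presheaf.germ ⊤ x trivial (FinCov.one Y ⊤) = _
    rw [one_smul]
  have hval : stalkLin e x (HomSh.unitStalk x 1) = HomSh.unitStalk x (Y.presheaf.germ ⊤ x trivial t) := by
    rw [hone, QCoh.stalkLin_germ]
    show _ = (Y.presheaf.germ ⊤ x trivial t) • (Coh.structureModule Y).presheaf.germ ⊤ x trivial (FinCov.one Y ⊤)
    rw [← Mero.germ_smul]
    exact congrArg _ (mul_one t).symm
  have h1 := range_stalkLin_eq_span e (Ref1.gen_unitStalk x) hval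
  have h2 : LinearMap.range (stalkLin e x) = LinearMap.range (stalkLin (ClSub.idealModι A) x) := by
    have hb : Function.Surjective (stalkLin φ.inv x) :=
      ((ConcreteCategory.isIso_iff_bijective ((OX.stalk x).map φ.inv)).1 inferInstance).2
    ext w
    constructor
    · rintro ⟨v, rfl⟩
      exact ⟨_, (HodgeIndex.stalkLin_comp_apply φ.inv (ClSub.idealModι A) x v).symm⟩
    · rintro ⟨v, rfl⟩
      obtain ⟨v', rfl⟩ := hb v
      exact ⟨v', HodgeIndex.stalkLin_comp_apply φ.inv (ClSub.idealModι A) x v'⟩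
  rw [HodgeIndex.range_idealModι, goodman_st_eq, h1] at h2
  exact (Submodule.map_injective_of_injective (HomSh.unitStalk x).injective h2).symm

theorem cls_multiTwist {n : ℕ} {L : Fin n → Y.Modules} (hL : ∀ i, PicF.IsInvertible (L i)) (a : Fin n → ℕ) :
    ∃ h : PicF.IsInvertible (FGA.multiTwist L a), clsMod h = ∏ i, clsMod (hL i) ^ a i := by
  have key : ∀ l : List (Fin n),
      ∃ h : PicF.IsInvertible (FGA.tensorList (l.map fun i => CohB1.tensorPow (L i) (a i))),
        clsMod h = (l.map fun i => clsMod (hL i) ^ a i).prod := by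
    intro l
    induction l with
    | nil => exact ⟨Euler.isInvertible_structure, (Cube.clsMod_eq_one_iff _).2 ⟨Iso.refl _⟩⟩
    | cons i l ih =>
      obtain ⟨h, hc⟩ := ih
      refine ⟨Ample.isInvertible_tensorMod (Ample.isInvertible_tensorPow (hL i) (a i)) h, ?_⟩
      show clsMod (Ample.isInvertible_tensorMod (Ample.isInvertible_tensorPow (hL i) (a i)) h) = _
      rw [Cube.clsMod_tensorMod (Ample.isInvertible_tensorPow (hL i) (a i)) h, hc, Cube.clsMod_tensorPow, List.map_cons, List.prod_cons]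
  obtain ⟨h, hc⟩ := key (List.finRange n)
  exact ⟨h, by rw [hc, Fin.prod_univ_def]⟩

end

variable {R : Type u} [CommRing R] [IsDomain R] [IsDiscreteValuationRing R]
  {X : Over (Spec (CommRingCat.of R))} [IsProper X.hom] [Flat X.hom] [IsLocallyNoetherian X.left]
  (hX : Models.IsRegularScheme X.left)
  {n : ℕ} {Γ : Fin n → ArSurf.VertComp R X} (hΓ : Models.IsComponentList R X Γ)
  {L : Fin n → X.left.Modules} (hL : ∀ j, ClSub.IsInverseOf (L j) (ClSub.idealMod (Γ j).ι.ker))
include hX hΓ hL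

/-- The classes of the `O(Γ_j)`. -/
def vcls (j : Fin n) : Pic X.left := clsMod (isInvertible_inverse hX hΓ hL j)

theorem cls_idealMod_prod_pow (a : Fin n → ℕ)
    (h : PicF.IsInvertible (ClSub.idealMod (∏ i, (Γ i).ι.ker ^ a i))) :
    clsMod h = (∏ j, vcls hX hΓ hL j ^ a j)⁻¹ := by
  choose hP hPe using fun j => cls_idealMod_pow (isEffCartier_ker (isMaxComp hΓ j) hX) (a j)
  obtain ⟨h', e⟩ := cls_idealMod_prod Finset.univ (fun j => (Γ j).ι.ker ^ a j) hP
  rw [show clsMod h = clsMod h' from rfl, e, ← Finset.prod_inv_distrib]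
  refine Finset.prod_congr rfl fun j _ => ?_
  rw [hPe, vcls, cls_of_isInverseOf (isInvertible_inverse hX hΓ hL j)
    (IdealModSec.isInvertible_of_isEffCartier (isEffCartier_ker (isMaxComp hΓ j) hX)) (hL j), inv_pow, inv_inv]

theorem prod_vcls_mult_zpow (c : ℤ) : ∏ j, vcls hX hΓ hL j ^ (c * (Models.mult R X (Γ j) : ℤ)) = 1 := by
  simp only [mul_comm c, zpow_mul, zpow_natCast]
  rw [Finset.prod_zpow, show ∏ j, vcls hX hΓ hL j ^ Models.mult R X (Γ j) = 1 from
    cls_prod_inverse_pow hX hΓ hL, one_zpow]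

variable {C : Scheme.{u}} {f : C ⟶ Spec (CommRingCat.of (FractionRing R))} {g : C ⟶ X.left}
  (hg : IsPullback g f X.hom (Spec.map (CommRingCat.ofHom (algebraMap R (FractionRing R)))))
  (hH0 : IsIso f.appTop)
include hg hH0

/-- A vertical divisor is principal only if it is a multiple of the closed fibre. -/
theorem exists_eq_mul_mult_of_nat (a : Fin n → ℕ) (h : ∏ j, vcls hX hΓ hL j ^ a j = 1) :
    ∃ c : ℕ, ∀ j, a j = c * Models.mult R X (Γ j) := by
  have hA := isEffCartier_prod hΓ hX a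
  have hI := IdealModSec.isInvertible_of_isEffCartier hA
  obtain ⟨φ⟩ := (Cube.clsMod_eq_one_iff hI).1 (by rw [cls_idealMod_prod_pow hX hΓ hL a hI, h, inv_one])
  obtain ⟨t, ht⟩ := exists_global_generator φ
  obtain ⟨r, rfl⟩ := toGlobal_surjective hg hH0 t
  rcases isEmpty_or_nonempty (Fin n) with hn | hn
  · exact ⟨0, fun j => (IsEmpty.false j).elim⟩
  obtain ⟨j₀⟩ := hn
  have hr : r ≠ 0 := fun h0 => by
    obtain ⟨γ, hγ, hA'⟩ := exists_stalk_generator hA (Models.genPtOf R X (Γ j₀))
    haveI := isDVR_genPt (isMaxComp hΓ j₀) hX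
    have h1 := hA'.symm.trans (ht (Models.genPtOf R X (Γ j₀)))
    rw [h0, map_zero] at h1
    refine nonZeroDivisors.ne_zero hγ ?_
    have h2 : γ ∈ Ideal.span {γ} := Ideal.mem_span_singleton_self γ
    rw [h1] at h2
    simpa using h2
  obtain ⟨π, hπ⟩ := IsDiscreteValuationRing.exists_irreducible R
  obtain ⟨c, hc⟩ := IsDiscreteValuationRing.associated_pow_irreducible hr hπ
  refine ⟨c, fun j => ?_⟩
  obtain ⟨_, _⟩ := isDVR_genPt (isMaxComp hΓ j) hX
  have h1 : stalkIdeal (∏ i, (Γ i).ι.ker ^ a i) (Models.genPtOf R X (Γ j)) =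
      maximalIdeal (X.left.presheaf.stalk (Models.genPtOf R X (Γ j))) ^ (Models.mult R X (Γ j) * c) := by
    rw [pow_mul, mult_eq (isMaxComp hΓ j) hX,
      ← st_eq_pow_oAt (isMaxComp hΓ j) hX (isEffCartier_fibre (X := X)), st_fibre, ← Ideal.map_pow,
      hπ.maximalIdeal_eq, Ideal.span_singleton_pow, ← Ideal.span_singleton_eq_span_singleton.2 hc, ht,
      Ideal.map_span, Set.image_singleton]
    rfl
  have h2 := oAt_eq_of_st_eq_pow h1
  rw [oAt_prod hΓ hX a j] at h2
  rw [h2, mul_comm]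

theorem prod_vcls_zpow_eq_one_iff (a : Fin n → ℤ) :
    ∏ j, vcls hX hΓ hL j ^ a j = 1 ↔ ∃ c : ℤ, ∀ j, a j = c * (Models.mult R X (Γ j) : ℤ) := by
  refine ⟨fun h => ?_, fun ⟨c, hc⟩ => ?_⟩
  · let N : ℕ := Finset.univ.sup fun j => (a j).natAbs
    have hN : ∀ j, 0 ≤ a j + (N : ℤ) * Models.mult R X (Γ j) := fun j => by
      have h1 : (a j).natAbs ≤ N := Finset.le_sup (f := fun j => (a j).natAbs) (Finset.mem_univ j)
      have h2 := mult_pos (isMaxComp hΓ j) hX
      have h3 : (a j).natAbs ≤ N * Models.mult R X (Γ j) := h1.trans (Nat.le_mul_of_pos_right N h2)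
      have h4 : ((a j).natAbs : ℤ) ≤ (N : ℤ) * Models.mult R X (Γ j) := by exact_mod_cast h3
      omega
    obtain ⟨c, hc⟩ := exists_eq_mul_mult_of_nat hX hΓ hL hg hH0 (fun j => (a j + (N : ℤ) * Models.mult R X (Γ j)).toNat) (by
      have h1 : ∀ j, vcls hX hΓ hL j ^ (a j + (N : ℤ) * Models.mult R X (Γ j)).toNat =
          vcls hX hΓ hL j ^ a j * vcls hX hΓ hL j ^ ((N : ℤ) * Models.mult R X (Γ j)) := fun j => by
        rw [← zpow_add, ← zpow_natCast, Int.toNat_of_nonneg (hN j)]
      rw [Finset.prod_congr rfl fun j _ => h1 j, Finset.prod_mul_distrib, h, prod_vcls_mult_zpow, one_mul])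
    refine ⟨(c : ℤ) - N, fun j => ?_⟩
    have h1 := congrArg (Nat.cast : ℕ → ℤ) (hc j)
    rw [Int.toNat_of_nonneg (hN j)] at h1
    push_cast at h1
    linear_combination h1
  · simp only [hc]
    exact prod_vcls_mult_zpow hX hΓ hL c

omit hH0 in
/-- The kernel of restriction to the generic fibre is generated by vertical divisors. -/
theorem exists_eq_prod_vcls {M : X.left.Modules} (hM : PicF.IsInvertible M)
    (htriv : Nonempty ((Scheme.Modules.pullback g).obj M ≅ Coh.structureModule C)) :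
    ∃ a : Fin n → ℕ, clsMod hM = ∏ j, vcls hX hΓ hL j ^ a j := by
  obtain ⟨a, h, e⟩ := exists_prod_of_trivial hg hX hΓ hM htriv
  exact ⟨a, by rw [e, cls_idealMod_prod_pow hX hΓ hL a h, inv_inv]⟩

end GrothLib.ArSurf29
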