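import Groth.Agent.Lib.ArSurf29.FibreComponents
import Groth.Agent.Lib.ArSurf29.SmoothFibre
import Groth.Agent.Lib.Birat.LqfSep
import Groth.Agent.Lib.Stein.Count
import Groth.Agent.Lib.RegLoc.Normal
import Mathlib.AlgebraicGeometry.Morphisms.UniversallyOpen

/-!
# A smooth arithmetic surface over a Dedekind domain is relatively minimal
-/

set_option autoImplicit false
set_option linter.all false
set_option backward.isDefEq.respectTransparency false

universe u

open CategoryTheory CategoryTheory.Limits AlgebraicGeometry TopologicalSpace IsLocalRing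

noncomputable section

namespace GrothLib.ArSurf29

theorem valuationRing_localization_dedekind {R : Type u} [CommRing R] [IsDedekindDomain R] (p : Ideal R) [p.IsPrime] :
    ValuationRing (Localization.AtPrime p) := by
  by_cases hp : p = ⊥
  · subst hp
    have hF : IsField (Localization.AtPrime (⊥ : Ideal R)) := by
      refine IsLocalRing.isField_iff_maximalIdeal_eq.2 ?_
      rw [← IsLocalization.AtPrime.map_eq_maximalIdeal (⊥ : Ideal R) (Localization.AtPrime (⊥ : Ideal R)), Ideal.map_bot]
    letI := hF.toField
    infer_instance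
  · haveI := IsLocalization.AtPrime.isDiscreteValuationRing_of_dedekind_domain R hp (Localization.AtPrime p)
    infer_instance

/-- An integral scheme, proper over a Dedekind domain, with an isolated point in some fibre is finite over it. -/
theorem isFinite_of_isolated_dedekind {R : Type u} [CommRing R] [IsDedekindDomain R] {X : Scheme.{u}}
    (f : X ⟶ Spec (CommRingCat.of R)) [IsProper f] [IrreducibleSpace X]
    (U : X.Opens) (hU : IsAffineOpen U) (η : X) (hη : η ∈ U) (s : Spec (CommRingCat.of R)) (hηs : f η = s)
    (hiso : ∀ x ∈ U, f x = s → x = η) : IsFinite f := by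
  letI := (SemiPrufer.sectionsMap f hU).toAlgebra
  haveI : Algebra.FiniteType R Γ(X, U) := SemiPrufer.sectionsMap_finiteType f hU
  obtain ⟨ζ, hζ, hmin⟩ := SemiPrufer.exists_generic hU ⟨η, hη⟩
  have hiff : ∀ p : PrimeSpectrum Γ(X, U), p.asIdeal.under R = s.asIdeal ↔ f (hU.fromSpec p) = s := fun p => by
    rw [← Scheme.Hom.comp_apply, ← SemiPrufer.SpecMap_sectionsMap f hU]
    exact (PrimeSpectrum.ext_iff (x := PrimeSpectrum.comap (SemiPrufer.sectionsMap f hU) p) (y := s)).symm
  obtain ⟨p, hp⟩ := hU.range_fromSpec.ge hη
  haveI : Subsingleton (SemiPrufer.FibrePrimes Γ(X, U) s.asIdeal) := ⟨fun a b => by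
    have h : ∀ q : SemiPrufer.FibrePrimes Γ(X, U) s.asIdeal, hU.fromSpec q.1 = η := fun q =>
      hiso _ (hU.range_fromSpec.le ⟨q.1, rfl⟩) ((hiff q.1).1 q.2)
    exact Subtype.ext (hU.fromSpec.isEmbedding.injective ((h a).trans (h b).symm))⟩
  haveI hne : Nonempty (SemiPrufer.FibrePrimes Γ(X, U) s.asIdeal) :=
    ⟨⟨p, (hiff p).2 (by rw [hp]; exact hηs)⟩⟩
  haveI := s.isPrime
  have h0 := SemiPrufer.krullDim_fibrePrimes (fun p _ => valuationRing_localization_dedekind p)
    (η := ζ.asIdeal) (fun P hP => hmin ⟨P, hP⟩) s.asIdeal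
  rw [Order.krullDim_eq_zero] at h0
  have hg : SemiPrufer.genTr f hU ζ = 0 := by
    unfold SemiPrufer.genTr
    exact_mod_cast h0.symm
  refine FibreDimAt6.isFinite_of_dim_fiber_le_zero f fun y => ?_
  by_cases hy : Nonempty ↥(f.fiber y)
  · rw [SemiPrufer.topologicalKrullDim_fiber f (fun p _ => valuationRing_localization_dedekind p) y hy hU hζ, hg]
    rfl
  · haveI := not_nonempty_iff.1 hy
    exact (Order.krullDim_eq_bot_iff.2 ⟨fun S => hy ⟨S.2.1.some⟩⟩ : topologicalKrullDim ↥(f.fiber y) = ⊥).trans_le bot_le

theorem not_isFinite_dedekind {R : Type u} [CommRing R] [IsDedekindDomain R] {X : Scheme.{u}}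
    (f : X ⟶ Spec (CommRingCat.of R)) (hdim : topologicalKrullDim X = 2) : ¬ IsFinite f := by
  intro hf
  haveI : IsAffine X := isAffine_of_isAffineHom f
  letI := f.appTop.hom.toAlgebra
  haveI : Module.Finite Γ(Spec (CommRingCat.of R), ⊤) Γ(X, ⊤) :=
    RingHom.finite_algebraMap.1 (IsFinite.finite_app f ⊤ (isAffineOpen_top _))
  have h1 := Dim.ringKrullDim_le_of_isIntegral Γ(Spec (CommRingCat.of R), ⊤) Γ(X, ⊤)
  rw [ringKrullDim_eq_of_ringEquiv (Scheme.ΓSpecIso (CommRingCat.of R)).commRingCatIsoToRingEquiv,
    ← PrimeSpectrum.topologicalKrullDim_eq_ringKrullDim] at h1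
  have h2 : topologicalKrullDim X = topologicalKrullDim (PrimeSpectrum Γ(X, ⊤)) :=
    X.isoSpec.hom.homeomorph.isHomeomorph.topologicalKrullDim_eq
  rw [← h2, hdim] at h1
  have h3 : ringKrullDim R ≤ 1 := Ring.krullDimLE_iff.1 inferInstance
  exact absurd (h1.trans h3) (by decide)

/-- A maximal point of a noetherian sober space, all whose points have a largest generalization, has open closure. -/
theorem isOpen_closure_of_unique_generalization {F : Type u} [TopologicalSpace F] [T0Space F] [QuasiSober F]
    [NoetherianSpace F] (h : ∀ v : F, ∃ q, ∀ w, w ⤳ v → q ⤳ w) {z : F} (hz : ∀ w, w ⤳ z → w = z) :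
    IsOpen (closure {z}) := by
  let O : Set (Set F) := {W ∈ irreducibleComponents F | z ∉ W}
  have hc : IsClosed (⋃ W ∈ O, W) := (NoetherianSpace.finite_irreducibleComponents.subset fun _ hW => hW.1).isClosed_biUnion
    fun W hW => isClosed_of_mem_irreducibleComponents W hW.1
  convert hc.isOpen_compl using 1
  ext v
  simp only [Set.mem_compl_iff, Set.mem_iUnion₂, not_exists]
  constructor
  · intro hv W hW hvW
    obtain ⟨w, hw⟩ := QuasiSober.sober hW.1.1 (isClosed_of_mem_irreducibleComponents W hW.1)
    obtain ⟨q, hq⟩ := h v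
    have hqz : q = z := hz q (hq z (specializes_iff_mem_closure.2 hv))
    exact hW.2 (isClosed_of_mem_irreducibleComponents W hW.1 |>.closure_subset_iff.2 (Set.singleton_subset_iff.2 hw.mem)
      (specializes_iff_mem_closure.1 (show w ⤳ z by
        have hqw : q ⤳ w := hq w (hw.specializes hvW)
        have h1 : closure {w} ⊆ closure {q} :=
          closure_minimal (Set.singleton_subset_iff.2 (specializes_iff_mem_closure.1 hqw)) isClosed_closure
        have h2 : (W : Set F) = closure {q} := hW.1.eq_of_subset isIrreducible_singleton.closure (hw.def ▸ h1)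
        have h3 : w ⤳ q := hw.specializes (h2 ▸ subset_closure rfl)
        exact hqz ▸ h3)))
  · intro hv
    by_contra hzv
    refine hv (irreducibleComponent v) ⟨irreducibleComponent_mem_irreducibleComponents v, fun hzc => hzv ?_⟩
      mem_irreducibleComponent
    obtain ⟨w, hw⟩ := QuasiSober.sober isIrreducible_irreducibleComponent (isClosed_irreducibleComponent (x := v))
    have : w = z := hz w (hw.specializes hzc)
    exact specializes_iff_mem_closure.1 (this ▸ hw.specializes mem_irreducibleComponent)

/-- In a smooth scheme of finite type over a field every point has a largest generalization. -/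
theorem exists_generalization_of_smooth {k : Type u} [Field k] {F : Scheme.{u}} (p : F ⟶ Spec (CommRingCat.of k))
    [Smooth p] (v : F) : ∃ q, ∀ w, w ⤳ v → q ⤳ w := by
  have hsm : v ∈ p.smoothLocus := by
    rw [Scheme.Hom.smoothLocus_eq_top_iff.2 inferInstance]
    trivial
  haveI : IsRegularLocalRing ((Spec (CommRingCat.of k)).presheaf.stalk (p v)) :=
    WeilExt.isRegularLocalRing_stalk_spec k _
  haveI := (LocProp.isRegularLocalRing_stalk_iff_of_mem_smoothLocus p v hsm).2 inferInstance
  haveI := CMFree.isDomain_of_isRegularLocalRing (F.presheaf.stalk v)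
  let b : PrimeSpectrum (F.presheaf.stalk v) := ⊥
  refine ⟨F.fromSpecStalk v b, fun w hw => ?_⟩
  obtain ⟨P, rfl⟩ := (Scheme.range_fromSpecStalk).ge hw
  exact ((PrimeSpectrum.le_iff_specializes b P).1 bot_le).map (F.fromSpecStalk v).continuous

section Over

variable {R : Type u} [CommRing R] [IsDedekindDomain R]

theorem range_fst_genPt {X : Scheme.{u}} (f : X ⟶ Spec (CommRingCat.of R)) :
    Set.range (pullback.fst f (Neron.genPt R)) = {x | (f x).asIdeal = ⊥} := by
  rw [Scheme.Pullback.range_fst]
  ext x
  simp only [Set.mem_preimage, Set.mem_range, Set.mem_setOf_eq]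
  constructor
  · rintro ⟨P, hP⟩
    rw [← hP]
    show Ideal.comap (algebraMap R (FractionRing R)) P.asIdeal = ⊥
    rw [Ideal.eq_bot_of_prime P.asIdeal]
    exact Ideal.comap_bot_of_injective _ (IsFractionRing.injective R (FractionRing R))
  · intro hx
    refine ⟨⟨⊥, Ideal.isPrime_bot⟩, PrimeSpectrum.ext ?_⟩
    rw [hx]
    exact Ideal.comap_bot_of_injective _ (IsFractionRing.injective R (FractionRing R))

theorem bijective_stalkMap_fst_genPt {X : Scheme.{u}} (f : X ⟶ Spec (CommRingCat.of R))
    (z : ↥(pullback f (Neron.genPt R))) :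
    Function.Bijective ((pullback.fst f (Neron.genPt R)).stalkMap z).hom := by
  haveI : IsPreimmersion (Neron.genPt R) := IsPreimmersion.of_isLocalization (nonZeroDivisors R)
  haveI : Flat (Neron.genPt R) := Flat.SpecMap_iff.2
    (RingHom.flat_algebraMap_iff.2 (IsLocalization.flat _ (nonZeroDivisors R)))
  refine ⟨?_, (pullback.fst f (Neron.genPt R)).stalkMap_surjective z⟩
  letI := ((pullback.fst f (Neron.genPt R)).stalkMap z).hom.toAlgebra
  haveI : Module.Flat _ _ := Flat.stalkMap (pullback.fst f (Neron.genPt R)) z
  haveI : IsLocalHom (algebraMap (X.presheaf.stalk (pullback.fst f (Neron.genPt R) z))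
      ((pullback f (Neron.genPt R)).presheaf.stalk z)) :=
    inferInstanceAs (IsLocalHom ((pullback.fst f (Neron.genPt R)).stalkMap z).hom)
  haveI := Module.FaithfullyFlat.of_flat_of_isLocalHom
    (A := X.presheaf.stalk (pullback.fst f (Neron.genPt R) z)) (B := (pullback f (Neron.genPt R)).presheaf.stalk z)
  exact (FaithfulSMul.algebraMap_injective _ _ :
    Function.Injective (algebraMap (X.presheaf.stalk (pullback.fst f (Neron.genPt R) z))
      ((pullback f (Neron.genPt R)).presheaf.stalk z)))

variable {X Y : Over (Spec (CommRingCat.of R))} (g : X ⟶ Y) [IsIso ((Neron.genericFibre R).map g)]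

omit [IsIso ((Neron.genericFibre R).map g)] in
theorem genericFibre_map_fst :
    ((Neron.genericFibre R).map g).left ≫ pullback.fst Y.hom (Neron.genPt R) =
      pullback.fst X.hom (Neron.genPt R) ≫ g.left := by
  simp

theorem exists_over_generic {y : Y.left} (hy : (Y.hom y).asIdeal = ⊥) : ∃ x, g.left x = y := by
  obtain ⟨w, rfl⟩ := (range_fst_genPt Y.hom).ge hy
  haveI : IsIso ((Neron.genericFibre R).map g).left := (Over.forget _).map_isIso ((Neron.genericFibre R).map g)
  obtain ⟨z, rfl⟩ := ((Neron.genericFibre R).map g).left.homeomorph.surjective w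
  refine ⟨pullback.fst X.hom (Neron.genPt R) z, ?_⟩
  exact (congrArg (fun k : ((Neron.genericFibre R).obj X).left ⟶ Y.left => k z) (genericFibre_map_fst g)).symm

theorem injective_over_generic {x x' : X.left} (hx : (X.hom x).asIdeal = ⊥) (hx' : (X.hom x').asIdeal = ⊥)
    (h : g.left x = g.left x') : x = x' := by
  obtain ⟨z, rfl⟩ := (range_fst_genPt X.hom).ge hx
  obtain ⟨z', rfl⟩ := (range_fst_genPt X.hom).ge hx'
  haveI : IsIso ((Neron.genericFibre R).map g).left := (Over.forget _).map_isIso ((Neron.genericFibre R).map g)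
  haveI : IsPreimmersion (Neron.genPt R) := IsPreimmersion.of_isLocalization (nonZeroDivisors R)
  have he : ∀ z, pullback.fst Y.hom (Neron.genPt R) (((Neron.genericFibre R).map g).left z) =
      g.left (pullback.fst X.hom (Neron.genPt R) z) := fun z =>
    congrArg (fun k : ((Neron.genericFibre R).obj X).left ⟶ Y.left => k z) (genericFibre_map_fst g)
  rw [← he, ← he] at h
  rw [((Neron.genericFibre R).map g).left.homeomorph.injective
    ((pullback.fst Y.hom (Neron.genPt R)).isEmbedding.injective h)]

theorem bijective_stalkMap_of_generic {x : X.left} (hx : (X.hom x).asIdeal = ⊥) :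
    Function.Bijective (g.left.stalkMap x).hom := by
  obtain ⟨z, rfl⟩ := (range_fst_genPt X.hom).ge hx
  haveI : IsIso ((Neron.genericFibre R).map g).left := (Over.forget _).map_isIso ((Neron.genericFibre R).map g)
  have h1 : Function.Bijective ((((Neron.genericFibre R).map g).left ≫ pullback.fst Y.hom (Neron.genPt R)).stalkMap z).hom := by
    rw [Scheme.Hom.stalkMap_comp, CommRingCat.hom_comp, RingHom.coe_comp]
    exact (ConcreteCategory.bijective_of_isIso (((Neron.genericFibre R).map g).left.stalkMap z)).comp
      (bijective_stalkMap_fst_genPt Y.hom _)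
  have key : ∀ (a b : ((Neron.genericFibre R).obj X).left ⟶ Y.left), a = b →
      Function.Bijective (a.stalkMap z).hom → Function.Bijective (b.stalkMap z).hom := by
    rintro a b rfl h; exact h
  have h2 := key _ _ (genericFibre_map_fst g) h1
  rw [Scheme.Hom.stalkMap_comp, CommRingCat.hom_comp, RingHom.coe_comp] at h2
  exact (Function.Bijective.of_comp_iff' (bijective_stalkMap_fst_genPt X.hom z) _).1 h2

end Over

/-- A smooth arithmetic surface admits no contraction. -/
theorem isIso_of_smooth {R : Type u} [CommRing R] [IsDedekindDomain R] {X Y : Over (Spec (CommRingCat.of R))}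
    [IsProper X.hom] [IsProper Y.hom] [Smooth X.hom] [Flat Y.hom] [IsIntegral X.left]
    (hdim : topologicalKrullDim X.left = 2) (hY : ∀ y : Y.left, IsRegularLocalRing (Y.left.presheaf.stalk y))
    (g : X ⟶ Y) [IsIso ((Neron.genericFibre R).map g)] : IsIso g := by
  haveI : IsProper (g.left ≫ Y.hom) := by rw [Over.w g]; infer_instance
  haveI : IsProper g.left := IsProper.of_comp g.left Y.hom
  haveI : IsLocallyNoetherian X.left := LocallyOfFiniteType.isLocallyNoetherian X.hom
  haveI : IsLocallyNoetherian Y.left := LocallyOfFiniteType.isLocallyNoetherian Y.hom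
  haveI : CompactSpace X.left := QuasiCompact.compactSpace_of_compactSpace X.hom
  haveI : IsNoetherian X.left := {}
  have hover : ∀ x, Y.hom (g.left x) = X.hom x := fun x => by
    rw [← Scheme.Hom.comp_apply, Over.w g]
  -- `Y` is irreducible with generic point the image of the one of `X`
  have hgX : (X.hom (genericPoint X.left)).asIdeal = ⊥ := by
    obtain ⟨w, hw, hw'⟩ := Flat.generalizingMap X.hom ((PrimeSpectrum.le_iff_specializes (⊥ : PrimeSpectrum R)
      (X.hom (genericPoint X.left))).1 bot_le)
    rw [show genericPoint X.left = w from ((genericPoint_specializes w).antisymm hw).eq, hw']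
    rfl
  have hdom : ∀ y : Y.left, g.left (genericPoint X.left) ⤳ y := fun y => by
    obtain ⟨ξ, hξ⟩ := QuasiSober.sober (isIrreducible_irreducibleComponent (x := y)) isClosed_irreducibleComponent
    obtain ⟨w, hw, hw'⟩ := Flat.generalizingMap Y.hom ((PrimeSpectrum.le_iff_specializes (⊥ : PrimeSpectrum R)
      (Y.hom ξ)).1 bot_le)
    obtain ⟨x, rfl⟩ := exists_over_generic g (show (Y.hom w).asIdeal = ⊥ by rw [hw']; rfl)
    exact (((genericPoint_specializes x).map g.left.continuous).trans hw).trans (hξ.specializes mem_irreducibleComponent)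
  haveI : IrreducibleSpace Y.left := by
    haveI : Nonempty Y.left := ⟨g.left (genericPoint X.left)⟩
    refine { isPreirreducible_univ := ?_, toNonempty := ⟨g.left (genericPoint X.left)⟩ }
    rw [← show closure {g.left (genericPoint X.left)} = Set.univ from
      Set.eq_univ_of_forall fun y => specializes_iff_mem_closure.1 (hdom y)]
    exact isIrreducible_singleton.closure.2
  haveI : ∀ y : Y.left, _root_.IsReduced (Y.left.presheaf.stalk y) := fun y => by
    haveI := hY y
    haveI := CMFree.isDomain_of_isRegularLocalRing (Y.left.presheaf.stalk y)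
    infer_instance
  haveI : IsReduced Y.left := isReduced_of_isReduced_stalk _
  haveI : IsIntegral Y.left := isIntegral_of_irreducibleSpace_of_isReduced _
  have e : g.left (genericPoint X.left) = genericPoint Y.left :=
    ((hdom _).antisymm (genericPoint_specializes _)).eq
  have hb := bijective_stalkMap_of_generic g hgX
  have hN : ∀ y, IsIntegrallyClosed (Y.left.presheaf.stalk y) := fun y => by
    haveI := hY y
    exact RegLoc.isIntegrallyClosed_of_isRegularLocalRing _
  -- quasi-finite at every closed point
  have hcl : ∀ x : X.left, IsClosed ({x} : Set X.left) → g.left.QuasiFiniteAt x := by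
    intro x hx
    refine Scheme.Hom.quasiFiniteAt_iff_isOpen_singleton_asFiber.2 ?_
    suffices h1 : ∀ z, g.left z = g.left x → z = x by
      haveI : Subsingleton ↥(g.left.fiber (g.left x)) := ⟨fun a b => (g.left.fiberι _).isEmbedding.injective
        ((h1 _ ((g.left.range_fiberι _).le ⟨a, rfl⟩)).trans (h1 _ ((g.left.range_fiberι _).le ⟨b, rfl⟩)).symm)⟩
      exact isOpen_discrete _
    by_cases hs : (X.hom x).asIdeal = ⊥
    · intro z hz
      exact injective_over_generic g (by rw [← hover z, hz, hover]; exact hs) hs hz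
    intro z₀ hz₀
    by_contra hne
    let y := g.left x
    let s := X.hom x
    haveI := s.isPrime
    have hsc : IsClosed ({s} : Set (Spec (CommRingCat.of R))) :=
      (PrimeSpectrum.isClosed_singleton_iff_isMaximal s).2 (s.isPrime.isMaximal hs)
    let G : Set X.left := g.left ⁻¹' {y}
    have hGc : IsClosed G := by
      refine IsClosed.preimage g.left.continuous ?_
      rw [← Set.image_singleton]
      exact g.left.isClosedMap _ hx
    have hGs : ∀ v ∈ G, X.hom v = s := fun v hv => by
      rw [← hover v, show g.left v = g.left x from hv, hover]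
    have hGconn : _root_.IsPreconnected G := by
      haveI := Stein.connectedSpace_fiber_of_birational g.left e
        ((ConcreteCategory.isIso_iff_bijective _).2 hb) y (by
          haveI := hN y
          exact Stein.isLocalRing_integralClosure_of_isIntegrallyClosed)
      have h2 := isPreconnected_range (g.left.fiberι y).continuous
      rw [g.left.range_fiberι y] at h2
      exact h2
    -- a non-closed point of the fibre through `x`
    obtain ⟨z, hzx, hzy, hzne⟩ : ∃ z, z ⤳ x ∧ z ∈ G ∧ z ≠ x := by
      by_contra h
      push Not at h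
      have hxo : IsOpen ((Subtype.val : G → X.left) ⁻¹' {x}) := by
        let O : Set (Set G) := {W ∈ irreducibleComponents G | (⟨x, rfl⟩ : G) ∉ W}
        have hc : IsClosed (⋃ W ∈ O, W) :=
          (NoetherianSpace.finite_irreducibleComponents.subset fun _ hW => hW.1).isClosed_biUnion
            fun W hW => isClosed_of_mem_irreducibleComponents W hW.1
        convert hc.isOpen_compl using 1
        ext v
        simp only [Set.mem_preimage, Set.mem_singleton_iff, Set.mem_compl_iff, Set.mem_iUnion₂, not_exists]
        constructor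
        · rintro hv W hW hvW
          exact hW.2 ((show v = ⟨x, rfl⟩ from Subtype.ext hv) ▸ hvW)
        · intro hv
          by_contra hvx
          haveI : QuasiSober G := hGc.isClosedEmbedding_subtypeVal.quasiSober
          refine hv (irreducibleComponent v) ⟨irreducibleComponent_mem_irreducibleComponents v, fun hxc => hvx ?_⟩
            mem_irreducibleComponent
          obtain ⟨w, hw⟩ := QuasiSober.sober isIrreducible_irreducibleComponent (isClosed_irreducibleComponent (x := v))
          have hwx : (w : X.left) = x := h w ((hw.specializes hxc).map continuous_subtype_val) w.2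
          have := ((hw.specializes (mem_irreducibleComponent (x := v))).map continuous_subtype_val).mem_closed
            hx (show (w : X.left) ∈ ({x} : Set X.left) from hwx)
          exact this
      obtain ⟨O, hO, hOx⟩ := isOpen_induced_iff.1 hxo
      obtain ⟨v, hvG, hvO, hvx⟩ := hGconn O {x}ᶜ hO hx.isOpen_compl (fun v hv => (em (v = x)).imp
          (fun hvx => by subst hvx; exact (Set.ext_iff.1 hOx ⟨v, hv⟩).2 rfl) id)
        ⟨x, rfl, (Set.ext_iff.1 hOx ⟨x, rfl⟩).2 rfl⟩ ⟨z₀, hz₀, hne⟩
      exact hvx ((Set.ext_iff.1 hOx ⟨v, hvG⟩).1 hvO)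
    -- it is a maximal point of the fibre over `s`
    have hzmax : ∀ w, w ⤳ z → X.hom w = s → w = z := by
      intro w hwz hws
      by_contra hwne
      have h1 : x < z := lt_of_le_not_ge hzx fun h => hzne (Specializes.antisymm (show x ⤳ z from h) hzx).eq.symm
      have h2 : z < w := lt_of_le_not_ge hwz fun h => hwne ((hwz.antisymm h)).eq
      have h3 : w < genericPoint X.left := lt_of_le_not_ge (genericPoint_specializes w) fun h => by
        have := (Specializes.antisymm (show w ⤳ genericPoint X.left from h) (genericPoint_specializes w)).eq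
        exact hs (show s.asIdeal = ⊥ by rw [← hws, this]; exact hgX)
      let l : LTSeries X.left := (((RelSeries.singleton _ x).snoc _ h1).snoc w
        (by rw [RelSeries.last_snoc]; exact h2)).snoc (genericPoint X.left) (by rw [RelSeries.last_snoc]; exact h3)
      have hd : Snapper.DimLT (Set.univ : Set X.left) (2 + 1) := Snapper.dimLT_of_dim_le
        ((IsHomeomorph.topologicalKrullDim_eq _ (Homeomorph.Set.univ X.left).isHomeomorph).le.trans hdim.le)
      have := hd l fun _ => trivial
      simp [l] at this
    -- its closure is open in the fibre over `s`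
    let ι := X.hom.fiberι s
    have hrι : Set.range ι = X.hom ⁻¹' {s} := X.hom.range_fiberι s
    haveI : Smooth (X.hom.fiberToSpecResidueField s) :=
      inferInstanceAs (Smooth (pullback.snd _ _))
    haveI : NoetherianSpace ↥(X.hom.fiber s) := ι.isEmbedding.isInducing.noetherianSpace
    obtain ⟨z', hz'⟩ := hrι.ge (hGs z hzy)
    obtain ⟨O, hO, hOz⟩ := ι.isEmbedding.isInducing.isOpen_iff.1
      (isOpen_closure_of_unique_generalization (exists_generalization_of_smooth (X.hom.fiberToSpecResidueField s))
        (z := z') fun w hw => ι.isEmbedding.injective (by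
          rw [hz']
          exact hzmax _ (hz' ▸ hw.map ι.continuous) (hrι.le ⟨w, rfl⟩)))
    have hC : ∀ v, X.hom v = s → (v ∈ O ↔ z ⤳ v) := fun v hv => by
      obtain ⟨v', rfl⟩ := hrι.ge hv
      rw [← hz', ι.isEmbedding.isInducing.specializes_iff, specializes_iff_mem_closure]
      exact Set.ext_iff.1 hOz v'
    -- the fibre of `g` is that closure, so `y` is isolated over `s`
    have hG : ∀ v ∈ G, z ⤳ v := by
      intro v hv
      by_contra hzv
      obtain ⟨w, hwG, hwO, hwC⟩ := hGconn O (closure {z})ᶜ hO isClosed_closure.isOpen_compl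
        (fun w hw => (em (z ⤳ w)).imp (hC w (hGs w hw)).2 fun h h' => h (specializes_iff_mem_closure.2 h'))
        ⟨z, hzy, (hC z (hGs z hzy)).2 le_rfl⟩ ⟨v, hv, fun h => hzv (specializes_iff_mem_closure.2 h)⟩
      exact hwC (specializes_iff_mem_closure.1 ((hC w (hGs w hwG)).1 hwO))
    let T : Set X.left := X.hom ⁻¹' {s} ∩ Oᶜ
    have hT : IsClosed (g.left '' T) := g.left.isClosedMap _ ((hsc.preimage X.hom.continuous).inter hO.isClosed_compl)
    have hyT : y ∉ g.left '' T := by
      rintro ⟨v, ⟨hvs, hvO⟩, hv⟩
      exact hvO ((hC v hvs).2 (hG v hv))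
    obtain ⟨_, ⟨U, hU, rfl⟩, hyU, hUT⟩ :=
      Y.left.isBasis_affineOpens.exists_subset_of_mem_open hyT hT.isOpen_compl
    have hfin : IsFinite Y.hom := by
      refine isFinite_of_isolated_dedekind Y.hom U hU y hyU s (hover x) fun u huU hus => ?_
      haveI : Surjective g.left := ⟨fun u => g.left.isClosedMap.isClosed_range.closure_subset_iff.2
        (Set.singleton_subset_iff.2 ⟨_, rfl⟩) (specializes_iff_mem_closure.1 (hdom u))⟩
      obtain ⟨v, rfl⟩ := g.left.surjective u
      have hvs : X.hom v = s := by rw [← hover v, hus]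
      have hvO : v ∈ O := by
        by_contra h
        exact hUT huU ⟨v, ⟨hvs, h⟩, rfl⟩
      exact ((((hC v hvs).1 hvO).map g.left.continuous).mem_closed
        (show IsClosed ({y} : Set Y.left) by rw [← Set.image_singleton]; exact g.left.isClosedMap _ hx)
        (show g.left z ∈ ({y} : Set Y.left) from hzy))
    -- so `X` has a single point over the generic point of the base, and is finite too
    haveI := hfin
    let gR : Spec (CommRingCat.of R) := (⊥ : PrimeSpectrum R)
    obtain ⟨_, ⟨V, hV, rfl⟩, hV1, -⟩ := X.left.isBasis_affineOpens.exists_subset_of_mem_open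
      (Set.mem_univ (genericPoint X.left)) isOpen_univ
    refine not_isFinite_dedekind X.hom hdim (isFinite_of_isolated_dedekind X.hom V hV _ hV1 gR
      (PrimeSpectrum.ext hgX) fun v _ hv => ?_)
    refine injective_over_generic g (by rw [hv]; rfl) hgX ?_
    have hd := Y.hom.isDiscrete_preimage_singleton gR
    have h1 : g.left (genericPoint X.left) ∈ Y.hom ⁻¹' {gR} :=
      (hover _).trans (PrimeSpectrum.ext hgX)
    have h2 : g.left v ∈ Y.hom ⁻¹' {gR} := (hover _).trans hv
    haveI := hd.to_subtype
    exact congrArg Subtype.val ((Topology.IsInducing.subtypeVal.specializes_iff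
      (x := (⟨_, h1⟩ : Y.hom ⁻¹' {gR})) (y := ⟨_, h2⟩)).1 (hdom _)).eq.symm
  haveI : LocallyQuasiFinite g.left := by
    have hall : ∀ x, g.left.QuasiFiniteAt x := fun x => by
      obtain ⟨x₀, hx₀, hcx₀⟩ := IsClosed.exists_closed_singleton (isClosed_closure (s := ({x} : Set X.left)))
        ⟨x, subset_closure rfl⟩
      exact (specializes_iff_mem_closure.2 hx₀).mem_open g.left.isOpen_quasiFiniteAt (hcl x₀ hcx₀)
    refine locallyQuasiFinite_iff_isDiscrete_preimage_singleton.2 fun y => ?_
    haveI : DiscreteTopology ↥(g.left.fiber y) := discreteTopology_iff_isOpen_singleton.2 fun a => by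
      obtain ⟨x, rfl⟩ : ∃ x, g.left x = y := ⟨_, (g.left.range_fiberι y).le ⟨a, rfl⟩⟩
      obtain ⟨v, hv⟩ : ∃ v, v = g.left.fiberι _ a := ⟨_, rfl⟩
      have hvy : g.left v = g.left x := hv ▸ (g.left.range_fiberι _).le ⟨a, rfl⟩
      have h1 := Scheme.Hom.quasiFiniteAt_iff_isOpen_singleton_asFiber.1 (hall v)
      have h2 : ∀ (y : Y.left) (a : ↥(g.left.fiber y)), y = g.left v → v = g.left.fiberι y a → IsOpen ({a} : Set ↥(g.left.fiber y)) := by
        rintro y a rfl hva
        rwa [show a = g.left.asFiber v from (g.left.fiberι _).isEmbedding.injective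
          (hva.symm.trans (g.left.fiberι_asFiber v).symm)]
      exact h2 _ a hvy.symm hv
    exact ⟨(g.left.fiberHomeo y).symm.isEmbedding.discreteTopology⟩
  haveI : IsFinite g.left := IsFinite.of_isProper_of_locallyQuasiFinite _
  haveI : IsIso g.left := Birat.isIso_of_finite_birational g.left e hb hN
  haveI : IsIso ((Over.forget _).map g) := ‹IsIso g.left›
  exact isIso_of_reflects_iso g (Over.forget _)

end GrothLib.ArSurf29
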