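import Groth.Agent.Lib.ArSurf29.Multiple
import Groth.Agent.Lib.HodgeIndex.Walls
import Groth.Agent.Lib.IdealModSec.Basic

/-!
# Restriction of classes to the generic fibre
-/

set_option autoImplicit false
set_option linter.all false
set_option backward.isDefEq.respectTransparency false

universe u

open CategoryTheory CategoryTheory.Limits AlgebraicGeometry TopologicalSpace IsLocalRing

noncomputable section

namespace GrothLib.ArSurf29

open GrothLib.Cube (Pic clsMod)

section

variable {Y C : Scheme.{u}}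

theorem bijective_idealModι_app (I : Y.IdealSheafData) {W : Y.Opens}
    (hW : Disjoint (W : Set Y) (I.support : Set Y)) : Function.Bijective ((ClSub.idealModι I).app W) := by
  refine ⟨IdealModSec.val_injective I W, fun a => ?_⟩
  refine (IdealModSec.app_kernel (ClSub.toSubscheme I) W).2 a ?_
  have hbot : I.subschemeι ⁻¹ᵁ W = ⊥ := Opens.ext (Set.eq_empty_iff_forall_notMem.2 fun z hz =>
    Set.disjoint_left.1 hW hz (by rw [← I.range_subschemeι]; exact ⟨z, rfl⟩))
  haveI : Subsingleton Γ(I.subscheme, I.subschemeι ⁻¹ᵁ W) := by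
    rw [hbot]
    infer_instance
  exact Subsingleton.elim (α := Γ(I.subscheme, I.subschemeι ⁻¹ᵁ W)) _ _

/-- Ideals of divisors disjoint from an open restrict trivially to it. -/
theorem pull_cls_idealMod_eq_one (g : C ⟶ Y) [IsOpenImmersion g] {I : Y.IdealSheafData}
    (h : PicF.IsInvertible (ClSub.idealMod I)) (hd : Disjoint (Set.range g.base) (I.support : Set Y)) :
    Cube.pull g (clsMod h) = 1 := by
  haveI : IsIso ((Scheme.Modules.restrictFunctor g).map (ClSub.idealModι I)) := by
    rw [Scheme.Modules.Hom.isIso_iff_isIso_app]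
    intro W
    refine (ConcreteCategory.isIso_iff_bijective _).2 ?_
    refine bijective_idealModι_app I (W := g ''ᵁ W) (hd.mono_left ?_)
    rintro _ ⟨c, -, rfl⟩
    exact ⟨c, rfl⟩
  have φ : (Scheme.Modules.pullback g).obj (ClSub.idealMod I) ≅ (Scheme.Modules.pullback g).obj (Coh.structureModule Y) :=
    ((Scheme.Modules.restrictFunctorIsoPullback g).app _).symm ≪≫
      asIso ((Scheme.Modules.restrictFunctor g).map (ClSub.idealModι I)) ≪≫
      (Scheme.Modules.restrictFunctorIsoPullback g).app _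
  rw [← Cube.clsMod_pullback g h, (Cube.clsMod_eq_iff _ (Kleiman.isInv_pullback g Euler.isInvertible_structure)).2 ⟨φ⟩,
    Cube.clsMod_pullback g Euler.isInvertible_structure,
    show clsMod (Euler.isInvertible_structure (X := Y)) = 1 from (Cube.clsMod_eq_one_iff _).2 ⟨Iso.refl _⟩, map_one]

theorem pull_cls_eq_iff (g : C ⟶ Y) {M : Y.Modules} (hM : PicF.IsInvertible M) {N : C.Modules}
    (hN : PicF.IsInvertible N) :
    Nonempty ((Scheme.Modules.pullback g).obj M ≅ N) ↔ Cube.pull g (clsMod hM) = clsMod hN := by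
  rw [← Cube.clsMod_pullback g hM]
  exact (Cube.clsMod_eq_iff _ hN).symm

theorem pull_cls_eq_one_iff (g : C ⟶ Y) {M : Y.Modules} (hM : PicF.IsInvertible M) :
    Nonempty ((Scheme.Modules.pullback g).obj M ≅ Coh.structureModule C) ↔ Cube.pull g (clsMod hM) = 1 := by
  rw [pull_cls_eq_iff g hM Euler.isInvertible_structure,
    show clsMod (Euler.isInvertible_structure (X := C)) = 1 from (Cube.clsMod_eq_one_iff _).2 ⟨Iso.refl _⟩]

end

variable {R : Type u} [CommRing R] [IsDomain R] [IsDiscreteValuationRing R]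
  {X : Over (Spec (CommRingCat.of R))} [IsProper X.hom] [Flat X.hom] [IsLocallyNoetherian X.left]
  (hX : Models.IsRegularScheme X.left)
  {n : ℕ} {Γ : Fin n → ArSurf.VertComp R X} (hΓ : Models.IsComponentList R X Γ)
  {L : Fin n → X.left.Modules} (hL : ∀ j, ClSub.IsInverseOf (L j) (ClSub.idealMod (Γ j).ι.ker))
  {C : Scheme.{u}} {f : C ⟶ Spec (CommRingCat.of (FractionRing R))} {g : C ⟶ X.left}
  (hg : IsPullback g f X.hom (Spec.map (CommRingCat.ofHom (algebraMap R (FractionRing R)))))
include hX hΓ hL hg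

theorem pull_vcls (j : Fin n) : Cube.pull g (vcls hX hΓ hL j) = 1 := by
  haveI := isOpenImmersion_generic hg
  rw [vcls, cls_of_isInverseOf (isInvertible_inverse hX hΓ hL j)
    (IdealModSec.isInvertible_of_isEffCartier (isEffCartier_ker (isMaxComp hΓ j) hX)) (hL j), map_inv,
    pull_cls_idealMod_eq_one g _ (by
      rw [range_generic hg, support_ker]
      exact disjoint_compl_left.mono_right (range_subset_fibre _)), inv_one]

theorem exists_eq_prod_vcls' {x : Pic X.left} (hx : Cube.pull g x = 1) :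
    ∃ a : Fin n → ℕ, x = ∏ j, vcls hX hΓ hL j ^ a j := by
  obtain ⟨a, ha⟩ := exists_eq_prod_vcls hX hΓ hL hg (HodgeIndex.isInv_rep x)
    ((pull_cls_eq_one_iff g (HodgeIndex.isInv_rep x)).2 (by rw [HodgeIndex.cls_rep]; exact hx))
  exact ⟨a, by rw [← ha, HodgeIndex.cls_rep]⟩

omit hg in
theorem icl_vcls (i j : Fin n) : icl (Γ i) (vcls hX hΓ hL j) = ArSurf.inter R X (L j) (Γ i) :=
  (inter_eq_icl (Γ i) (isInvertible_inverse hX hΓ hL j)).symm

end GrothLib.ArSurf29
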