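import Groth.Agent.Lib.ArSurf29.Constants
import Groth.Agent.Lib.ArSurf29.Horizontal
import Groth.Agent.Lib.RegLoc.Basic
import Mathlib.AlgebraicGeometry.ValuativeCriterion

/-!
# Sections of a regular surface meet the closed fibre in a simple component
-/

set_option autoImplicit false
set_option linter.all false
set_option backward.isDefEq.respectTransparency false

universe u

open CategoryTheory CategoryTheory.Limits AlgebraicGeometry TopologicalSpace IsLocalRing

noncomputable section

namespace GrothLib.ArSurf29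

open GrothLib.CartierDescent (stalkIdeal stalkIdeal_eq_top_iff exists_stalk_generator)

variable {R : Type u} [CommRing R] [IsDomain R] [IsDiscreteValuationRing R]
  {X : Over (Spec (CommRingCat.of R))}

theorem toLocal_stalkHom (σ : Spec (CommRingCat.of R) ⟶ X.left) (hσ : σ ≫ X.hom = 𝟙 _) (r : R) :
    (Scheme.stalkClosedPointTo (R := CommRingCat.of R) σ).hom (Models.stalkHom R X (σ (closedPoint R)) r) = r := by
  have h := ConcreteCategory.congr_hom
    (Scheme.germ_stalkClosedPointTo (R := CommRingCat.of R) σ ⊤ (show σ (closedPoint R) ∈ (⊤ : X.left.Opens) from trivial))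
    (Coh.toGlobal X.hom r)
  refine h.trans ?_
  have h2 := congrArg (fun f => f.appTop ((Scheme.ΓSpecIso (CommRingCat.of R)).inv r)) hσ
  simp only [Scheme.Hom.comp_appTop, Scheme.Hom.id_appTop] at h2
  simp only [eqToIso, Iso.op, Functor.mapIso, Iso.trans_hom, CommRingCat.comp_apply, eqToHom_refl, op_id,
    CategoryTheory.Functor.map_id, CommRingCat.id_apply] at h2 ⊢
  exact (congrArg (Scheme.ΓSpecIso (CommRingCat.of R)).hom h2).trans ((Scheme.ΓSpecIso (CommRingCat.of R)).inv_hom_id_apply r)

theorem apply_closedPoint_mem_fibre (σ : Spec (CommRingCat.of R) ⟶ X.left) (hσ : σ ≫ X.hom = 𝟙 _) :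
    σ (closedPoint R) ∈ Models.specialFibreSet R X := by
  show (σ ≫ X.hom) (closedPoint R) = closedPoint R
  rw [hσ]; rfl

theorem residue_stalkHom_surjective (σ : Spec (CommRingCat.of R) ⟶ X.left) (hσ : σ ≫ X.hom = 𝟙 _) :
    Function.Surjective ((X.left.residue (σ (closedPoint R))).hom.comp
      (Models.stalkHom R X (σ (closedPoint R)))) := by
  intro y
  obtain ⟨a, rfl⟩ := IsLocalRing.residue_surjective (R := X.left.presheaf.stalk (σ (closedPoint R))) y
  refine ⟨(Scheme.stalkClosedPointTo (R := CommRingCat.of R) σ).hom a, ?_⟩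
  show IsLocalRing.residue _ _ = IsLocalRing.residue _ a
  rw [← sub_eq_zero, ← map_sub, residue_eq_zero_iff, mem_maximalIdeal, mem_nonunits_iff]
  intro hu
  have h := hu.map (Scheme.stalkClosedPointTo (R := CommRingCat.of R) σ).hom
  rw [map_sub, toLocal_stalkHom σ hσ, sub_self] at h
  exact not_isUnit_zero h

/-- At a point of a section the fibre is cut out by part of a regular system of parameters. -/
theorem isRegularLocalRing_quotient_section (hX : Models.IsRegularScheme X.left)
    (σ : Spec (CommRingCat.of R) ⟶ X.left) (hσ : σ ≫ X.hom = 𝟙 _) :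
    IsRegularLocalRing (X.left.presheaf.stalk (σ (closedPoint R)) ⧸
      Ideal.map (Models.stalkHom R X (σ (closedPoint R))) (maximalIdeal R)) := by
  haveI := hX (σ (closedPoint R))
  obtain ⟨π, hπ⟩ := IsDiscreteValuationRing.exists_irreducible R
  let t := Models.stalkHom R X (σ (closedPoint R)) π
  let φ := (Scheme.stalkClosedPointTo (R := CommRingCat.of R) σ).hom
  have hm : t ∈ maximalIdeal (X.left.presheaf.stalk (σ (closedPoint R))) := by
    rw [mem_maximalIdeal, mem_nonunits_iff]
    intro hu
    have h := hu.map φ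
    rw [toLocal_stalkHom σ hσ] at h
    exact hπ.not_isUnit h
  have hm2 : t ∉ maximalIdeal (X.left.presheaf.stalk (σ (closedPoint R))) ^ 2 := fun h => by
    have h2 := Ideal.mem_map_of_mem φ h
    rw [Ideal.map_pow, toLocal_stalkHom σ hσ] at h2
    have h3 : (maximalIdeal (X.left.presheaf.stalk (σ (closedPoint R)))).map φ ≤ maximalIdeal R :=
      Ideal.map_le_iff_le_comap.2 fun a ha => by
        rw [Ideal.mem_comap, mem_maximalIdeal, mem_nonunits_iff]
        exact fun hu => ha (isUnit_of_map_unit φ a hu)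
    have h4 := Ideal.pow_right_mono h3 2 h2
    rw [hπ.maximalIdeal_eq, Ideal.span_singleton_pow, Ideal.mem_span_singleton] at h4
    exact hπ.not_isUnit (isUnit_of_dvd_one ((mul_dvd_mul_iff_left hπ.ne_zero).1 (by rwa [mul_one, ← pow_two])))
  have e : Ideal.map (Models.stalkHom R X (σ (closedPoint R))) (maximalIdeal R) = Ideal.span {t} := by
    rw [hπ.maximalIdeal_eq, Ideal.map_span, Set.image_singleton]
  haveI := (GrothLib.RegLoc.quotient_isRegularLocalRing hm hm2).1
  exact IsRegularLocalRing.of_ringEquiv (Ideal.quotEquivOfEq e.symm)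

variable [Flat X.hom] [IsProper X.hom] [IsLocallyNoetherian X.left]
  {n : ℕ} {Γ : Fin n → ArSurf.VertComp R X} (hΓ : Models.IsComponentList R X Γ)
include hΓ

/-- A point where the fibre ideal is prime lies on one component, of multiplicity one. -/
theorem existsUnique_component_of_isPrime (hX : Models.IsRegularScheme X.left) {x : X.left}
    (hx : x ∈ Models.specialFibreSet R X) (hP : (stalkIdeal (Models.specialFibreIdeal R X) x).IsPrime) :
    (∃! i, x ∈ Set.range ((Γ i).ι.base : (Γ i).curve.left → X.left)) ∧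
      ∀ i, x ∈ Set.range ((Γ i).ι.base : (Γ i).curve.left → X.left) → Models.mult R X (Γ i) = 1 := by
  classical
  haveI := hX x
  haveI := CMFree.isDomain_of_isRegularLocalRing (X.left.presheaf.stalk x)
  obtain ⟨f, hf, hF⟩ := exists_stalk_generator (isEffCartier_fibre (X := X)) x
  choose γ hγ hγI using fun j => exists_stalk_generator (isEffCartier_ker (isMaxComp hΓ j) hX) x
  have hprod : Ideal.span {f} = Ideal.span {∏ j, γ j ^ Models.mult R X (Γ j)} := by
    rw [← hF, fibre_eq_prod hΓ hX]
    show DivPart.stalkHom x _ = _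
    rw [map_prod, ← Ideal.prod_span_singleton]
    refine Finset.prod_congr rfl fun j _ => ?_
    rw [map_pow, ← Ideal.span_singleton_pow, ← hγI]
    rfl
  have hpf : Prime (∏ j, γ j ^ Models.mult R X (Γ j)) := by
    rw [hF, hprod] at hP
    exact (Ideal.span_singleton_prime (Finset.prod_ne_zero_iff.2 fun j _ =>
      pow_ne_zero _ (nonZeroDivisors.ne_zero (hγ j)))).1 hP
  have hu : ∀ j, x ∈ Set.range ((Γ j).ι.base : (Γ j).curve.left → X.left) ↔ ¬ IsUnit (γ j) := fun j => by
    rw [← support_ker, ← Ideal.span_singleton_eq_top, ← hγI, stalkIdeal_eq_top_iff, not_not]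
    rfl
  obtain ⟨i, hi⟩ := exists_mem_range hΓ hx
  have hsplit := (Finset.mul_prod_erase Finset.univ (fun j => γ j ^ Models.mult R X (Γ j)) (Finset.mem_univ i)).symm
  have hnu : ¬ IsUnit (γ i ^ Models.mult R X (Γ i)) := fun h =>
    (hu i).1 hi ((isUnit_pow_iff (mult_pos (isMaxComp hΓ i) hX).ne').1 h)
  have hrest : IsUnit (∏ j ∈ Finset.univ.erase i, γ j ^ Models.mult R X (Γ j)) :=
    (hpf.irreducible.isUnit_or_isUnit hsplit).resolve_left hnu
  have huniq : ∀ j, x ∈ Set.range ((Γ j).ι.base : (Γ j).curve.left → X.left) → j = i := fun j hj => by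
    by_contra hne
    exact (hu j).1 hj ((isUnit_pow_iff (mult_pos (isMaxComp hΓ j) hX).ne').1
      (isUnit_of_dvd_unit (Finset.dvd_prod_of_mem (fun k => γ k ^ Models.mult R X (Γ k)) (Finset.mem_erase.2 ⟨hne, Finset.mem_univ j⟩)) hrest))
  refine ⟨⟨i, hi, huniq⟩, fun j hj => ?_⟩
  obtain rfl := huniq j hj
  by_contra hm
  obtain ⟨m, hm'⟩ : ∃ m, Models.mult R X (Γ j) = m + 2 :=
    ⟨Models.mult R X (Γ j) - 2, by have := mult_pos (isMaxComp hΓ j) hX; omega⟩
  have h2 : IsUnit (γ j) ∨ IsUnit (γ j ^ (m + 1) * ∏ k ∈ Finset.univ.erase j, γ k ^ Models.mult R X (Γ k)) :=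
    hpf.irreducible.isUnit_or_isUnit (by rw [hsplit, hm']; ring)
  rcases h2 with h | h
  · exact (hu j).1 hj h
  · exact (hu j).1 hj ((isUnit_pow_iff (Nat.succ_ne_zero m)).1 (isUnit_of_mul_isUnit_left h))

/-- The constants of a component with a rational point. -/
theorem wdeg_eq_one_of_rational {i : Fin n} {x : X.left}
    (hi : x ∈ Set.range ((Γ i).ι.base : (Γ i).curve.left → X.left))
    (hrat : Function.Surjective ((X.left.residue x).hom.comp (Models.stalkHom R X x))) :
    Models.wdeg R X (Γ i) = 1 := by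
  obtain ⟨z, rfl⟩ := hi
  haveI := (Γ i).isClosedImmersion
  haveI := (Γ i).isIntegral
  haveI := isProper_curve (Γ i)
  letI := GlobalConst.algΓ (ResidueField R) (X := (Γ i).curve.left)
  letI := Curv2.resAlgebra (ResidueField R) (Γ i).curve.left z
  have hdvd := GlobalConst.dvd_finrank_residueField (ResidueField R) (isField_constants (Γ i)) z
  have hsurj : Function.Surjective (algebraMap (ResidueField R) ((Γ i).curve.left.residueField z)) := by
    intro y
    obtain ⟨a', rfl⟩ := IsLocalRing.residue_surjective (R := (Γ i).curve.left.presheaf.stalk z) y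
    obtain ⟨b', rfl⟩ := (Γ i).ι.stalkMap_surjective z a'
    obtain ⟨y', hy'⟩ : ∃ y', (Γ i).ι.residueFieldMap z y' =
        (Γ i).curve.left.residue z ((Γ i).ι.stalkMap z b') :=
      ⟨X.left.residue ((Γ i).ι z) b', ConcreteCategory.congr_hom (Scheme.residue_residueFieldMap (Γ i).ι z) b'⟩
    change ∃ a, algebraMap (ResidueField R) ((Γ i).curve.left.residueField z) a =
      (Γ i).curve.left.residue z ((Γ i).ι.stalkMap z b')
    rw [← hy']
    obtain ⟨r, hr⟩ := hrat y'
    refine ⟨residue R r, ?_⟩
    rw [← hr]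
    show (Γ i).curve.left.residue z ((Γ i).curve.left.presheaf.germ ⊤ z trivial
        (Coh.toGlobal (Γ i).curve.hom (residue R r))) =
      (Γ i).ι.residueFieldMap z (X.left.residue _ (X.left.presheaf.germ ⊤ ((Γ i).ι z) trivial (Coh.toGlobal X.hom r)))
    refine Eq.trans ?_ (ConcreteCategory.congr_hom (Scheme.residue_residueFieldMap (Γ i).ι z)
      (X.left.presheaf.germ ⊤ ((Γ i).ι z) trivial (Coh.toGlobal X.hom r))).symm
    refine congrArg ((Γ i).curve.left.residue z) ?_
    refine Eq.trans ?_ ((Γ i).ι.germ_stalkMap_apply ⊤ z trivial (Coh.toGlobal X.hom r)).symm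
    refine congrArg ((Γ i).curve.left.presheaf.germ ⊤ z trivial) ?_
    have h := congrArg (fun f => f.appTop ((Scheme.ΓSpecIso (CommRingCat.of R)).inv r)) (Γ i).w
    refine Eq.trans ?_ h.symm
    rw [Scheme.Hom.comp_appTop]
    refine congrArg ((Γ i).curve.hom.appTop) ?_
    exact (ConcreteCategory.congr_hom (Scheme.ΓSpecIso_inv_naturality (CommRingCat.ofHom (residue R))) r)
  have e : (ResidueField R) ≃ₗ[ResidueField R] ((Γ i).curve.left.residueField z : Type u) :=
    LinearEquiv.ofBijective (Algebra.linearMap _ _) ⟨RingHom.injective _, hsurj⟩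
  rw [← e.finrank_eq, Module.finrank_self, ← wdeg_eq] at hdvd
  exact Nat.dvd_one.1 hdvd

omit hΓ in
/-- A point of the generic fibre extends to a section. -/
theorem exists_section_of_point (s : Spec (CommRingCat.of (FractionRing R)) ⟶ X.left)
    (hs : s ≫ X.hom = Spec.map (CommRingCat.ofHom (algebraMap R (FractionRing R)))) :
    ∃ σ : Spec (CommRingCat.of R) ⟶ X.left, σ ≫ X.hom = 𝟙 _ := by
  have hval : ValuativeCriterion X.hom := by
    have h := ‹IsProper X.hom›
    rw [IsProper.eq_valuativeCriterion] at h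
    exact h.1.1.1
  let S : ValuativeCommSq X.hom :=
    { R := R, K := FractionRing R, i₁ := s, i₂ := 𝟙 _, commSq := ⟨by rw [hs, Category.comp_id]⟩ }
  haveI := hval.existence S
  exact ⟨S.commSq.lift, S.commSq.fac_right⟩

end GrothLib.ArSurf29
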