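import Groth.Agent.Lib.ArSurf29.Form
import Groth.Agent.Lib.ArSurf29.Global
import Groth.Agent.Lib.Goodman.Effective
import Groth.Agent.Lib.VA.Disjoint
import Groth.Agent.Lib.VA.UnitGen
import Groth.Agent.Lib.TensorGen.Basic
import Groth.Agent.Lib.QCoh.Qcqs

/-!
# Invertible modules trivial on the generic fibre
-/

set_option autoImplicit false
set_option linter.all false
set_option backward.isDefEq.respectTransparency false

universe u

open CategoryTheory CategoryTheory.Limits AlgebraicGeometry TopologicalSpace IsLocalRing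

noncomputable section

namespace GrothLib.ArSurf29

open GrothLib.Cube (Pic clsMod)
open GrothLib.HodgeIndex (rep isInv_rep cls_rep)
open GrothLib.CartierDescent (stalkIdeal stalkIdeal_eq stalkIdeal_eq_top_iff stalkIdeal_map_specializes exists_stalk_generator)
open GrothLib.QCoh (stalkLin)
open GrothLib.InvExt (mres IsGen)

section

variable {X : Scheme.{u}}

theorem goodman_st_eq (I : X.IdealSheafData) (x : X) : Goodman.st I x = stalkIdeal I x := by
  obtain ⟨V, hx, -⟩ := GrothLib.BlowUp.exists_affine_mem_le (W := (⊤ : X.Opens)) (x := x) trivial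
  rw [Goodman.st_eq I V hx, stalkIdeal_eq I V hx]

theorem range_stalkLin_eq_span {M : X.Modules} (f : M ⟶ Coh.structureModule X) {x : X} {t : M.presheaf.stalk x}
    (ht : Ref1.Gen M x t) {a : X.presheaf.stalk x} (ha : stalkLin f x t = HomSh.unitStalk x a) :
    LinearMap.range (stalkLin f x) = Submodule.map (HomSh.unitStalk x).toLinearMap (Ideal.span {a}) := by
  ext w
  constructor
  · rintro ⟨v, rfl⟩
    obtain ⟨c, rfl⟩ := ht.2 v
    refine ⟨c * a, Ideal.mem_span_singleton'.2 ⟨c, rfl⟩, ?_⟩
    show HomSh.unitStalk x (c * a) = stalkLin f x (c • t)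
    rw [map_smul, ha, ← map_smul, smul_eq_mul]
  · rintro ⟨b, hb, rfl⟩
    obtain ⟨c, rfl⟩ := Ideal.mem_span_singleton'.1 hb
    refine ⟨c • t, ?_⟩
    show stalkLin f x (c • t) = HomSh.unitStalk x (c * a)
    rw [map_smul, ha, ← map_smul, smul_eq_mul]

variable [IsLocallyNoetherian X]

/-- Divisibility at a point of a normal scheme is decided in codimension at most one. -/
theorem mem_span_of_codim_one (hX : Pi1.IsNormalScheme X) {x : X} {a b : X.presheaf.stalk x}
    (h : ∀ (y : X) (hy : y ⤳ x), ringKrullDim (X.presheaf.stalk y) ≤ 1 →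
      Ref1.spR hy b ∈ Ideal.span {Ref1.spR hy a}) : b ∈ Ideal.span {a} := by
  obtain ⟨_, _⟩ := hX x
  rcases eq_or_ne a 0 with rfl | ha
  · obtain ⟨y, hy, hP, -⟩ := CartierDescent.exists_specializes_eq x (⊥ : Ideal (X.presheaf.stalk x))
    have hd : ringKrullDim (X.presheaf.stalk y) ≤ 1 := by
      rw [ringKrullDim_stalk_eq_height_of_specializes hy, ← hP, Ideal.height_bot]
      exact zero_le_one
    obtain ⟨u, hu, hub⟩ := CartierDescent.exists_of_mem_span_stalkSpecializes hy (h y hy hd)
    rw [← hP, Ideal.mem_bot] at hu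
    rw [Ideal.span_singleton_zero, Ideal.mem_bot] at hub ⊢
    exact (mul_eq_zero.1 hub).resolve_left hu
  · by_contra hne
    obtain ⟨P, hP, hPle⟩ := exists_le_isAssociatedPrime_of_isNoetherianRing (X.presheaf.stalk x)
      (Ideal.Quotient.mk (Ideal.span {a}) b) (fun h0 => hne (Ideal.Quotient.eq_zero_iff_mem.1 h0))
    haveI := hP.isPrime
    obtain ⟨y, hy, hPeq, -⟩ := CartierDescent.exists_specializes_eq x P
    have hd : ringKrullDim (X.presheaf.stalk y) ≤ 1 := by
      rw [ringKrullDim_stalk_eq_height_of_specializes hy, ← hPeq,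
        NormalSerre.height_eq_one_of_mem_associatedPrimes ha hP]
      exact le_rfl
    obtain ⟨u, hu, hub⟩ := CartierDescent.exists_of_mem_span_stalkSpecializes hy (h y hy hd)
    refine hu (hPeq ▸ hPle ?_)
    rw [Submodule.mem_colon_singleton, Submodule.mem_bot]
    show u • Ideal.Quotient.mk _ b = 0
    rw [Algebra.smul_def, Ideal.Quotient.algebraMap_eq, ← map_mul, Ideal.Quotient.eq_zero_iff_mem]
    exact hub

/-- A map of an invertible module to `O` with the image of a divisor in codimension one identifies it with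
the module of that divisor. -/
theorem nonempty_iso_idealMod_of_codim_one (hX : Pi1.IsNormalScheme X) {M : X.Modules} (hM : PicF.IsInvertible M)
    (f : M ⟶ Coh.structureModule X) {A : X.IdealSheafData} (hA : _root_.BlowUp.IsEffCartierIdeal A)
    (h : ∀ y : X, ringKrullDim (X.presheaf.stalk y) ≤ 1 →
      LinearMap.range (stalkLin f y) = Submodule.map (HomSh.unitStalk y).toLinearMap (stalkIdeal A y)) :
    Nonempty (M ≅ ClSub.idealMod A) := by
  haveI hm : Mono (ClSub.idealModι A) := inferInstanceAs (Mono (kernel.ι (ClSub.toSubscheme A)))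
  have main : ∀ x : X, Function.Injective (stalkLin f x) ∧
      LinearMap.range (stalkLin f x) = LinearMap.range (stalkLin (ClSub.idealModι A) x) := by
    intro x
    obtain ⟨_, _⟩ := hX x
    obtain ⟨V, e, hxV, he⟩ := InvExt.exists_gen_nhd hM x
    obtain ⟨a, ha⟩ := (HomSh.unitStalk x).surjective (stalkLin f x (M.presheaf.germ V x hxV e))
    obtain ⟨γ, hγ, hA'⟩ := exists_stalk_generator hA x
    have hsp : ∀ (y : X) (hy : y ⤳ x), ringKrullDim (X.presheaf.stalk y) ≤ 1 →
        Ideal.span {Ref1.spR hy a} = Ideal.span {Ref1.spR hy γ} := fun y hy hd => by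
      have hv : stalkLin f y (M.presheaf.germ V y (hy.mem_open V.2 hxV) e) =
          HomSh.unitStalk y (Ref1.spR hy a) := by
        rw [← Ref1.sp_germ M hy hxV e]
        refine (Ref1.stalkMapₗ_sp M (φ := f) (h := hy) _).trans ?_
        rw [show RefHull.stalkMapₗ f x (M.presheaf.germ V x hxV e) = HomSh.unitStalk x a from ha.symm,
          Ref1.sp_unitStalk]
      have e1 := (range_stalkLin_eq_span f (Ref1.gen_of_isGen he (hy.mem_open V.2 hxV)) hv).symm.trans (h y hd)
      refine (Submodule.map_injective_of_injective (HomSh.unitStalk y).injective e1).trans ?_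
      rw [← stalkIdeal_map_specializes A hy, hA', Ideal.map_span, Set.image_singleton]
    have hspan : Ideal.span {a} = Ideal.span {γ} := le_antisymm
      ((Ideal.span_singleton_le_iff_mem _).2 (mem_span_of_codim_one hX fun y hy hd =>
        (hsp y hy hd).le (Ideal.mem_span_singleton_self _)))
      ((Ideal.span_singleton_le_iff_mem _).2 (mem_span_of_codim_one hX fun y hy hd =>
        (hsp y hy hd).ge (Ideal.mem_span_singleton_self _)))
    have ht := Ref1.gen_of_isGen he hxV
    refine ⟨(injective_iff_map_eq_zero _).2 fun v hv => ?_, ?_⟩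
    · obtain ⟨c, rfl⟩ := ht.2 v
      simp only at hv ⊢
      rw [map_smul, ← ha, ← map_smul, ← map_zero (HomSh.unitStalk x), (HomSh.unitStalk x).injective.eq_iff,
        smul_eq_mul] at hv
      have ha0 : a ≠ 0 := fun h0 => nonZeroDivisors.ne_zero hγ (by
        rw [h0, Ideal.span_singleton_zero, eq_comm, Ideal.span_singleton_eq_bot] at hspan
        exact hspan)
      rw [(mul_eq_zero.1 hv).resolve_right ha0, zero_smul]
    · rw [range_stalkLin_eq_span f ht ha.symm, hspan, HodgeIndex.range_idealModι, goodman_st_eq, hA']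
  exact HodgeIndex.nonempty_iso_of_range_eq f _ hm (fun x => (main x).1) fun x => (main x).2

omit [IsLocallyNoetherian X] in
/-- The dual map of a section. -/
theorem exists_hom_of_section {M : X.Modules} (hM : PicF.IsInvertible M) (s : Coh.structureModule X ⟶ M) :
    ∃ f : rep (clsMod hM)⁻¹ ⟶ Coh.structureModule X, ∀ x, Ref1.Gen M x (stalkLin s x (HomSh.unitStalk x 1)) →
      Function.Bijective (stalkLin f x) := by
  let M' := rep (clsMod hM)⁻¹
  have hM' : PicF.IsInvertible M' := isInv_rep _
  obtain ⟨e3⟩ := (Cube.clsMod_eq_one_iff (Ample.isInvertible_tensorMod hM' hM)).1 (by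
    rw [Cube.clsMod_tensorMod hM' hM, cls_rep, inv_mul_cancel])
  let g := ((DCoh.tensorBi (X := X)).obj M').map s
  let e := Euler.tFUnitIso M'
  refine ⟨e.inv ≫ g ≫ e3.hom, fun x hx => ?_⟩
  have hb : ∀ {A B : X.Modules} (φ : A ⟶ B) [IsIso φ], Function.Bijective (stalkLin φ x) := fun φ _ =>
    (ConcreteCategory.isIso_iff_bijective ((OX.stalk x).map φ)).1 inferInstance
  have hg : Function.Bijective (stalkLin g x) := by
    refine (Function.Bijective.of_comp_iff (stalkLin g x)
      (TensorGen.bijective_tmulStalk M' (Coh.structureModule X) (Ref1.gen_unitStalk x))).1 ?_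
    rw [show stalkLin g x ∘ (fun v => Ref1.tmulStalk M' (Coh.structureModule X) x v (HomSh.unitStalk x 1)) =
      fun v => Ref1.tmulStalk M' M x v (stalkLin s x (HomSh.unitStalk x 1)) from
        funext fun v => Goodman.stalkLin_tensor_tmul M' s x v _]
    exact TensorGen.bijective_tmulStalk M' M hx
  rw [show ⇑(stalkLin (e.inv ≫ g ≫ e3.hom) x) = ⇑(stalkLin e3.hom x) ∘ ⇑(stalkLin g x) ∘ ⇑(stalkLin e.inv x) from
    funext fun v => (HodgeIndex.stalkLin_comp_apply _ _ x v).trans (HodgeIndex.stalkLin_comp_apply _ _ x _)]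
  exact (hb e3.hom).comp (hg.comp (hb e.inv))

end

variable {R : Type u} [CommRing R] [IsDomain R] [IsDiscreteValuationRing R]
  {X : Over (Spec (CommRingCat.of R))} {C : Scheme.{u}} {f : C ⟶ Spec (CommRingCat.of (FractionRing R))}
  {g : C ⟶ X.left} (hg : IsPullback g f X.hom (Spec.map (CommRingCat.ofHom (algebraMap R (FractionRing R)))))
  [IsProper X.hom]
include hg

/-- An invertible module trivial on the generic fibre has a section generating there. -/
theorem exists_section_gen {M : X.left.Modules} (hM : PicF.IsInvertible M)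
    (htriv : Nonempty ((Scheme.Modules.pullback g).obj M ≅ Coh.structureModule C)) :
    ∃ s : Coh.structureModule X.left ⟶ M, ∀ x ∉ Models.specialFibreSet R X,
      Ref1.Gen M x (stalkLin s x (HomSh.unitStalk x 1)) := by
  haveI := isOpenImmersion_generic hg
  obtain ⟨π, hπ⟩ := IsDiscreteValuationRing.exists_irreducible R
  obtain ⟨φ⟩ := htriv
  let ψ : M.restrict g ≅ Coh.structureModule C := (Scheme.Modules.restrictFunctorIsoPullback g).app M ≪≫ φ
  have he := VA.isGen_map_iso ψ.inv (TensorGen.isGen_one (X := C) ⊤)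
  have he' := VA.isGen_of_restrict g (ψ.inv.app ⊤ (FinCov.one C ⊤)) he
  let a : Γ(X.left, ⊤) := Coh.toGlobal X.hom π
  have hB : X.left.basicOpen a ≤ g ''ᵁ ⊤ := fun x hx => by
    have h1 : x ∈ Set.range g.base := by
      rw [range_generic hg, ← basicOpen_unif hπ]
      exact hx
    obtain ⟨c, rfl⟩ := h1
    exact ⟨c, trivial, rfl⟩
  have hs := he'.restrict hB
  haveI : M.IsQuasicoherent := InvExt.isQuasicoherent_of_isInvertible hM
  haveI : CompactSpace X.left := QuasiCompact.compactSpace_of_compactSpace X.hom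
  haveI : QuasiSeparatedSpace X.left := quasiSeparatedSpace_of_quasiSeparated X.hom
  obtain ⟨N, t, ht⟩ := QCoh.smulLift_of_isCompact M (U := ⊤) isCompact_univ isQuasiSeparated_univ a _
  have hgen : IsGen M (X.left.basicOpen a) (mres M (X.left.basicOpen_le a) t) := by
    show IsGen M _ (M.presheaf.map (homOfLE (X.left.basicOpen_le a)).op t)
    rw [ht]
    exact hs.smul_unit ((RingedSpace.isUnit_res_basicOpen X.left.toRingedSpace a).pow N)
  refine ⟨FinCov.homOfSection t, fun x hx => ?_⟩
  have hxB : x ∈ X.left.basicOpen a := by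
    have : x ∈ (Models.specialFibreSet R X)ᶜ := hx
    rw [← basicOpen_unif hπ] at this
    exact this
  have hval : stalkLin (FinCov.homOfSection t) x (HomSh.unitStalk x 1) = M.presheaf.germ ⊤ x trivial t := by
    show stalkLin (FinCov.homOfSection t) x
      ((1 : X.left.presheaf.stalk x) • (Coh.structureModule X.left).presheaf.germ ⊤ x trivial (FinCov.one X.left ⊤)) = _
    rw [one_smul, QCoh.stalkLin_germ, FinCov.homOfSection_one]
    exact congrArg _ (InvExt.mres_self M t)
  rw [hval, ← TopCat.Presheaf.germ_res_apply M.presheaf (homOfLE (X.left.basicOpen_le a)) x hxB t]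
  exact Ref1.gen_of_isGen hgen hxB

variable [Flat X.hom] [IsLocallyNoetherian X.left] (hX : Models.IsRegularScheme X.left)
  {n : ℕ} {Γ : Fin n → ArSurf.VertComp R X} (hΓ : Models.IsComponentList R X Γ)
include hX hΓ

/-- An invertible module trivial on the generic fibre is inverse to the ideal of a vertical divisor. -/
theorem exists_prod_of_trivial {M : X.left.Modules} (hM : PicF.IsInvertible M)
    (htriv : Nonempty ((Scheme.Modules.pullback g).obj M ≅ Coh.structureModule C)) :
    ∃ (a : Fin n → ℕ) (h : PicF.IsInvertible (ClSub.idealMod (∏ i, (Γ i).ι.ker ^ a i))),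
      clsMod hM = (clsMod h)⁻¹ := by
  obtain ⟨s, hs⟩ := exists_section_gen hg hM htriv
  obtain ⟨φ, hφ⟩ := exists_hom_of_section hM s
  let M' := rep (clsMod hM)⁻¹
  have hM' : PicF.IsInvertible M' := isInv_rep _
  have hex : ∀ i, ∃ k : ℕ, LinearMap.range (stalkLin φ (Models.genPtOf R X (Γ i))) =
      Submodule.map (HomSh.unitStalk (Models.genPtOf R X (Γ i))).toLinearMap
        (maximalIdeal (X.left.presheaf.stalk (Models.genPtOf R X (Γ i))) ^ k) := fun i => by
    obtain ⟨_, _⟩ := isDVR_genPt (isMaxComp hΓ i) hX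
    obtain ⟨V, e, hzV, he⟩ := InvExt.exists_gen_nhd hM' (Models.genPtOf R X (Γ i))
    obtain ⟨a, ha⟩ := (HomSh.unitStalk _).surjective (stalkLin φ _ (M'.presheaf.germ V _ hzV e))
    have ha0 : a ≠ 0 := fun h0 => by
      obtain ⟨y, hy, hP, -⟩ := CartierDescent.exists_specializes_eq (Models.genPtOf R X (Γ i))
        (⊥ : Ideal (X.left.presheaf.stalk (Models.genPtOf R X (Γ i))))
      have hyF : y ∉ Models.specialFibreSet R X := fun hyF => by
        obtain rfl := eq_genPt (isMaxComp hΓ i) hyF hy
        have hd := dim_genPt (X := X) (isMaxComp hΓ i)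
        rw [ringKrullDim_stalk_eq_height_of_specializes hy, ← hP, Ideal.height_bot] at hd
        exact zero_ne_one hd
      have hyV := hy.mem_open V.2 hzV
      have hv : stalkLin φ y (M'.presheaf.germ V y hyV e) = 0 := by
        rw [← Ref1.sp_germ M' hy hzV e]
        refine (Ref1.stalkMapₗ_sp M' (φ := φ) (h := hy) _).trans ?_
        rw [show RefHull.stalkMapₗ φ _ (M'.presheaf.germ V _ hzV e) = HomSh.unitStalk _ a from ha.symm,
          Ref1.sp_unitStalk, h0, map_zero, map_zero]
      have h1 := (hφ y (hs y hyF)).1 (hv.trans (map_zero _).symm)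
      have h2 := (Ref1.gen_of_isGen he hyV).1 (a₁ := (1 : X.left.presheaf.stalk y)) (a₂ := 0)
        (by simp only [one_smul, zero_smul, h1])
      exact one_ne_zero h2
    obtain ⟨ϖ, hϖ⟩ := IsDiscreteValuationRing.exists_irreducible (X.left.presheaf.stalk (Models.genPtOf R X (Γ i)))
    obtain ⟨k, hk⟩ := IsDiscreteValuationRing.associated_pow_irreducible ha0 hϖ
    refine ⟨k, ?_⟩
    rw [range_stalkLin_eq_span φ (Ref1.gen_of_isGen he hzV) ha.symm, hϖ.maximalIdeal_eq, Ideal.span_singleton_pow,
      Ideal.span_singleton_eq_span_singleton.2 hk]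
  choose a ha using hex
  have hA := isEffCartier_prod hΓ hX a
  refine ⟨a, IdealModSec.isInvertible_of_isEffCartier hA, ?_⟩
  obtain ⟨e⟩ := nonempty_iso_idealMod_of_codim_one (isNormalScheme_of_regular hX) hM' φ hA fun y hy => by
    by_cases hyF : y ∈ Models.specialFibreSet R X
    · obtain ⟨_, _⟩ := isNormalScheme_of_regular hX y
      have hdim : ringKrullDim (X.left.presheaf.stalk y) = 1 := by
        refine le_antisymm hy ?_
        by_contra h1
        haveI : Ring.KrullDimLE 0 (X.left.presheaf.stalk y) := by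
          refine Ring.krullDimLE_iff.2 ?_
          rw [not_le] at h1
          revert h1
          rcases ringKrullDim (X.left.presheaf.stalk y) with _ | d
          · exact fun _ => bot_le
          · intro h1
            have h2 : d < 1 := WithBot.coe_lt_coe.1 h1
            exact WithBot.coe_le_coe.2 (Order.lt_one_iff.1 h2).le
        obtain ⟨γ, hγ, hF⟩ := exists_stalk_generator (isEffCartier_fibre (X := X)) y
        obtain ⟨δ, hδ⟩ := (Ring.KrullDimLE.isField_of_isDomain (R := X.left.presheaf.stalk y)).mul_inv_cancel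
          (nonZeroDivisors.ne_zero hγ)
        refine (stalkIdeal_eq_top_iff _ _).1 ?_ ((support_fibre (X := X)).ge hyF)
        rw [hF]
        exact Ideal.span_singleton_eq_top.2 (IsUnit.of_mul_eq_one δ hδ)
      obtain ⟨j, rfl⟩ := exists_eq_genPt hΓ hX hdim hyF
      rw [ha j, st_prod_genPt hΓ hX]
    · rw [LinearMap.range_eq_top.2 (hφ y (hs y hyF)).2,
        show stalkIdeal (∏ i, (Γ i).ι.ker ^ a i) y = ⊤ by
          show DivPart.stalkHom _ (∏ i, (Γ i).ι.ker ^ a i) = _
          rw [map_prod]
          refine (Finset.prod_eq_one fun i _ => ?_).trans Ideal.one_eq_top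
          rw [map_pow, show DivPart.stalkHom _ (Γ i).ι.ker = ⊤ from
            (stalkIdeal_eq_top_iff _ _).2 fun h => hyF (range_subset_fibre _ ((support_ker (Γ i)).le h)),
            Ideal.top_pow, Ideal.one_eq_top], Submodule.map_top, LinearEquiv.range]
  rw [← (Cube.clsMod_eq_iff hM' _).2 ⟨e⟩, cls_rep, inv_inv]

end GrothLib.ArSurf29
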