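import Groth.Agent.Lib.ArSurf29.Form
import Groth.Agent.Lib.ArSurf29.Points

/-!
# Vertical prime divisors without a full list of components
-/

set_option autoImplicit false
set_option linter.all false
set_option backward.isDefEq.respectTransparency false

universe u

open CategoryTheory CategoryTheory.Limits AlgebraicGeometry TopologicalSpace IsLocalRing

noncomputable section

namespace GrothLib.ArSurf29

open GrothLib.Cube (Pic clsMod)
open GrothLib.HodgeIndex (rep isInv_rep cls_rep)

variable {R : Type u} [CommRing R] [IsDomain R] [IsDiscreteValuationRing R]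
  {X : Over (Spec (CommRingCat.of R))}

open Classical in
/-- The class of `O(closure z)`, for a maximal point `z` of the closed fibre. -/
def ptCls (z : X.left) : Pic X.left :=
  if h : PicF.IsInvertible (ClSub.idealMod (ptIdeal z)) then (clsMod h)⁻¹ else 1

theorem mult_eq' (Γ : ArSurf.VertComp R X) :
    Models.mult R X Γ = oAt (Models.specialFibreIdeal R X) (Models.genPtOf R X Γ) := by
  rw [oAt, st_fibre]
  rfl

variable [IsProper X.hom] [Flat X.hom] [IsLocallyNoetherian X.left] (hX : Models.IsRegularScheme X.left)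
include hX

omit [IsProper X.hom] in
theorem ptCls_eq {z : X.left} (hz : IsMaxPt z) :
    ptCls z = (clsMod (IdealModSec.isInvertible_of_isEffCartier (isEffCartier_ptIdeal hX hz)))⁻¹ :=
  dif_pos _

theorem inter_eq_icl_ptCls {Γ Γ' : ArSurf.VertComp R X} (hΓ' : IsMaxComp Γ') {L : X.left.Modules}
    (hL : ClSub.IsInverseOf L (ClSub.idealMod Γ'.ι.ker)) :
    ArSurf.inter R X L Γ = icl Γ (ptCls (Models.genPtOf R X Γ')) := by
  rw [ker_eq_ptIdeal] at hL
  have hD := isEffCartier_ptIdeal hX (isMaxPt_genPt hΓ')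
  rw [inter_eq_icl Γ (isInvertible_of_isInverseOf hD hL), ptCls_eq hX (isMaxPt_genPt hΓ'),
    cls_of_isInverseOf _ (IdealModSec.isInvertible_of_isEffCartier hD) hL]

/-- The part of the closed fibre supported on a set of components, up to the other components. -/
theorem exists_rest (C : Finset X.left) (hC : ∀ z ∈ C, IsMaxPt z) :
    ∃ (E : X.left.IdealSheafData) (hE : _root_.BlowUp.IsEffCartierIdeal E), (∀ z ∈ C, z ∉ E.support) ∧
      ∏ z ∈ C, ptCls z ^ oAt (Models.specialFibreIdeal R X) z =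
        clsMod (IdealModSec.isInvertible_of_isEffCartier hE) := by
  classical
  haveI : CompactSpace X.left := QuasiCompact.compactSpace_of_compactSpace X.hom
  obtain ⟨T, hT, hF⟩ := exists_fibre_eq_prod_pts (X := X) hX
  have hCT : C ⊆ T := fun z hz => (hT z).2 (hC z hz)
  let a := fun z => oAt (Models.specialFibreIdeal R X) z
  have hTC : ∀ z ∈ T \ C, IsMaxPt z := fun z hz => (hT z).1 (Finset.mem_sdiff.1 hz).1
  have hE := isEffCartier_prod_pts hX (T \ C) hTC a
  refine ⟨∏ z ∈ T \ C, ptIdeal z ^ a z, hE, fun z hz => notMem_support_prod_pts (hC z hz) _ hTC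
    (fun h => (Finset.mem_sdiff.1 h).2 hz) a, ?_⟩
  have hP := isEffCartier_prod_pts hX C hC a
  have hEi := IdealModSec.isInvertible_of_isEffCartier hE
  have hPi := IdealModSec.isInvertible_of_isEffCartier hP
  have hFi := IdealModSec.isInvertible_of_isEffCartier (isEffCartier_fibre (X := X))
  have hEP := IdealModSec.isInvertible_of_isEffCartier (GrothLib.BlowUp.isEffCartierIdeal_mul hE hP)
  have h1 : clsMod hEi * clsMod hPi = 1 := by
    rw [← HodgeIndex.cls_idealMod_mul hEP hEi hPi]
    exact (cls_idealMod_congr (by rw [hF, Finset.prod_sdiff hCT]) hEP hFi).trans (cls_fibre hFi)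
  have h2 : (∏ z ∈ C, ptCls z ^ a z)⁻¹ = clsMod hPi := by
    have key : ∀ S : Finset X.left, (hS : ∀ z ∈ S, IsMaxPt z) →
        ∃ h : PicF.IsInvertible (ClSub.idealMod (∏ z ∈ S, ptIdeal z ^ a z)),
          clsMod h = (∏ z ∈ S, ptCls z ^ a z)⁻¹ := by
      intro S hS
      induction S using Finset.induction with
      | empty =>
        have h : PicF.IsInvertible (ClSub.idealMod (⊤ : X.left.IdealSheafData)) :=
          IdealModSec.isInvertible_of_isEffCartier GrothLib.BlowUp.isEffCartierIdeal_top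
        rw [Finset.prod_empty, Scheme.IdealSheafData.one_eq_top]
        exact ⟨h, by rw [Finset.prod_empty, inv_one]; exact HodgeIndex.cls_idealMod_top h⟩
      | insert z S hzS ih =>
        obtain ⟨h, e⟩ := ih fun w hw => hS w (Finset.mem_insert_of_mem hw)
        have hz := hS z (Finset.mem_insert_self z S)
        obtain ⟨h', e'⟩ := cls_idealMod_pow (isEffCartier_ptIdeal hX hz) (a z)
        have h1 : PicF.IsInvertible (ClSub.idealMod (ptIdeal z ^ a z * ∏ w ∈ S, ptIdeal w ^ a w)) :=
          IdealModSec.isInvertible_of_isEffCartier (GrothLib.BlowUp.isEffCartierIdeal_mul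
            (IdealModSec.isEffCartier_of_isInvertible h') (IdealModSec.isEffCartier_of_isInvertible h))
        rw [Finset.prod_insert hzS]
        refine ⟨h1, ?_⟩
        rw [HodgeIndex.cls_idealMod_mul h1 h' h, e', e, Finset.prod_insert hzS, ptCls_eq hX hz, mul_inv, inv_pow,
          inv_inv]
    exact (key C hC).choose_spec.symm
  rw [← h2] at h1
  exact (mul_inv_eq_one.1 h1).symm

/-- The fibre meets a component non-positively on any set of components containing it. -/
theorem sum_rel {Γ : ArSurf.VertComp R X} (C : Finset X.left) (hC : ∀ z ∈ C, IsMaxPt z)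
    (hξ : Models.genPtOf R X Γ ∈ C) :
    ∃ E : X.left.IdealSheafData,
      (∑ z ∈ C, (oAt (Models.specialFibreIdeal R X) z : ℤ) * icl Γ (ptCls z) =
        -(Models.lengthH R X (ClSub.quotMod (E ⊔ Γ.ι.ker)) 0 : ℤ)) ∧
      ∀ Γ' : ArSurf.VertComp R X, Models.genPtOf R X Γ' = Models.genPtOf R X Γ →
        ∑ z ∈ C, (oAt (Models.specialFibreIdeal R X) z : ℤ) * icl Γ' (ptCls z) =
        -(Models.lengthH R X (ClSub.quotMod (E ⊔ Γ'.ι.ker)) 0 : ℤ) := by
  obtain ⟨E, hE, hmem, he⟩ := exists_rest hX C hC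
  have key : ∀ Γ' : ArSurf.VertComp R X, Models.genPtOf R X Γ' = Models.genPtOf R X Γ →
      ∑ z ∈ C, (oAt (Models.specialFibreIdeal R X) z : ℤ) * icl Γ' (ptCls z) =
      -(Models.lengthH R X (ClSub.quotMod (E ⊔ Γ'.ι.ker)) 0 : ℤ) := by
    intro Γ' hΓ'
    have h := congrArg (icl Γ') he
    rw [icl_prod] at h
    simp only [icl_pow] at h
    rw [h]
    let L := rep (clsMod (IdealModSec.isInvertible_of_isEffCartier hE))⁻¹
    have hL : ClSub.IsInverseOf L (ClSub.idealMod E) :=
      (Cube.clsMod_eq_one_iff (Ample.isInvertible_tensorMod (isInv_rep _)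
        (IdealModSec.isInvertible_of_isEffCartier hE))).1
        (by rw [Cube.clsMod_tensorMod (isInv_rep _) (IdealModSec.isInvertible_of_isEffCartier hE), cls_rep,
          inv_mul_cancel])
    rw [← inter_eq_lengthH Γ' hE (hΓ' ▸ hmem _ hξ) hL, inter_eq_icl Γ' (isInv_rep _), cls_rep, icl_inv, neg_neg]
  exact ⟨E, key Γ rfl, key⟩

theorem sum_rel_nonpos {Γ : ArSurf.VertComp R X} (C : Finset X.left) (hC : ∀ z ∈ C, IsMaxPt z)
    (hξ : Models.genPtOf R X Γ ∈ C) :
    ∑ z ∈ C, (oAt (Models.specialFibreIdeal R X) z : ℤ) * icl Γ (ptCls z) ≤ 0 := by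
  obtain ⟨E, h, -⟩ := sum_rel hX C hC hξ
  rw [h]
  simp

/-- Intersection numbers depend on a vertical prime divisor only through its generic point. -/
theorem icl_eq_of_genPt_eq {Γ Γ' : ArSurf.VertComp R X} (hΓ : IsMaxComp Γ)
    (h : Models.genPtOf R X Γ' = Models.genPtOf R X Γ) {w : X.left} (hw : IsMaxPt w) :
    icl Γ' (ptCls w) = icl Γ (ptCls w) := by
  have hker : Γ'.ι.ker = Γ.ι.ker := by rw [ker_eq_ptIdeal, ker_eq_ptIdeal, h]
  by_cases hwξ : w = Models.genPtOf R X Γ
  · subst hwξ
    obtain ⟨E, -, key⟩ := sum_rel hX {Models.genPtOf R X Γ}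
      (fun z hz => by rw [Finset.mem_singleton.1 hz]; exact isMaxPt_genPt hΓ) (Finset.mem_singleton_self _)
    have h1 := key Γ' h
    have h2 := key Γ rfl
    rw [Finset.sum_singleton] at h1 h2
    rw [hker, ← h2] at h1
    refine mul_left_cancel₀ ?_ h1
    rw [← mult_eq' Γ]
    exact_mod_cast (mult_pos hΓ hX).ne'
  · have hD := isEffCartier_ptIdeal hX hw
    let L := rep (ptCls w)
    have hL : ClSub.IsInverseOf L (ClSub.idealMod (ptIdeal w)) :=
      (Cube.clsMod_eq_one_iff (Ample.isInvertible_tensorMod (isInv_rep _)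
        (IdealModSec.isInvertible_of_isEffCartier hD))).1
        (by rw [Cube.clsMod_tensorMod (isInv_rep _) (IdealModSec.isInvertible_of_isEffCartier hD), cls_rep,
          ptCls_eq hX hw, inv_mul_cancel])
    have hn : Models.genPtOf R X Γ ∉ (ptIdeal w).support := by
      intro hm
      rw [← SetLike.mem_coe, support_ptIdeal] at hm
      exact hwξ (eq_genPt hΓ hw.1 (specializes_iff_mem_closure.2 hm))
    show ArSurf.inter R X L Γ' = ArSurf.inter R X L Γ
    rw [inter_eq_lengthH Γ' hD (h ▸ hn) hL, inter_eq_lengthH Γ hD hn hL, hker]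

/-- The intersection form of any family of components is non-positive. -/
theorem form_nonpos {r : ℕ} (Γ : Fin r → ArSurf.VertComp R X) (hΓ : ∀ i, IsMaxComp (Γ i))
    (L : Fin r → X.left.Modules) (hL : ∀ j, ClSub.IsInverseOf (L j) (ClSub.idealMod (Γ j).ι.ker))
    (a : Fin r → ℤ) :
    (Finset.univ : Finset (Fin r × Fin r)).sum
      (fun p => a p.1 * a p.2 * ArSurf.inter R X (L p.2) (Γ p.1)) ≤ 0 := by
  classical
  let ξ := fun i => Models.genPtOf R X (Γ i)
  let C := Finset.univ.image ξ
  have hC : ∀ z ∈ C, IsMaxPt z := fun z hz => by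
    obtain ⟨i, -, rfl⟩ := Finset.mem_image.1 hz
    exact isMaxPt_genPt (hΓ i)
  let e := C.equivFin.symm
  have hg : ∀ k, ∃ i, ξ i = (e k : X.left) := fun k => by
    obtain ⟨i, -, hi⟩ := Finset.mem_image.1 (e k).2
    exact ⟨i, hi⟩
  choose g hg using hg
  let c : Fin r → Fin C.card := fun i => e.symm ⟨ξ i, Finset.mem_image_of_mem _ (Finset.mem_univ i)⟩
  have hc : ∀ i, ξ (g (c i)) = ξ i := fun i => by rw [hg]; simp [c]
  let A : Fin C.card → Fin C.card → ℤ := fun k l => icl (Γ (g k)) (ptCls (e l : X.left))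
  have hA : ∀ p q, ArSurf.inter R X (L q) (Γ p) = A (c p) (c q) := fun p q => by
    show _ = icl (Γ (g (c p))) (ptCls (e (c q) : X.left))
    rw [show (e (c q) : X.left) = ξ q by simp [c], inter_eq_icl_ptCls hX (hΓ q) (hL q),
      icl_eq_of_genPt_eq hX (hΓ p) (hc p) (isMaxPt_genPt (hΓ q))]
  have hne : ∀ k l, k ≠ l → ξ (g k) ≠ ξ (g l) := fun k l h e' => h (e.injective (Subtype.ext (by
    rw [← hg, ← hg, e'])))
  have hrange : ∀ k l, k ≠ l → Set.range (Γ (g k)).ι.base ≠ Set.range (Γ (g l)).ι.base := fun k l h e' => by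
    refine hne k l h (inseparable_iff_closure_eq.2 ?_).eq
    rw [← range_eq_closure, ← range_eq_closure, e']
  have hA' : ∀ k l, ArSurf.inter R X (L (g l)) (Γ (g k)) = A k l := fun k l => by
    show _ = icl (Γ (g k)) (ptCls (e l : X.left))
    rw [inter_eq_icl_ptCls hX (hΓ _) (hL _), show Models.genPtOf R X (Γ (g l)) = (e l : X.left) from hg l]
  have hsymm : ∀ k l, A k l = A l k := fun k l => by
    rcases eq_or_ne k l with rfl | h
    · rfl
    · rw [← hA', ← hA']
      exact inter_symm_of_ne hX (hΓ _) (hΓ _) (hrange k l h) (hL _) (hL _)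
  have hoff : ∀ k l, k ≠ l → 0 ≤ A k l := fun k l h => by
    rw [← hA']
    exact inter_nonneg _ (isEffCartier_ker (hΓ _) hX) (notMem_support_ker_of_ne (hΓ _) (hrange k l h)) (hL _)
  let m : Fin C.card → ℤ := fun k => (oAt (Models.specialFibreIdeal R X) (e k : X.left) : ℤ)
  have hm : ∀ k, 0 < m k := fun k => by
    show (0 : ℤ) < (oAt _ (e k : X.left) : ℤ)
    rw [← hg k, ← mult_eq']
    exact_mod_cast mult_pos (hΓ _) hX
  have hAm : ∀ k, ∑ l, A k l * m l ≤ 0 := fun k => by
    refine le_of_eq_of_le ?_ (sum_rel_nonpos hX (Γ := Γ (g k)) C hC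
      (Finset.mem_image_of_mem ξ (Finset.mem_univ _)))
    rw [← C.sum_coe_sort, ← e.sum_comp]
    exact Finset.sum_congr rfl fun l _ => mul_comm _ _
  have h := quad_nonpos A m hm hsymm hoff hAm (fun k => ∑ i ∈ Finset.univ.filter (c · = k), a i)
  refine le_of_eq_of_le ?_ h
  rw [Fintype.sum_prod_type, ← Finset.sum_fiberwise Finset.univ c]
  refine Finset.sum_congr rfl fun k _ => ?_
  refine (Finset.sum_congr rfl fun p _ => (Finset.sum_fiberwise Finset.univ c _).symm).trans ?_
  rw [Finset.sum_comm]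
  refine Finset.sum_congr rfl fun l _ => ?_
  rw [Finset.sum_mul_sum, Finset.sum_mul]
  refine Finset.sum_congr rfl fun p hp => ?_
  rw [Finset.sum_mul]
  refine Finset.sum_congr rfl fun q hq => ?_
  rw [hA p q, (Finset.mem_filter.1 hp).2, (Finset.mem_filter.1 hq).2]

end GrothLib.ArSurf29
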